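import Cfsg.Agent.Lib.MTwentyTwoUnique.NSE
import Cfsg.Agent.Lib.MathieuBlocks.Five
import Mathlib

/-!
Numbers of elements of given order modulo a prime, read off the centralizer of an element of that order.
-/

set_option autoImplicit false
set_option linter.style.haveILetI false

noncomputable section

namespace CfsgLib.MTwentyThreeUnique

open Subgroup

variable {G : Type*} [Group G] [Finite G]

/-- Modulo the order of `x`, only the elements centralizing `x` are counted. -/
theorem count_modEq {p : ℕ} [Fact p.Prime] {x : G} (hx : orderOf x = p) (k : ℕ) :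
    Nat.card {g : G // orderOf g = k} ≡
      Nat.card {g : centralizer ({x} : Set G) // orderOf g = k} [MOD p] := by
  let e : Equiv.Perm {g : G // orderOf g = k} :=
    (MulAut.conj x).toEquiv.subtypeEquiv fun g => by
      show orderOf g = k ↔ orderOf (MulAut.conj x g) = k
      rw [MulEquiv.orderOf_eq]
  have he : e ^ p = 1 := by
    apply Equiv.ext
    intro g
    have key : ∀ j : ℕ, ((e ^ j) g : G) = x ^ j * g * (x ^ j)⁻¹ := by
      intro j
      induction j with
      | zero => simp
      | succ j ih =>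
        rw [pow_succ' e j, Equiv.Perm.mul_apply]
        show x * ((e ^ j) g : G) * x⁻¹ = _
        rw [ih, pow_succ' x j]; group
    refine Subtype.ext ?_
    rw [key, ← hx, pow_orderOf_eq_one]
    simp
  have hfix : Nat.card {g : {g : G // orderOf g = k} // e g = g} =
      Nat.card {g : centralizer ({x} : Set G) // orderOf g = k} := by
    refine Nat.card_congr
      { toFun := fun g => ⟨⟨(g.1 : G), ?_⟩, (Subgroup.orderOf_mk _ _).trans g.1.2⟩
        invFun := fun g => ⟨⟨(g.1 : G), (Subgroup.orderOf_coe g.1).trans g.2⟩, ?_⟩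
        left_inv := fun g => rfl
        right_inv := fun g => rfl }
    · exact mem_centralizer_singleton_iff.2 (mul_inv_eq_iff_eq_mul.1 (congrArg Subtype.val g.2)).symm
    · exact Subtype.ext (mul_inv_eq_iff_eq_mul.2 (mem_centralizer_singleton_iff.1 g.1.2).symm)
  rw [← hfix]
  exact CfsgLib.KnownSimple.Order7920.perm_fixed_modEq e he

/-- Elements of given order in a cyclic group. -/
theorem count_cyclic (C : Type*) [Group C] [Finite C] [IsCyclic C] (k : ℕ) :
    Nat.card {g : C // orderOf g = k} = if k ∣ Nat.card C then k.totient else 0 := by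
  classical
  haveI := Fintype.ofFinite C
  split_ifs with h
  · rw [Nat.card_eq_fintype_card, Fintype.card_subtype]
    exact IsCyclic.card_orderOf_eq_totient (Nat.card_eq_fintype_card (α := C) ▸ h)
  · rw [Nat.card_eq_zero]
    exact Or.inl ⟨fun g => h (g.2 ▸ orderOf_dvd_natCard g.1)⟩

/-- The counts modulo `p` when the centralizer is cyclic. -/
theorem count_mod_cyclic {p : ℕ} [Fact p.Prime] {x : G} (hx : orderOf x = p)
    [IsCyclic (centralizer ({x} : Set G))] (k : ℕ) :
    Nat.card {g : G // orderOf g = k} % p =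
      (if k ∣ Nat.card (centralizer ({x} : Set G)) then k.totient else 0) % p := by
  rw [← count_cyclic]
  exact count_modEq hx k

/-- A centralizer of order twice or thrice the prime is cyclic. -/
theorem isCyclic_centralizer {p q : ℕ} [Fact q.Prime] (hp : p.Prime) (hpq : p ≠ q) {x : G}
    (hx : orderOf x = p) (hC : Nat.card (centralizer ({x} : Set G)) = q * p) :
    IsCyclic (centralizer ({x} : Set G)) := by
  obtain ⟨t, ht⟩ := exists_prime_orderOf_dvd_card' (G := centralizer ({x} : Set G)) q (by rw [hC]; exact dvd_mul_right q p)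
  let x' : centralizer ({x} : Set G) := ⟨x, mem_centralizer_singleton_iff.2 rfl⟩
  have hx' : orderOf x' = p := by rw [Subgroup.orderOf_mk, hx]
  have hc : Commute t x' := Subtype.ext (mem_centralizer_singleton_iff.1 t.2)
  refine isCyclic_of_orderOf_eq_card (t * x') ?_
  rw [hc.orderOf_mul_eq_mul_orderOf_of_coprime
    (by rw [ht, hx']; exact (Nat.coprime_primes Fact.out hp).2 hpq.symm), ht, hx', hC]

/-- Conjugate Sylow subgroups of prime order give centralizers of equal order. -/
theorem card_centralizer_eq {p : ℕ} [Fact p.Prime] (hG : (Nat.card G).factorization p = 1) {x y : G}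
    (hx : orderOf x = p) (hy : orderOf y = p) :
    Nat.card (centralizer ({y} : Set G)) = Nat.card (centralizer ({x} : Set G)) := by
  obtain ⟨w, i, h0, hi, e⟩ := CfsgLib.MathieuBlocks.conj_pow_of_sylow hG hx hy
  have hxi : orderOf (x ^ i) = p := by
    rw [orderOf_pow' x h0.ne', hx, (Nat.coprime_of_lt_prime h0.ne' hi Fact.out).gcd_eq_one, Nat.div_one]
  have hz : zpowers (x ^ i) = zpowers x :=
    eq_of_le_of_card_ge (zpowers_le.2 (pow_mem (mem_zpowers x) i))
      (by rw [Nat.card_zpowers, Nat.card_zpowers, hx, hxi])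
  have hC : centralizer ({x ^ i} : Set G) = centralizer ({x} : Set G) := by
    rw [← centralizer_closure, ← zpowers_eq_closure, hz, zpowers_eq_closure, centralizer_closure]
  rw [← hC, e]
  refine (Nat.card_congr ((MulAut.conj w).toEquiv.subtypeEquiv fun a => ?_)).symm
  show a ∈ centralizer ({x ^ i} : Set G) ↔ w * a * w⁻¹ ∈ centralizer ({w * x ^ i * w⁻¹} : Set G)
  rw [mem_centralizer_singleton_iff, mem_centralizer_singleton_iff,
    show w * a * w⁻¹ * (w * x ^ i * w⁻¹) = w * (a * x ^ i) * w⁻¹ by group,
    show w * x ^ i * w⁻¹ * (w * a * w⁻¹) = w * (x ^ i * a) * w⁻¹ by group, mul_left_inj, mul_right_inj]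

/-- Elements of order at least three come in inverse pairs. -/
theorem count_even {k : ℕ} (h1 : k ≠ 1) (h2 : k ≠ 2) : 2 ∣ Nat.card {g : G // orderOf g = k} := by
  haveI : Fact (Nat.Prime 2) := ⟨Nat.prime_two⟩
  let e : Equiv.Perm {g : G // orderOf g = k} :=
    (Equiv.inv G).subtypeEquiv fun g => by simp
  have he : e ^ 2 = 1 := by
    ext g
    simp [pow_two, e]
  have hfix : Nat.card {g : {g : G // orderOf g = k} // e g = g} = 0 := by
    rw [Nat.card_eq_zero]
    refine Or.inl ⟨fun g => ?_⟩
    have h : (g.1 : G)⁻¹ = g.1 := congrArg Subtype.val g.2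
    have hd : orderOf (g.1 : G) ∣ 2 := orderOf_dvd_of_pow_eq_one (by rw [pow_two]; nth_rw 1 [← h]; simp)
    rw [g.1.2] at hd
    rcases (Nat.dvd_prime Nat.prime_two).1 hd with h | h
    · exact h1 h
    · exact h2 h
  have hmod := CfsgLib.KnownSimple.Order7920.perm_fixed_modEq e he
  rw [hfix] at hmod
  exact Nat.modEq_zero_iff_dvd.1 hmod

/-- A group of even order has an odd number of involutions. -/
theorem count_two_odd (h : 2 ∣ Nat.card G) : Nat.card {g : G // orderOf g = 2} % 2 = 1 := by
  classical
  haveI : Fact (Nat.Prime 2) := ⟨Nat.prime_two⟩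
  haveI := Fintype.ofFinite G
  have he : (Equiv.inv G : Equiv.Perm G) ^ 2 = 1 := by ext g; simp [pow_two]
  have hmod := CfsgLib.KnownSimple.Order7920.perm_fixed_modEq (Equiv.inv G) he
  have hset : (Finset.univ.filter fun g : G => (Equiv.inv G) g = g) =
      insert 1 (Finset.univ.filter fun g : G => orderOf g = 2) := by
    ext g
    simp only [Finset.mem_filter, Finset.mem_univ, true_and, Finset.mem_insert, Equiv.inv_apply]
    rw [orderOf_eq_prime_iff, pow_two, inv_eq_iff_mul_eq_one]
    constructor
    · intro h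
      by_cases hg : g = 1
      · exact Or.inl hg
      · exact Or.inr ⟨h, hg⟩
    · rintro (rfl | ⟨h, -⟩)
      · simp
      · exact h
  have hc : Nat.card {g : G // (Equiv.inv G) g = g} = Nat.card {g : G // orderOf g = 2} + 1 := by
    rw [Nat.card_eq_fintype_card, Nat.card_eq_fintype_card, Fintype.card_subtype, Fintype.card_subtype, hset,
      Finset.card_insert_of_notMem (by simp)]
  rw [hc] at hmod
  obtain ⟨m, hm⟩ := h
  rw [hm, Nat.ModEq] at hmod
  omega

/-- In the group `G` the number of elements of prime order `p` is the one of `M` once the residue `p - 1`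
singles it out among the counts of `M`. -/
theorem count_transfer {M : Type*} [Group M] [Finite M]
    (hnse : {c : ℕ | 0 < c ∧ ∃ n : ℕ, c = Nat.card {g : G // orderOf g = n}} =
      {c : ℕ | 0 < c ∧ ∃ n : ℕ, c = Nat.card {g : M // orderOf g = n}})
    {p : ℕ} [Fact p.Prime] (hP : ∀ P : Sylow p G, Nat.card (P : Subgroup G) = p) {x : M} (hx : orderOf x = p)
    [IsCyclic (centralizer ({x} : Set M))]
    (key : ∀ k ∈ Nat.divisors (Nat.card (centralizer ({x} : Set M))), k.totient % p = p - 1 →
      Nat.card {g : M // orderOf g = k} = Nat.card {g : M // orderOf g = p}) :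
    Nat.card {g : G // orderOf g = p} = Nat.card {g : M // orderOf g = p} := by
  have hp2 := (Fact.out : p.Prime).two_le
  have hcard := CfsgLib.Classical.Dickson.card_orderOf_eq hP
  have hn := CfsgLib.SmallGroups.mod_eq_one_card_sylow (p := p) (G := G)
  have hres : Nat.card {g : G // orderOf g = p} % p = p - 1 := by
    rw [hcard, Nat.mul_mod, hn, one_mul, Nat.mod_mod, Nat.mod_eq_of_lt (by omega)]
  have hmem : Nat.card {g : G // orderOf g = p} ∈
      {c : ℕ | 0 < c ∧ ∃ n : ℕ, c = Nat.card {g : G // orderOf g = n}} :=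
    ⟨Nat.pos_of_ne_zero fun h => by rw [h, Nat.zero_mod] at hres; omega, p, rfl⟩
  rw [hnse] at hmem
  obtain ⟨-, k, hk⟩ := hmem
  rw [hk] at hres ⊢
  rw [count_mod_cyclic hx] at hres
  split_ifs at hres with hd
  · exact key k (Nat.mem_divisors.2 ⟨hd, Nat.card_pos.ne'⟩) hres
  · rw [Nat.zero_mod] at hres; omega

/-- The number of involutions is the only odd count above one. -/
theorem count_two_transfer {M : Type*} [Group M] [Finite M]
    (hnse : {c : ℕ | 0 < c ∧ ∃ n : ℕ, c = Nat.card {g : G // orderOf g = n}} =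
      {c : ℕ | 0 < c ∧ ∃ n : ℕ, c = Nat.card {g : M // orderOf g = n}})
    (h : 2 ∣ Nat.card M) (h1 : Nat.card {g : M // orderOf g = 2} ≠ 1) :
    Nat.card {g : G // orderOf g = 2} = Nat.card {g : M // orderOf g = 2} := by
  have hodd := count_two_odd h
  have hmem : Nat.card {g : M // orderOf g = 2} ∈
      {c : ℕ | 0 < c ∧ ∃ n : ℕ, c = Nat.card {g : M // orderOf g = n}} := ⟨by omega, 2, rfl⟩
  rw [← hnse] at hmem
  obtain ⟨-, k, hk⟩ := hmem
  rw [hk] at h1 hodd ⊢
  rcases eq_or_ne k 2 with rfl | h2
  · rfl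
  · exfalso
    rcases eq_or_ne k 1 with rfl | hk1
    · refine h1 (Nat.card_eq_one_iff_exists.2 ?_)
      exact ⟨⟨1, orderOf_one⟩, fun g => Subtype.ext (orderOf_eq_one_iff.1 g.2)⟩
    · have := count_even (G := G) hk1 h2
      omega

/-- Where every centralizer of an element of order seven is cyclic of order fourteen, the elements of order
fourteen correspond to those of order seven by squaring. -/
theorem count_fourteen (hC : ∀ y : G, orderOf y = 7 → Nat.card (centralizer ({y} : Set G)) = 14) :
    Nat.card {g : G // orderOf g = 14} = Nat.card {g : G // orderOf g = 7} := by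
  haveI : Fact (Nat.Prime 2) := ⟨Nat.prime_two⟩
  have hsq : ∀ g : G, orderOf g = 14 → orderOf (g ^ 2) = 7 := fun g hg => by
    rw [orderOf_pow, hg]; norm_num
  have huniq : ∀ y : G, orderOf y = 7 → ∀ s t : centralizer ({y} : Set G), orderOf s = 2 → orderOf t = 2 → s = t := by
    intro y hy s t hs ht
    haveI := isCyclic_centralizer (p := 7) (q := 2) (by norm_num) (by norm_num) hy (hC y hy)
    have h := count_cyclic (centralizer ({y} : Set G)) 2
    rw [hC y hy, if_pos (by norm_num), Nat.totient_two] at h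
    obtain ⟨u, hu⟩ := Nat.card_eq_one_iff_exists.1 h
    exact congrArg Subtype.val ((hu ⟨s, hs⟩).trans (hu ⟨t, ht⟩).symm)
  refine Nat.card_congr (Equiv.ofBijective
    (fun g : {g : G // orderOf g = 14} => (⟨(g : G) ^ 2, hsq _ g.2⟩ : {g : G // orderOf g = 7})) ⟨?_, ?_⟩)
  · intro g h e
    have e' : (g : G) ^ 2 = (h : G) ^ 2 := congrArg Subtype.val e
    have hg : (g : G) ^ 7 ∈ centralizer ({(g : G) ^ 2} : Set G) :=
      mem_centralizer_singleton_iff.2 (Commute.pow_pow_self _ 7 2).eq
    have hh : (h : G) ^ 7 ∈ centralizer ({(g : G) ^ 2} : Set G) :=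
      mem_centralizer_singleton_iff.2 (by rw [e']; exact (Commute.pow_pow_self _ 7 2).eq)
    have o7 : ∀ u : {g : G // orderOf g = 14}, orderOf ((u : G) ^ 7) = 2 := fun u => by
      rw [orderOf_pow, u.2]; norm_num
    have h7 : (g : G) ^ 7 = (h : G) ^ 7 := congrArg Subtype.val (huniq _ (hsq _ g.2) ⟨_, hg⟩ ⟨_, hh⟩
      (by rw [Subgroup.orderOf_mk, o7]) (by rw [Subgroup.orderOf_mk, o7]))
    have key : ∀ u : {g : G // orderOf g = 14}, (u : G) = (u : G) ^ 7 * ((u : G) ^ 2) ^ 4 := fun u => by
      rw [← pow_mul, ← pow_add, show 7 + 2 * 4 = 14 + 1 by norm_num, pow_succ]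
      rw [show (u : G) ^ 14 = 1 from orderOf_dvd_iff_pow_eq_one.1 (dvd_of_eq u.2), one_mul]
    exact Subtype.ext (by rw [key g, key h, h7, e'])
  · intro y
    obtain ⟨t, ht⟩ := exists_prime_orderOf_dvd_card' (G := centralizer ({(y : G)} : Set G)) 2
      (by rw [hC _ y.2]; norm_num)
    have ht' : orderOf (t : G) = 2 := by rw [Subgroup.orderOf_coe, ht]
    have hc : Commute (t : G) (y : G) := mem_centralizer_singleton_iff.1 t.2
    have h14 : orderOf ((t : G) * (y : G) ^ 4) = 14 := by
      have h4 : orderOf ((y : G) ^ 4) = 7 := by rw [orderOf_pow, y.2]; norm_num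
      rw [(hc.pow_right 4).orderOf_mul_eq_mul_orderOf_of_coprime (by rw [ht', h4]; norm_num), ht', h4]
    refine ⟨⟨_, h14⟩, Subtype.ext ?_⟩
    show ((t : G) * (y : G) ^ 4) ^ 2 = y
    have h2 := pow_orderOf_eq_one (t : G)
    rw [ht'] at h2
    have h7 := pow_orderOf_eq_one (y : G)
    rw [y.2] at h7
    rw [(hc.pow_right 4).mul_pow, h2, one_mul, ← pow_mul, show 4 * 2 = 7 + 1 by norm_num, pow_add, h7, one_mul, pow_one]

/-- An element of prime order has its centralizer between itself and its normalizer. -/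
theorem centralizer_bounds {p N : ℕ} [Fact p.Prime] [IsSimpleGroup G] (hna : ¬ IsMulCommutative G)
    (hP : ∀ P : Sylow p G, Nat.card (P : Subgroup G) = p) {x : G} (hx : orderOf x = p)
    (hN : Nat.card (normalizer ((zpowers x : Subgroup G) : Set G)) = N) :
    Nat.card (centralizer ({x} : Set G)) ∈ Nat.divisors N ∧ p ∣ Nat.card (centralizer ({x} : Set G)) ∧
      Nat.card (centralizer ({x} : Set G)) ≠ N ∧ N ∣ (p - 1) * Nat.card (centralizer ({x} : Set G)) := by
  obtain ⟨P, hPx⟩ := (IsPGroup.of_card (p := p) (n := 1) (by rw [Nat.card_zpowers, hx, pow_one]) :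
    IsPGroup p (zpowers x)).exists_le_sylow
  have hPe : zpowers x = (P : Subgroup G) := eq_of_le_of_card_ge hPx (by rw [hP, Nat.card_zpowers, hx])
  have hC : centralizer ((P : Subgroup G) : Set G) = centralizer ({x} : Set G) := by
    rw [← hPe, zpowers_eq_closure, centralizer_closure]
  have hle := CfsgLib.SmallGroups.centralizer_le_normalizer' (P : Subgroup G)
  have hdvd := CfsgLib.SmallGroups.card_normalizer_dvd_of_card_prime (P := (P : Subgroup G)) (hP P)
  rw [hPe] at hN
  rw [hN, hC] at hdvd
  refine ⟨Nat.mem_divisors.2 ⟨?_, hN ▸ Nat.card_pos.ne'⟩, ?_, fun h => ?_, hdvd⟩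
  · rw [← hN, ← hC]; exact card_dvd_of_le hle
  · have h := orderOf_dvd_natCard (centralizer ({x} : Set G)) (mem_centralizer_singleton_iff.2 (rfl : x * x = x * x))
    rwa [hx] at h
  · refine CfsgLib.SmallGroups.not_normalizer_le_centralizer hna ((hP P) ▸ Subgroup.card_subgroup_dvd_card _) P ?_
    exact (eq_of_le_of_card_ge hle (by rw [hC, h, hN])).ge

/-- A group of order thirty with central element of order five has no multiple of five involutions. -/
theorem involutions_thirty {C : Type*} [Group C] [Finite C] (hC : Nat.card C = 30) {x : C} (hx : orderOf x = 5)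
    (hcomm : ∀ g : C, Commute x g) : ¬ 5 ∣ Nat.card {g : C // orderOf g = 2} := by
  haveI : Fact (Nat.Prime 2) := ⟨Nat.prime_two⟩
  have hP : ∀ P : Sylow 2 C, Nat.card (P : Subgroup C) = 2 := fun P => by
    simpa using CfsgLib.SmallGroups.card_sylow_eq (a := 1) (m := 15) (by rw [hC]; norm_num) (by norm_num) P
  intro h
  rw [CfsgLib.Classical.Dickson.card_orderOf_eq hP, Nat.add_one_sub_one, mul_one] at h
  obtain ⟨P⟩ : Nonempty (Sylow 2 C) := inferInstance
  have h5 : 5 ∣ Nat.card (normalizer ((P : Subgroup C) : Set C)) := by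
    rw [← hx]
    refine Subgroup.orderOf_dvd_natCard _ (mem_normalizer_iff.2 fun g => ?_)
    rw [(hcomm g).eq, mul_inv_cancel_right]
  have h25 := Nat.mul_dvd_mul h h5
  rw [CfsgLib.SmallGroups.card_sylow_mul_card_normalizer P, hC] at h25
  norm_num at h25

end CfsgLib.MTwentyThreeUnique
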