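import Cfsg.Agent.Lib.MTwentyThreeUnique.Hyp
import Cfsg.Agent.Lib.MTwentyThreeUnique.Counts
import Cfsg.Agent.Lib.MathieuNSE.Groups
import Cfsg.Agent.Lib.MTwentyTwoUnique.Concrete
import Cfsg.Agent.Lib.M24Cert.QuartetStab

/-!
The concrete Mathieu group of degree 23 has the local facts at 5, 7, 11 and 23.
-/

set_option autoImplicit false
set_option linter.style.haveILetI false

noncomputable section

namespace CfsgLib.MTwentyThreeUnique

open Subgroup Cfsg CfsgLib.Golay CfsgLib.MathieuBlocks CfsgLib.M24Cert CfsgLib.MTwentyTwoUnique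

theorem mem_M23_iff {g : Equiv.Perm GolayPt} : g ∈ Cfsg.Spor.M23 ↔ g ∈ M24 ∧ g none = none := by
  simp [Cfsg.Spor.M23, Subgroup.mem_inf, Equiv.Perm.smul_def]

theorem m22_le_m23 : Cfsg.Spor.M22 ≤ Cfsg.Spor.M23 := fun _ h =>
  mem_M23_iff.2 ⟨(mem_M22_iff.1 h).1, (mem_M22_iff.1 h).2.1⟩

/-- A centralizer in M23 is at most its part in M22 times the number of available fixed points. -/
theorem centralizer_le_of_m22 {p f c : ℕ} (x : ↥Cfsg.Spor.M22) (hx : orderOf x = p)
    (hc : ∀ y : ↥Cfsg.Spor.M22, orderOf y = p → Nat.card (centralizer ({y} : Set ↥Cfsg.Spor.M22)) = c)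
    (hfix : (Finset.univ.filter fun q => (x : Equiv.Perm GolayPt) q = q).card ≤ f + 1) :
    Nat.card (centralizer ({(⟨x, m22_le_m23 x.2⟩ : ↥Cfsg.Spor.M23)} : Set ↥Cfsg.Spor.M23)) ≤ f * c := by
  classical
  set σ : Equiv.Perm GolayPt := (x : Equiv.Perm GolayPt) with hσ
  set C := centralizer ({(⟨σ, m22_le_m23 x.2⟩ : ↥Cfsg.Spor.M23)} : Set ↥Cfsg.Spor.M23) with hCdef
  have hcomm : ∀ g : C, ((g : ↥Cfsg.Spor.M23) : Equiv.Perm GolayPt) * σ =
      σ * ((g : ↥Cfsg.Spor.M23) : Equiv.Perm GolayPt) := fun g =>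
    congrArg Subtype.val (mem_centralizer_singleton_iff.1 g.2)
  obtain ⟨-, xn, x0⟩ := mem_M22_iff.1 x.2
  have horb : Nat.card (MulAction.orbit C (some 0 : GolayPt)) ≤ f := by
    have hsub : MulAction.orbit C (some 0 : GolayPt) ⊆
        ((((Finset.univ.filter fun q => σ q = q).erase none : Finset GolayPt)) : Set GolayPt) := by
      rintro _ ⟨g, rfl⟩
      show ((g : ↥Cfsg.Spor.M23) : Equiv.Perm GolayPt) (some 0) ∈ _
      rw [Finset.mem_coe, Finset.mem_erase, Finset.mem_filter]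
      refine ⟨fun e => ?_, Finset.mem_univ _, ?_⟩
      · rw [← (mem_M23_iff.1 (g : ↥Cfsg.Spor.M23).2).2] at e
        exact absurd (((g : ↥Cfsg.Spor.M23) : Equiv.Perm GolayPt).injective e) (by simp)
      · rw [← Equiv.Perm.mul_apply, ← hcomm, Equiv.Perm.mul_apply, hσ, x0]
    refine le_trans (Nat.card_mono (Finset.finite_toSet _) hsub) ?_
    have hn : (none : GolayPt) ∈ Finset.univ.filter fun q => σ q = q := by simp [hσ, xn]
    have he := Finset.card_erase_of_mem hn
    rw [Nat.card_coe_set_eq, Set.ncard_coe_finset]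
    omega
  have hstab : Nat.card (MulAction.stabilizer C (some 0 : GolayPt)) ≤ c := by
    rw [← hc x hx]
    refine Nat.card_le_card_of_injective
      (fun g => ⟨⟨((g.1 : ↥Cfsg.Spor.M23) : Equiv.Perm GolayPt), mem_M22_iff.2
        ⟨(mem_M23_iff.1 (g.1 : ↥Cfsg.Spor.M23).2).1, (mem_M23_iff.1 (g.1 : ↥Cfsg.Spor.M23).2).2,
          MulAction.mem_stabilizer_iff.1 g.2⟩⟩, mem_centralizer_singleton_iff.2 (Subtype.ext (hcomm g.1))⟩)
      fun a b h => ?_
    exact Subtype.ext (Subtype.ext (Subtype.ext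
      (congrArg (fun u : centralizer ({x} : Set ↥Cfsg.Spor.M22) => ((u : ↥Cfsg.Spor.M22) : Equiv.Perm GolayPt)) h)))
  rw [← Nat.card_congr (MulAction.orbitProdStabilizerEquivGroup C (some 0 : GolayPt)), Nat.card_prod]
  exact Nat.mul_le_mul horb hstab

/-- An element of order fourteen fixing the last point. -/
def g14L : List ℕ :=
  [1, 10, 18, 17, 19, 3, 21, 14, 15, 13, 5, 8, 22, 6, 12, 7, 9, 20, 16, 4, 2, 0, 11, 23]

/-- An element of order fifteen fixing the last point. -/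
def g15L : List ℕ :=
  [8, 3, 20, 13, 17, 12, 9, 19, 7, 15, 14, 2, 1, 5, 21, 0, 4, 11, 22, 16, 18, 10, 6, 23]

theorem big_lists : m24Test g14L = true ∧ g14L.getD 23 0 = 23 ∧ powQL g14L 14 = List.range 24 ∧
    powQL g14L 2 ≠ List.range 24 ∧ powQL g14L 7 ≠ List.range 24 ∧
    m24Test g15L = true ∧ g15L.getD 23 0 = 23 ∧ powQL g15L 15 = List.range 24 ∧
    powQL g15L 3 ≠ List.range 24 ∧ powQL g15L 5 ≠ List.range 24 := by
  refine ⟨?_, ?_, ?_, ?_, ?_, ?_, ?_, ?_, ?_, ?_⟩ <;> decide +kernel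

theorem exists_order_pair {L : List ℕ} (h : m24Test L = true) (h23 : L.getD 23 0 = 23) {a b : ℕ}
    (ha : a.Prime) (hb : b.Prime) (hab : a ≠ b) (hn : powQL L (a * b) = List.range 24)
    (hna : powQL L a ≠ List.range 24) (hnb : powQL L b ≠ List.range 24) :
    ∃ g : ↥Cfsg.Spor.M23, orderOf g = a * b := by
  have hv := valid_of_m24Test h
  have hm : pL L ∈ Cfsg.Spor.M23 := mem_M23_iff.2 ⟨mem_M24_of_test h, by
    rw [← pt_last, pL_pt hv (by omega), h23]⟩
  refine ⟨⟨pL L, hm⟩, ?_⟩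
  rw [Subgroup.orderOf_mk]
  have hp : ∀ k, pL L ^ k = 1 → powQL L k = List.range 24 := fun k e =>
    pL_inj (pL_powQL hv k).1 (by decide) (((pL_powQL hv k).2.trans e).trans pL_range.symm)
  have hab1 : pL L ^ (a * b) = 1 := by rw [← (pL_powQL hv _).2, hn, pL_range]
  have hd : orderOf (pL L) ∈ Nat.divisors (a * b) :=
    Nat.mem_divisors.2 ⟨orderOf_dvd_of_pow_eq_one hab1, (Nat.mul_pos ha.pos hb.pos).ne'⟩
  rw [Nat.divisors_mul, Finset.mem_mul, ha.divisors, hb.divisors] at hd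
  obtain ⟨u, hu, v, hv', e⟩ := hd
  simp only [Finset.mem_insert, Finset.mem_singleton] at hu hv'
  have na : ¬ orderOf (pL L) ∣ a := fun hh => hna (hp a (orderOf_dvd_iff_pow_eq_one.1 hh))
  have nb : ¬ orderOf (pL L) ∣ b := fun hh => hnb (hp b (orderOf_dvd_iff_pow_eq_one.1 hh))
  rw [← e] at na nb ⊢
  rcases hu with rfl | rfl <;> rcases hv' with rfl | rfl <;> simp at na nb ⊢

theorem factorization_m23 {p m : ℕ} (hp : p.Prime) (h : 10200960 = p ^ 1 * m) (hm : ¬ p ∣ m) :
    (Nat.card ↥Cfsg.Spor.M23).factorization p = 1 :=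
  factorization_one hp (card_sporM23.trans h) hm

/-- A root of an element centralizes it. -/
theorem le_card_centralizer {G : Type*} [Group G] [Finite G] {g : G} (k : ℕ) :
    orderOf g ≤ Nat.card (centralizer ({g ^ k} : Set G)) :=
  Nat.le_of_dvd Nat.card_pos (Subgroup.orderOf_dvd_natCard _
    (mem_centralizer_singleton_iff.2 (Commute.self_pow g k).eq))

theorem m23_five {x : ↥Cfsg.Spor.M23} (hx : orderOf x = 5) :
    Nat.card (centralizer ({x} : Set ↥Cfsg.Spor.M23)) = 15 := by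
  haveI : Fact (Nat.Prime 5) := ⟨by norm_num⟩
  have hG := factorization_m23 (p := 5) (m := 2040192) (by norm_num) (by norm_num) (by norm_num)
  obtain ⟨-, -, -, -, -, h, h23, hn, h3, h5⟩ := big_lists
  obtain ⟨g, hg⟩ := exists_order_pair h h23 (a := 3) (b := 5) (by norm_num) (by norm_num) (by norm_num) hn h3 h5
  have hg' : orderOf (g ^ 3) = 5 := by rw [orderOf_pow, hg]; norm_num
  obtain ⟨y, hy⟩ := exists_prime_orderOf_dvd_card' (G := ↥Cfsg.Spor.M22) 5 (by rw [card_sporM22]; norm_num)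
  refine le_antisymm ?_ ?_
  · rw [card_centralizer_eq hG
      (x := (⟨y, m22_le_m23 y.2⟩ : ↥Cfsg.Spor.M23)) (by rw [Subgroup.orderOf_mk, Subgroup.orderOf_coe, hy]) hx]
    exact centralizer_le_of_m22 (f := 3) y hy (fun z hz => m22_five hz)
      (five_fixed_card (m22_le y.2) ((Subgroup.orderOf_coe y).trans hy)).le
  · rw [card_centralizer_eq hG hg' hx]
    exact le_trans (by rw [hg]) (le_card_centralizer 3)

theorem m22_fixed {p : ℕ} (x : ↥Cfsg.Spor.M22) (hp : p.Prime) (hx : orderOf x = p) :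
    (Finset.univ.filter fun q => (x : Equiv.Perm GolayPt) q = q).card % p = 24 % p ∧
      2 ≤ (Finset.univ.filter fun q => (x : Equiv.Perm GolayPt) q = q).card ∧
      (Finset.univ.filter fun q => (x : Equiv.Perm GolayPt) q = q).card ≤ 8 := by
  classical
  haveI := Fact.mk hp
  have hσ : orderOf (x : Equiv.Perm GolayPt) = p := by rw [Subgroup.orderOf_coe, hx]
  have hσ1 : (x : Equiv.Perm GolayPt) ≠ 1 := fun h => by rw [h, orderOf_one] at hσ; exact hp.one_lt.ne hσ
  refine ⟨?_, two_le_fixed x.2, fixed_le_eight (m22_le x.2) hσ1⟩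
  have h := Equiv.Perm.card_compl_support_modEq (n := 1) (σ := (x : Equiv.Perm GolayPt))
    (p := p) (by rw [pow_one]; exact orderOf_dvd_iff_pow_eq_one.1 (dvd_of_eq hσ))
  rw [CfsgLib.MathieuNSE.card_points] at h
  refine Eq.trans ?_ h
  congr 2
  ext q
  simp

theorem m23_seven {x : ↥Cfsg.Spor.M23} (hx : orderOf x = 7) :
    Nat.card (centralizer ({x} : Set ↥Cfsg.Spor.M23)) = 14 := by
  haveI : Fact (Nat.Prime 7) := ⟨by norm_num⟩
  have hG := factorization_m23 (p := 7) (m := 1457280) (by norm_num) (by norm_num) (by norm_num)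
  obtain ⟨h, h23, hn, h2, h7, -⟩ := big_lists
  obtain ⟨g, hg⟩ := exists_order_pair h h23 (a := 2) (b := 7) (by norm_num) (by norm_num) (by norm_num) hn h2 h7
  have hg' : orderOf (g ^ 2) = 7 := by rw [orderOf_pow, hg]; norm_num
  obtain ⟨y, hy⟩ := exists_prime_orderOf_dvd_card' (G := ↥Cfsg.Spor.M22) 7 (by rw [card_sporM22]; norm_num)
  refine le_antisymm ?_ ?_
  · rw [card_centralizer_eq hG
      (x := (⟨y, m22_le_m23 y.2⟩ : ↥Cfsg.Spor.M23)) (by rw [Subgroup.orderOf_mk, Subgroup.orderOf_coe, hy]) hx]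
    exact centralizer_le_of_m22 (f := 2) y hy (fun z hz => m22_seven hz)
      (by have := m22_fixed y (p := 7) (by norm_num) hy; omega)
  · rw [card_centralizer_eq hG hg' hx]
    exact le_trans (by rw [hg]) (le_card_centralizer 2)

theorem m23_eleven {x : ↥Cfsg.Spor.M23} (hx : orderOf x = 11) :
    Nat.card (centralizer ({x} : Set ↥Cfsg.Spor.M23)) = 11 := by
  haveI : Fact (Nat.Prime 11) := ⟨by norm_num⟩
  obtain ⟨y, hy⟩ := exists_prime_orderOf_dvd_card' (G := ↥Cfsg.Spor.M22) 11 (by rw [card_sporM22]; norm_num)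
  refine le_antisymm ?_ ?_
  · rw [card_centralizer_eq (factorization_m23 (p := 11) (m := 927360) (by norm_num) (by norm_num) (by norm_num))
      (x := (⟨y, m22_le_m23 y.2⟩ : ↥Cfsg.Spor.M23)) (by rw [Subgroup.orderOf_mk, Subgroup.orderOf_coe, hy]) hx]
    exact centralizer_le_of_m22 (f := 1) y hy (fun z hz => m22_eleven hz)
      (by have := m22_fixed y (p := 11) (by norm_num) hy; omega)
  · simpa [hx] using le_card_centralizer (g := x) 1

theorem m23_twentyThree {x : ↥Cfsg.Spor.M23} (hx : orderOf x = 23) :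
    Nat.card (centralizer ({x} : Set ↥Cfsg.Spor.M23)) = 23 := by
  classical
  haveI : Fact (Nat.Prime 23) := ⟨by norm_num⟩
  refine le_antisymm ?_ (by simpa [hx] using le_card_centralizer (g := x) 1)
  have h := CfsgLib.SmallGroups.card_centralizer_of_orderOf_eq (p := 23) (α := GolayPt)
    (by rw [CfsgLib.MathieuNSE.card_points]; norm_num) (σ := (x : Equiv.Perm GolayPt))
    (by rw [Subgroup.orderOf_coe, hx])
  rw [CfsgLib.MathieuNSE.card_points] at h
  refine le_trans (Nat.card_le_card_of_injective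
    (fun g : centralizer ({x} : Set ↥Cfsg.Spor.M23) =>
      (⟨((g : ↥Cfsg.Spor.M23) : Equiv.Perm GolayPt), mem_centralizer_singleton_iff.2
        (congrArg Subtype.val (mem_centralizer_singleton_iff.1 g.2))⟩ :
        centralizer ({(x : Equiv.Perm GolayPt)} : Set (Equiv.Perm GolayPt))))
    fun a b e => Subtype.ext (Subtype.ext (congrArg
      (fun u : centralizer ({(x : Equiv.Perm GolayPt)} : Set (Equiv.Perm GolayPt)) => (u : Equiv.Perm GolayPt)) e))) (le_of_eq ?_)
  rw [h]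
  rfl

/-- The normalizer of a Sylow subgroup of M23 of prime order. -/
theorem m23_normalizer {p m c N : ℕ} (hp : p.Prime) (hm : 10200960 = p ^ 1 * m) (hpm : ¬ p ∣ m)
    {x : ↥Cfsg.Spor.M23} (hx : orderOf x = p) (hc : Nat.card (centralizer ({x} : Set ↥Cfsg.Spor.M23)) = c)
    (key : ∀ d ∈ Nat.divisors ((p - 1) * c), c ∣ d → d ∣ 10200960 → (10200960 / d) % p = 1 → d = N) :
    Nat.card (normalizer ((zpowers x : Subgroup ↥Cfsg.Spor.M23) : Set ↥Cfsg.Spor.M23)) = N := by
  haveI := Fact.mk hp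
  refine card_normalizer_of_centralizer (factorization_m23 hp hm hpm) hx hc ?_
  rw [card_sporM23]
  intro d hd hcd n _ hnd hn
  refine key d hd hcd (Dvd.intro_left n hnd) ?_
  rw [← hnd, Nat.mul_div_cancel _ (Nat.pos_of_mem_divisors hd)]
  exact hn

/-- The concrete group satisfies the local hypotheses. -/
theorem local_M23 : Local ↥Cfsg.Spor.M23 where
  card := card_sporM23
  simple := sporM23_simple
  twentyThree _ hx := ⟨m23_twentyThree hx, m23_normalizer (m := 443520) (by norm_num) (by norm_num) (by norm_num) hx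
    (m23_twentyThree hx) (by decide +kernel)⟩
  eleven _ hx := ⟨m23_eleven hx, m23_normalizer (m := 927360) (by norm_num) (by norm_num) (by norm_num) hx
    (m23_eleven hx) (by decide +kernel)⟩
  seven _ hx := ⟨m23_seven hx, m23_normalizer (m := 1457280) (by norm_num) (by norm_num) (by norm_num) hx
    (m23_seven hx) (by decide +kernel)⟩
  five _ hx := ⟨m23_five hx, m23_normalizer (m := 2040192) (by norm_num) (by norm_num) (by norm_num) hx
    (m23_five hx) (by decide +kernel)⟩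

end CfsgLib.MTwentyThreeUnique
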