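import Cfsg.Agent.Lib.MTwentyTwoUnique.SelfCent
import Cfsg.Agent.Lib.MathieuBlocks.Values
import Mathlib

/-!
The local facts at 5, 7, 11 and 23 from which a group of order 10200960 is identified with the Mathieu
group of degree 23.
-/

set_option autoImplicit false

noncomputable section

namespace CfsgLib.MTwentyThreeUnique

open Subgroup CfsgLib.InvolChar Cfsg
attribute [local instance] Classical.propDecidable

/-- The order, simplicity and the Sylow normalizers at 5, 7, 11, 23. -/
structure Local (G : Type*) [Group G] : Prop where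
  card : Nat.card G = 10200960
  simple : IsSimpleGroup G
  twentyThree : ∀ x : G, orderOf x = 23 → Nat.card (centralizer ({x} : Set G)) = 23 ∧
    Nat.card (normalizer ((zpowers x : Subgroup G) : Set G)) = 253
  eleven : ∀ x : G, orderOf x = 11 → Nat.card (centralizer ({x} : Set G)) = 11 ∧
    Nat.card (normalizer ((zpowers x : Subgroup G) : Set G)) = 55
  seven : ∀ x : G, orderOf x = 7 → Nat.card (centralizer ({x} : Set G)) = 14 ∧
    Nat.card (normalizer ((zpowers x : Subgroup G) : Set G)) = 42
  five : ∀ x : G, orderOf x = 5 → Nat.card (centralizer ({x} : Set G)) = 15 ∧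
    Nat.card (normalizer ((zpowers x : Subgroup G) : Set G)) = 60

variable {G : Type*} [Group G] [Fintype G] (hL : Local G)

include hL

omit [Fintype G] in
theorem not_comm : ¬ IsMulCommutative G := by
  haveI : Finite G := Nat.finite_of_card_ne_zero (by rw [hL.card]; norm_num)
  haveI := hL.simple
  exact CfsgLib.SmallGroups.not_isMulCommutative_of_not_prime (by rw [hL.card]; norm_num)

theorem linear_trivial (f : G →* ℂˣ) : f = 1 := by
  haveI := hL.simple
  ext g
  have hp : commutator G = ⊤ := CfsgLib.SmallGroups.commutator_eq_top_of_simple (not_comm hL)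
  have hg : g ∈ f.ker := Abelianization.commutator_subset_ker f (by rw [hp]; exact mem_top g)
  exact congrArg Units.val (MonoidHom.mem_ker.mp hg)

theorem deg_dvd (χ : IrrCharacter G) : deg χ ∣ 10200960 :=
  hL.card ▸ CfsgLib.Char.degree_dvd_card χ.2 (deg_spec χ)

theorem sum_sq_deg : ∑ χ : IrrCharacter G, deg χ * deg χ = 10200960 := by
  have h := CfsgLib.Char.sum_degree_sq (G := G)
  simp only [deg_spec, hL.card, ← pow_two] at h
  simp only [← pow_two]
  exact_mod_cast h

theorem deg_ne_one {χ : IrrCharacter G} (hχ : χ ≠ CfsgLib.Char.irrOne) : deg χ ≠ 1 := by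
  haveI := hL.simple
  exact fun h => hχ (CfsgLib.SmallGroups.MElevenDegrees.eq_irrOne_of_deg_one (not_comm hL) χ h)

theorem deg_sq_lt {χ : IrrCharacter G} (hχ : χ ≠ CfsgLib.Char.irrOne) :
    2 ≤ deg χ ∧ deg χ < 3194 := by
  have h1 := deg_ne_one hL hχ
  have h2 := deg_pos χ
  have h3 := CfsgLib.MathieuBlocks.degree_sq_lt χ.2 (deg_spec χ) h1
  rw [hL.card] at h3
  refine ⟨by omega, ?_⟩
  by_contra hc
  have : 3194 * 3194 ≤ deg χ * deg χ := Nat.mul_le_mul (by omega) (by omega)
  omega

/-- The Sylow data in the shape the block theorem wants. -/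
theorem sylow_data {p c N : ℕ} [Fact p.Prime] (hp : p ^ 1 * (10200960 / p) = 10200960)
    (hp' : ¬ p ∣ 10200960 / p)
    (hloc : ∀ x : G, orderOf x = p → Nat.card (centralizer ({x} : Set G)) = c ∧
      Nat.card (normalizer ((zpowers x : Subgroup G) : Set G)) = N) (P : Sylow p G) :
    Nat.card (P : Subgroup G) = p ∧ Nat.card (centralizer ((P : Subgroup G) : Set G)) = c ∧
      c * (centralizer ((P : Subgroup G) : Set G)).relIndex (normalizer ((P : Subgroup G) : Set G)) = N := by
  have hP : Nat.card (P : Subgroup G) = p := by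
    simpa using CfsgLib.SmallGroups.card_sylow_eq (hL.card.trans hp.symm) hp' P
  have hz := CfsgLib.Blocks.PrimeSylow.zpowers_gen P hP
  obtain ⟨h1, h2⟩ := hloc _ (CfsgLib.Blocks.PrimeSylow.orderOf_gen P hP)
  rw [← centralizer_closure, ← zpowers_eq_closure, hz] at h1
  rw [hz] at h2
  refine ⟨hP, h1, ?_⟩
  rw [← h2, ← h1]
  exact CfsgLib.SmallGroups.Order459648.card_centralizer_mul_relIndex _

open CfsgLib.MTwentyTwoUnique in
/-- The principal 23-block. -/
theorem exists_blk23 : Nonempty (SC G 23 11) := by
  haveI : Fact (Nat.Prime 23) := ⟨by norm_num⟩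
  obtain ⟨P⟩ : Nonempty (Sylow 23 G) := inferInstance
  obtain ⟨hP, hC, he⟩ := sylow_data hL (c := 23) (N := 253) (by norm_num) (by norm_num) hL.twentyThree P
  exact exists_sc P hP hC 11 (by omega)

open CfsgLib.MTwentyTwoUnique in
/-- The principal 11-block. -/
theorem exists_blk11 : Nonempty (SC G 11 5) := by
  haveI : Fact (Nat.Prime 11) := ⟨by norm_num⟩
  obtain ⟨P⟩ : Nonempty (Sylow 11 G) := inferInstance
  obtain ⟨hP, hC, he⟩ := sylow_data hL (c := 11) (N := 55) (by norm_num) (by norm_num) hL.eleven P
  exact exists_sc P hP hC 5 (by omega)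

end CfsgLib.MTwentyThreeUnique
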