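import Mathlib

/-!
The search for the centraliser of an element of order three commuting with an involution.
-/

set_option autoImplicit false

namespace CfsgLib.MTwentyThreeUnique

/-- The integers of absolute value at most 108. -/
def smallInts : List ℤ := (List.range 217).map fun i : ℕ => (i : ℤ) - 108

theorem mem_smallInts {v : ℤ} (h1 : -108 ≤ v) (h2 : v ≤ 108) : v ∈ smallInts :=
  List.mem_map.mpr ⟨(v + 108).toNat, List.mem_range.mpr (by omega), by omega⟩

/-- The conditions on an integral value at an element of order three. -/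
def validY (C d : ℕ) (v : ℤ) : Bool :=
  decide (v * v < (C : ℤ) ∧ v * v < (d : ℤ) * d ∧ ((d : ℤ) - v) % 3 = 0 ∧
    (((10200960 / C : ℕ) : ℤ) * v) % (d : ℤ) = 0)

/-- The possible integral values. -/
def yList (C d : ℕ) : List ℤ := smallInts.filter (validY C d)

/-- The possible sums of a pair of conjugate values. -/
def pairList (C : ℕ) : List ℤ :=
  smallInts.filter fun s => decide (s * s < 2 * (C : ℤ) ∧ s % 3 = 0)

theorem mem_yList {C d : ℕ} {v : ℤ} (h : validY C d v = true) (hC : C ≤ 5760) : v ∈ yList C d := by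
  have h' : v * v < (C : ℤ) := by
    simp only [validY, decide_eq_true_eq] at h; exact h.1
  have hC' : (C : ℤ) ≤ 5760 := by exact_mod_cast hC
  exact List.mem_filter.mpr ⟨mem_smallInts (by nlinarith) (by nlinarith), h⟩

theorem mem_pairList {C : ℕ} {s : ℤ} (h : s * s < 2 * (C : ℤ)) (h3 : s % 3 = 0) (hC : C ≤ 5760) :
    s ∈ pairList C := by
  have hC' : (C : ℤ) ≤ 5760 := by exact_mod_cast hC
  exact List.mem_filter.mpr ⟨mem_smallInts (by nlinarith) (by nlinarith), by simp [h, h3]⟩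

/-- The centraliser orders considered. -/
def yCents : List ℕ := [36, 72, 144, 288, 360, 576, 720, 1152, 1440, 2880, 5760]

/-- The conditions on all values. -/
def validYAll (C : ℕ) (a s₁ e k q u s₂ h : ℤ) : Bool :=
  let S := u - 1 + a + s₁ + 2 * q - s₂
  let T := 1 + 22 * a + 45 * s₁ + 230 * e + 231 * S + 253 * h + 1540 * u + 1792 * q + 990 * s₂ + 1035 * k
  let z := -T / 2024
  validY C 2024 z && decide (T % 2024 = 0 ∧ S % 3 = 0 ∧
    3 * (2 + 2 * (a * a) + s₁ * s₁ + 2 * (e * e) + 2 * (h * h) + 4 * (u * u) + 4 * (q * q) + s₂ * s₂ +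
      2 * (k * k) + 2 * (z * z)) + 2 * (S * S) ≤ 6 * (C : ℤ) ∧
    1 + 6 * a - 3 * s₁ + 22 * e + 7 * S + 13 * h - 28 * u - 18 * s₂ + 27 * k + 8 * z = 0)

set_option synthInstance.maxSize 8192 in
set_option synthInstance.maxHeartbeats 400000 in
set_option maxRecDepth 8000 in
theorem search_three : ∀ C ∈ yCents, ∀ k ∈ yList C 1035, ∀ q ∈ yList C 896,
    1 + k * k + 2 * (q * q) ≤ (C : ℤ) → ∀ e ∈ yList C 230,
    (e - 1 - k + q) % 3 = 0 →
    2 + 2 * (k * k) + 4 * (q * q) + 2 * (e * e) + (e - 1 - k + q) * (e - 1 - k + q) ≤ 2 * (C : ℤ) →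
    ∀ a ∈ yList C 22, ∀ u ∈ yList C 770,
    2 + 2 * (k * k) + 4 * (q * q) + 2 * (e * e) + (e - 1 - k + q) * (e - 1 - k + q) + 2 * (a * a) + 4 * (u * u) ≤
      2 * (C : ℤ) →
    ∀ s ∈ pairList C,
    2 + 2 * (k * k) + 4 * (q * q) + 2 * (e * e) + (e - 1 - k + q) * (e - 1 - k + q) + 2 * (a * a) + 4 * (u * u) +
      s * s ≤ 2 * (C : ℤ) →
    (u - 1 + a + (e - 1 - k + q) + 2 * q - s) % 3 = 0 →
    ∀ h ∈ yList C 253, validYAll C a (e - 1 - k + q) e k q u s h = false := by
  decide +kernel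

end CfsgLib.MTwentyThreeUnique
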