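import Cfsg.Agent.Lib.MTwentyThreeUnique.Involution
import Cfsg.Agent.Lib.MTwentyThreeUnique.ThreeSearch
import Mathlib

/-!
The centraliser of an element of order three commuting with an involution.
-/

set_option autoImplicit false
set_option linter.style.haveILetI false

noncomputable section

namespace CfsgLib.MTwentyThreeUnique

open Subgroup CfsgLib.InvolChar Cfsg
open CfsgLib.MTwelveUnique (nu nu_eq_zero nu_cases)
open scoped ComplexConjugate
attribute [local instance] Classical.propDecidable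

variable {G : Type*} [Group G] [Fintype G]

theorem irrConj_deg (χ : IrrCharacter G) : deg (CfsgLib.Char.irrConj χ) = deg χ := by
  have h := deg_spec (CfsgLib.Char.irrConj χ)
  rw [CfsgLib.Char.irrConj_apply, deg_spec, map_natCast] at h
  exact_mod_cast h.symm

/-- A character alone in its degree is real. -/
theorem real_of_alone {χ : IrrCharacter G} (h : ∀ η : IrrCharacter G, deg η = deg χ → η = χ) (g : G) :
    conj ((χ : G → ℂ) g) = (χ : G → ℂ) g := by
  have e := congrArg (fun η : IrrCharacter G => (η : G → ℂ) g) (h _ (irrConj_deg χ))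
  simpa [CfsgLib.Char.irrConj_apply] using e

/-- A non-real character with one partner of the same degree is its conjugate. -/
theorem conj_of_pair {χ χ' : IrrCharacter G} (h0 : nu χ = 0)
    (h : ∀ η : IrrCharacter G, deg η = deg χ → η = χ ∨ η = χ') (g : G) :
    (χ' : G → ℂ) g = conj ((χ : G → ℂ) g) := by
  rcases h _ (irrConj_deg χ) with e | e
  · exfalso
    rcases nu_cases χ with (h' | h') | ⟨-, hr⟩
    · rw [h0] at h'; exact zero_ne_one h'
    · rw [h0] at h'; norm_num at h'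
    · refine hr fun g => ?_
      conv_rhs => rw [← e]
      rw [CfsgLib.Char.irrConj_apply]
  · rw [← e, CfsgLib.Char.irrConj_apply]

/-- The value at an element of order three: trace and norm. -/
theorem three_pair (χ : IrrCharacter G) {y : G} (hy : orderOf y = 3) :
    ∃ g N : ℤ, (χ : G → ℂ) y + conj ((χ : G → ℂ) y) = (g : ℂ) ∧
      (χ : G → ℂ) y * conj ((χ : G → ℂ) y) = (N : ℂ) ∧ (3 : ℤ) ∣ 2 * g + 2 * (deg χ : ℤ) ∧
      g * g ≤ 4 * N := by
  have hinv : (χ : G → ℂ) (y ^ 2) = conj ((χ : G → ℂ) y) := by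
    rw [eq_inv_of_mul_eq_one_left (show y ^ 2 * y = 1 by
      rw [← pow_succ, show 2 + 1 = orderOf y by rw [hy]]; exact pow_orderOf_eq_one y),
      CfsgLib.Char.char_inv (CfsgLib.Char.isCharacter_of_isIrr χ.2)]
  obtain ⟨g, N, hg, hN, h1, -⟩ := CfsgLib.MathieuBlocks.pair_rel χ.2 y hy ({1, 2} : Finset ℕ)
    (by decide) ⟨1, by simp⟩ (z := (χ : G → ℂ) y) (fun i hi => by
      simp only [Finset.mem_insert, Finset.mem_singleton] at hi
      rcases hi with rfl | rfl
      · exact Or.inl (by rw [pow_one])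
      · exact Or.inr hinv)
    (fun _ => (deg χ : ℤ)) (fun i hi => by
      have h : Finset.range 3 \ ({1, 2} : Finset ℕ) = {0} := by decide
      rw [h, Finset.mem_singleton] at hi
      subst hi
      rw [pow_zero, deg_spec, Int.cast_natCast])
  have h : Finset.range 3 \ ({1, 2} : Finset ℕ) = {0} := by decide
  rw [h, Finset.sum_singleton] at h1
  refine ⟨g, N, hg, hN, by simpa using h1, ?_⟩
  set w := (χ : G → ℂ) y
  have hre := congrArg Complex.re hg
  have hn := congrArg Complex.re hN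
  rw [Complex.mul_conj] at hn
  simp only [Complex.add_re, Complex.conj_re, Complex.intCast_re, Complex.ofReal_re] at hre hn
  have h4 : (g : ℝ) * g ≤ 4 * (N : ℝ) := by
    rw [← hre, ← hn, Complex.normSq_apply]
    nlinarith [mul_self_nonneg w.im]
  exact_mod_cast h4

/-- A real value at an element of order three is an integer congruent to the degree. -/
theorem three_int (χ : IrrCharacter G) {y : G} (hy : orderOf y = 3)
    (hr : conj ((χ : G → ℂ) y) = (χ : G → ℂ) y) :
    ∃ v : ℤ, (χ : G → ℂ) y = (v : ℂ) ∧ ((deg χ : ℤ) - v) % 3 = 0 := by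
  obtain ⟨g, N, hg, -, h1, -⟩ := three_pair χ hy
  rw [hr] at hg
  obtain ⟨v, hv⟩ := CfsgLib.MathieuBlocks.int_of_mul_eq
    (CfsgLib.Char.char_isIntegral (CfsgLib.Char.isCharacter_of_isIrr χ.2) y) (q := 2) (a := g) (by norm_num)
    (by push_cast; linear_combination hg)
  rw [hv] at hg
  have : 2 * v = g := by
    have h2 : ((2 * v : ℤ) : ℂ) = (g : ℂ) := by push_cast; linear_combination hg
    exact_mod_cast h2
  exact ⟨v, hv, by omega⟩

variable (hL : Local G)
include hL

theorem cent_three_dvd {y : G} (hy : orderOf y = 3) :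
    Nat.card (centralizer ({y} : Set G)) ∣ 5760 ∧ 9 ∣ Nat.card (centralizer ({y} : Set G)) := by
  haveI : Fact (Nat.Prime 3) := ⟨by norm_num⟩
  have hnot : ∀ {p c : ℕ}, p.Prime → ¬ 3 ∣ c →
      (∀ x : G, orderOf x = p → Nat.card (centralizer ({x} : Set G)) = c) →
      ¬ p ∣ Nat.card (centralizer ({y} : Set G)) := by
    intro p c hp hc hloc h
    haveI := Fact.mk hp
    obtain ⟨x, hx⟩ := exists_prime_orderOf_dvd_card' (G := centralizer ({y} : Set G)) p h
    have hxG : orderOf (x : G) = p := by rw [Subgroup.orderOf_coe, hx]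
    have hd := Subgroup.orderOf_dvd_natCard (s := centralizer ({(x : G)} : Set G))
      (mem_centralizer_singleton_iff.mpr (mem_centralizer_singleton_iff.mp x.2).symm : y ∈ _)
    rw [hloc _ hxG, hy] at hd
    exact hc hd
  have h7 := hnot (p := 7) (by norm_num) (by norm_num) fun x hx => (hL.seven x hx).1
  have h11 := hnot (p := 11) (by norm_num) (by norm_num) fun x hx => (hL.eleven x hx).1
  have h23 := hnot (p := 23) (by norm_num) (by norm_num) fun x hx => (hL.twentyThree x hx).1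
  constructor
  · have hd : Nat.card (centralizer ({y} : Set G)) ∣ 5760 * 7 * 11 * 23 := by
      have := Subgroup.card_subgroup_dvd_card (centralizer ({y} : Set G))
      rwa [hL.card] at this
    have e1 := (((Nat.Prime.coprime_iff_not_dvd (by norm_num : Nat.Prime 23)).mpr h23).symm).dvd_of_dvd_mul_right hd
    have e2 := (((Nat.Prime.coprime_iff_not_dvd (by norm_num : Nat.Prime 11)).mpr h11).symm).dvd_of_dvd_mul_right e1
    exact (((Nat.Prime.coprime_iff_not_dvd (by norm_num : Nat.Prime 7)).mpr h7).symm).dvd_of_dvd_mul_right e2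
  · obtain ⟨P, hP⟩ := (IsPGroup.of_card (p := 3) (n := 1) (by rw [Nat.card_zpowers, hy, pow_one]) :
      IsPGroup 3 (zpowers y)).exists_le_sylow
    have hPc : Nat.card (P : Subgroup G) = 3 ^ 2 :=
      CfsgLib.SmallGroups.card_sylow_eq (show Nat.card G = 3 ^ 2 * 1133440 by rw [hL.card]; norm_num) (by norm_num) P
    have h9 : (P : Subgroup G) ≤ centralizer ({y} : Set G) := fun s hs =>
      mem_centralizer_singleton_iff.mpr (congrArg Subtype.val
        ((IsPGroup.isMulCommutative_of_card_eq_prime_sq hPc).is_comm.comm (⟨s, hs⟩ : (P : Subgroup G))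
          ⟨y, hP (mem_zpowers y)⟩))
    have := card_dvd_of_le h9
    rw [hPc] at this
    exact this

set_option maxHeartbeats 800000 in
/-- A centraliser of order divisible by four has order 180. -/
theorem cent_three {y : G} (hy : orderOf y = 3)
    (h4 : 4 ∣ Nat.card (centralizer ({y} : Set G))) : Nat.card (centralizer ({y} : Set G)) = 180 := by
  classical
  set C := Nat.card (centralizer ({y} : Set G)) with hCdef
  obtain ⟨hd, h9⟩ := cent_three_dvd hL hy
  rw [← hCdef] at hd h9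
  have hC : C ≤ 5760 := Nat.le_of_dvd (by norm_num) hd
  by_contra hne
  have hmemC : C ∈ yCents := by
    obtain ⟨m, hm⟩ := Nat.Coprime.mul_dvd_of_dvd_of_dvd (by norm_num : Nat.Coprime 9 4) h9 h4
    rw [hm] at hd hne ⊢
    have hm' : m ∣ 160 := Nat.dvd_of_mul_dvd_mul_left (show 0 < 9 * 4 by norm_num) hd
    have key : ∀ m ∈ List.range 161, 160 % m = 0 → 9 * 4 * m ≠ 180 → 9 * 4 * m ∈ yCents := by decide +kernel
    exact key m (List.mem_range.2 (Nat.lt_succ_of_le (Nat.le_of_dvd (by norm_num) hm'))) (Nat.mod_eq_zero_of_dvd hm') hne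
  obtain ⟨T⟩ := exists_table hL
  obtain ⟨da, dθ, dθ', de, dc, dc', dc'', dh, du, du', dq, dq', dg, dg', dk, dz⟩ := T.deg_all
  obtain ⟨z1, z2, z3, z4, z5, z6, z7, z8⟩ := T.nu_zero
  have hfib : ∀ η : IrrCharacter G, η ∈ ([CfsgLib.Char.irrOne, T.a, T.θ, T.θ', T.e, T.c, T.c', T.c'', T.h, T.u,
      T.u', T.q, T.q', T.g, T.g', T.k, T.z] : List (IrrCharacter G)) := by
    intro η
    have h := T.sum_all fun χ : IrrCharacter G => if χ = η then 1 else 0
    rw [Finset.sum_ite_eq' Finset.univ η, if_pos (Finset.mem_univ η)] at h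
    by_contra hc
    simp only [List.mem_cons, List.not_mem_nil, or_false, not_or] at hc
    simp [Ne.symm hc.1, Ne.symm hc.2.1, Ne.symm hc.2.2.1, Ne.symm hc.2.2.2.1, Ne.symm hc.2.2.2.2.1,
      Ne.symm hc.2.2.2.2.2.1, Ne.symm hc.2.2.2.2.2.2.1, Ne.symm hc.2.2.2.2.2.2.2.1,
      Ne.symm hc.2.2.2.2.2.2.2.2.1, Ne.symm hc.2.2.2.2.2.2.2.2.2.1, Ne.symm hc.2.2.2.2.2.2.2.2.2.2.1,
      Ne.symm hc.2.2.2.2.2.2.2.2.2.2.2.1, Ne.symm hc.2.2.2.2.2.2.2.2.2.2.2.2.1,
      Ne.symm hc.2.2.2.2.2.2.2.2.2.2.2.2.2.1, Ne.symm hc.2.2.2.2.2.2.2.2.2.2.2.2.2.2.1,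
      Ne.symm hc.2.2.2.2.2.2.2.2.2.2.2.2.2.2.2.1, Ne.symm hc.2.2.2.2.2.2.2.2.2.2.2.2.2.2.2.2] at h
  have halone : ∀ χ : IrrCharacter G, deg χ ∈ [22, 230, 253, 1035, 2024] →
      conj ((χ : G → ℂ) y) = (χ : G → ℂ) y := by
    intro χ hd
    refine real_of_alone (fun η hη => ?_) y
    have h1 := hfib η
    have h2 := hfib χ
    simp only [List.mem_cons, List.not_mem_nil, or_false] at h1 h2 hd
    rcases h2 with rfl | rfl | rfl | rfl | rfl | rfl | rfl | rfl | rfl | rfl | rfl | rfl | rfl | rfl | rfl | rfl | rfl <;>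
      first
      | (exfalso; simp [deg_irrOne, da, dθ, dθ', de, dc, dc', dc'', dh, du, du', dq, dq', dg, dg', dk, dz] at hd; done)
      | (rcases h1 with rfl | rfl | rfl | rfl | rfl | rfl | rfl | rfl | rfl | rfl | rfl | rfl | rfl | rfl | rfl | rfl | rfl <;>
          first
          | rfl
          | (exfalso; simp [deg_irrOne, da, dθ, dθ', de, dc, dc', dc'', dh, du, du', dq, dq', dg, dg', dk, dz] at hη))
  have hpair : ∀ (χ χ' : IrrCharacter G), nu χ = 0 →
      (∀ η : IrrCharacter G, deg η = deg χ → η = χ ∨ η = χ') → (χ' : G → ℂ) y = conj ((χ : G → ℂ) y) :=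
    fun χ χ' h0 h => conj_of_pair h0 h y
  have two : ∀ η : IrrCharacter G, (deg η = 45 → η = T.θ ∨ η = T.θ') ∧ (deg η = 770 → η = T.u ∨ η = T.u') ∧
      (deg η = 896 → η = T.q ∨ η = T.q') ∧ (deg η = 990 → η = T.g ∨ η = T.g') := by
    intro η
    have h1 := hfib η
    simp only [List.mem_cons, List.not_mem_nil, or_false] at h1
    rcases h1 with rfl | rfl | rfl | rfl | rfl | rfl | rfl | rfl | rfl | rfl | rfl | rfl | rfl | rfl | rfl | rfl | rfl <;>
      simp [deg_irrOne, da, dθ, dθ', de, dc, dc', dc'', dh, du, du', dq, dq', dg, dg', dk, dz]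
  have cθ := hpair _ _ z1 fun η h => (two η).1 (h.trans dθ)
  have cu := hpair _ _ z3 fun η h => (two η).2.1 (h.trans du)
  have cq := hpair _ _ z5 fun η h => (two η).2.2.1 (h.trans dq)
  have cg := hpair _ _ z7 fun η h => (two η).2.2.2 (h.trans dg)
  have hy23 : ¬ 23 ∣ orderOf y := by rw [hy]; norm_num
  have hy11 : ¬ 11 ∣ orderOf y := by rw [hy]; norm_num
  obtain ⟨r1, r2⟩ := T.rel23 y hy23
  obtain ⟨s1, s2⟩ := T.rel11 y hy11
  obtain ⟨a, ha, ha3⟩ := three_int T.a hy (halone _ (by simp [da]))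
  obtain ⟨e, he, he3⟩ := three_int T.e hy (halone _ (by simp [de]))
  obtain ⟨h, hh, hh3⟩ := three_int T.h hy (halone _ (by simp [dh]))
  obtain ⟨k, hk, hk3⟩ := three_int T.k hy (halone _ (by simp [dk]))
  obtain ⟨z, hz, hz3⟩ := three_int T.z hy (halone _ (by simp [dz]))
  obtain ⟨u, hu, hu3⟩ := three_int T.u hy (cu.symm.trans r2)
  obtain ⟨q, hq, hq3⟩ := three_int T.q hy (cq.symm.trans s2)
  obtain ⟨g₁, N₁, hg₁, hN₁, m₁, l₁⟩ := three_pair T.θ hy
  obtain ⟨g₂, N₂, hg₂, hN₂, m₂, l₂⟩ := three_pair T.g hy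
  obtain ⟨b₁, M₁, hb₁, hM₁, n₁, p₁⟩ := three_pair T.c hy
  obtain ⟨b₂, M₂, hb₂, hM₂, n₂, p₂⟩ := three_pair T.c' hy
  obtain ⟨b₃, M₃, hb₃, hM₃, n₃, p₃⟩ := three_pair T.c'' hy
  rw [dθ] at m₁; rw [dg] at m₂; rw [dc] at n₁; rw [dc'] at n₂; rw [dc''] at n₃
  push_cast at m₁ m₂ n₁ n₂ n₃
  have eu' : (T.u' : G → ℂ) y = (u : ℂ) := by rw [r2, hu]
  have eq' : (T.q' : G → ℂ) y = (q : ℂ) := by rw [s2, hq]
  have eθ : (T.θ : G → ℂ) y + (T.θ' : G → ℂ) y = (g₁ : ℂ) := by rw [cθ, hg₁]
  have eg : (T.g : G → ℂ) y + (T.g' : G → ℂ) y = (g₂ : ℂ) := by rw [cg, hg₂]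
  have hs : g₁ = e - 1 - k + q := by
    have : ((g₁ : ℤ) : ℂ) = ((e - 1 - k + q : ℤ) : ℂ) := by
      rw [hq, he, hk] at s1; push_cast; linear_combination -s1 - eθ
    exact_mod_cast this
  set S := u - 1 + a + g₁ + 2 * q - g₂ with hSdef
  have hS : (T.c : G → ℂ) y + (T.c' : G → ℂ) y + (T.c'' : G → ℂ) y = (S : ℂ) := by
    rw [hu, ha, hq, eq'] at r1
    rw [hSdef]; push_cast; linear_combination -r1 - eg + eθ
  have h2S : b₁ + b₂ + b₃ = 2 * S := by
    have h' := congrArg conj hS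
    rw [map_add, map_add, map_intCast] at h'
    have : ((b₁ + b₂ + b₃ : ℤ) : ℂ) = ((2 * S : ℤ) : ℂ) := by
      push_cast; linear_combination hS + h' - hb₁ - hb₂ - hb₃
    exact_mod_cast this
  -- the column relations
  have hy1 : y ≠ 1 := fun e => by rw [e, orderOf_one] at hy; norm_num at hy
  have hQ : 1 + a * a + e * e + h * h + k * k + z * z + 2 * (u * u) + 2 * (q * q) + 2 * N₁ + 2 * N₂ +
      (M₁ + M₂ + M₃) = (C : ℤ) := by
    have hq := CfsgLib.Char.second_orthogonality y y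
    rw [if_pos (IsConj.refl y), T.sum_all] at hq
    simp only [CfsgLib.Char.irrOne_apply, ha, he, hh, hk, hz, hu, eu', eq', cθ, cg, hM₁, hM₂, hM₃, hN₁, hN₂,
      map_one, map_intCast, Complex.conj_conj] at hq
    rw [← hCdef] at hq
    have : ((1 + a * a + e * e + h * h + k * k + z * z + 2 * (u * u) + 2 * (q * q) + 2 * N₁ + 2 * N₂ +
      (M₁ + M₂ + M₃) : ℤ) : ℂ) = ((C : ℤ) : ℂ) := by
      rw [‹(T.q : G → ℂ) y = (q : ℂ)›] at hq
      simp only [map_intCast] at hq
      push_cast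
      linear_combination hq - hN₁ - hN₂
    exact_mod_cast this
  have hdeg : 1 + 22 * a + 45 * g₁ + 230 * e + 231 * S + 253 * h + 1540 * u + 1792 * q + 990 * g₂ + 1035 * k +
      2024 * z = 0 := by
    have hd0 := CfsgLib.Char.sum_degree_mul_apply y
    rw [if_neg hy1, T.sum_all] at hd0
    simp only [CfsgLib.Char.irrOne_apply, deg_spec, da, dθ, dθ', de, dc, dc', dc'', dh, du, du', dq, dq', dg, dg',
      dk, dz, ha, he, hh, hk, hz, hu, hq, eu', eq'] at hd0
    have : ((1 + 22 * a + 45 * g₁ + 230 * e + 231 * S + 253 * h + 1540 * u + 1792 * q + 990 * g₂ + 1035 * k +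
      2024 * z : ℤ) : ℂ) = ((0 : ℤ) : ℂ) := by
      push_cast at hd0 ⊢
      linear_combination hd0 - 45 * eθ - 990 * eg - 231 * hS
    exact_mod_cast this
  haveI : Fact (Nat.Prime 2) := ⟨Nat.prime_two⟩
  obtain ⟨t, ht⟩ := exists_prime_orderOf_dvd_card' (G := G) 2 (by rw [hL.card]; norm_num)
  have V := invol_vals hL T ht
  have hO : 1 + 6 * a - 3 * g₁ + 22 * e + 7 * S + 13 * h - 28 * u - 18 * g₂ + 27 * k + 8 * z = 0 := by
    have ho := CfsgLib.Char.second_orthogonality y t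
    rw [if_neg (CfsgLib.MTwelveUnique.not_isConj_of_orderOf_ne (by rw [hy, ht]; norm_num)), T.sum_all] at ho
    simp only [CfsgLib.Char.irrOne_apply, V.va, V.vθ, V.vθ', V.ve, V.vc, V.vc', V.vc'', V.vh, V.vu, V.vu', V.vq,
      V.vq', V.vg, V.vg', V.vk, V.vz, ha, he, hh, hk, hz, hu, eu', map_one, map_zero, map_neg, map_ofNat,
      mul_zero, add_zero, mul_one] at ho
    have : ((1 + 6 * a - 3 * g₁ + 22 * e + 7 * S + 13 * h - 28 * u - 18 * g₂ + 27 * k + 8 * z : ℤ) : ℂ) =
        ((0 : ℤ) : ℂ) := by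
      push_cast
      linear_combination ho + 3 * eθ + 18 * eg - 7 * hS
    exact_mod_cast this
  have hM : 4 * (S * S) ≤ 12 * (M₁ + M₂ + M₃) := by
    have := mul_self_nonneg (b₁ - b₂)
    have := mul_self_nonneg (b₂ - b₃)
    have := mul_self_nonneg (b₁ - b₃)
    rw [show 4 * (S * S) = (b₁ + b₂ + b₃) * (b₁ + b₂ + b₃) by rw [h2S]; ring]
    linarith [p₁, p₂, p₃, show (b₁ + b₂ + b₃) * (b₁ + b₂ + b₃) = 3 * (b₁ * b₁ + b₂ * b₂ + b₃ * b₃) -
      ((b₁ - b₂) * (b₁ - b₂) + (b₂ - b₃) * (b₂ - b₃) + (b₁ - b₃) * (b₁ - b₃)) by ring]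
  have nn := fun v : ℤ => mul_self_nonneg v
  have := nn a; have := nn e; have := nn h; have := nn k; have := nn z; have := nn u; have := nn q
  have := nn g₁; have := nn g₂; have := nn S
  haveI := hL.simple
  have hval : ∀ (χ : IrrCharacter G) (d : ℕ) (v : ℤ), deg χ = d → d ≠ 1 → (χ : G → ℂ) y = (v : ℂ) →
      ((deg χ : ℤ) - v) % 3 = 0 → v * v < (C : ℤ) → validY C d v = true := by
    intro χ d v hd hd1 hv h3 hlt
    have hne : χ ≠ CfsgLib.Char.irrOne := fun e => hd1 (by rw [← hd, e, deg_irrOne])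
    simp only [validY, decide_eq_true_eq]
    refine ⟨hlt, hd ▸ CfsgLib.MTwelveUnique.sq_lt_deg_sq (not_comm hL) χ hne hy1 hv, hd ▸ h3, ?_⟩
    have := CfsgLib.MTwelveUnique.deg_dvd_index_mul χ hv hCdef.symm
    rw [hL.card, hd] at this
    exact this
  have oa := hval _ _ _ da (by norm_num) ha ha3 (by linarith)
  have oe := hval _ _ _ de (by norm_num) he he3 (by linarith)
  have oh := hval _ _ _ dh (by norm_num) hh hh3 (by linarith)
  have ok := hval _ _ _ dk (by norm_num) hk hk3 (by linarith)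
  have oz := hval _ _ _ dz (by norm_num) hz hz3 (by linarith)
  have ou := hval _ _ _ du (by norm_num) hu hu3 (by linarith)
  have oq := hval _ _ _ dq (by norm_num) ‹(T.q : G → ℂ) y = (q : ℂ)› hq3 (by linarith)
  have hg3 : g₁ % 3 = 0 := by omega
  have hg3' : g₂ % 3 = 0 := by omega
  have hS3 : S % 3 = 0 := by omega
  set Tt := 1 + 22 * a + 45 * g₁ + 230 * e + 231 * S + 253 * h + 1540 * u + 1792 * q + 990 * g₂ + 1035 * k with hTt
  have hT : Tt = -2024 * z := by rw [hTt]; linarith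
  have hzd : -Tt / 2024 = z := by omega
  have hyes : validYAll C a g₁ e k q u g₂ h = true := by
    simp only [validYAll, ← hSdef, ← hTt, hzd, Bool.and_eq_true, decide_eq_true_eq]
    exact ⟨oz, by omega, hS3, by linarith, hO⟩
  rw [hs] at hyes
  have hno := search_three C hmemC k (mem_yList ok hC) q (mem_yList oq hC) (by linarith) e (mem_yList oe hC)
    (by rw [← hs]; exact hg3) (by rw [← hs]; linarith) a (mem_yList oa hC) u (mem_yList ou hC)
    (by rw [← hs]; linarith) g₂ (mem_pairList (by linarith) hg3' hC) (by rw [← hs]; linarith)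
    (by rw [← hs, ← hSdef]; exact hS3) h (mem_yList oh hC)
  rw [hno] at hyes
  exact Bool.false_ne_true hyes

/-- The centraliser of an element of order three has no subgroup of order eight. -/
theorem not_eight_cent_three {y : G} (hy : orderOf y = 3) :
    ¬ 8 ∣ Nat.card (centralizer ({y} : Set G)) := fun h => by
  rw [cent_three hL hy (Dvd.dvd.trans (by norm_num) h)] at h
  norm_num at h

end CfsgLib.MTwentyThreeUnique
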