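import Cfsg.Agent.Lib.MTwentyThreeUnique.Concrete
import Cfsg.Agent.Lib.MTwentyThreeUnique.Counts
import Mathlib

/-!
A group with the order and the numbers of elements of equal order of M23 has the local facts at 5, 7, 11, 23.
-/

set_option autoImplicit false
set_option linter.style.haveILetI false

noncomputable section

namespace CfsgLib.MTwentyThreeUnique

open Subgroup Cfsg CfsgLib.MTwentyTwoUnique

/-- A centralizer of prime order is cyclic. -/
theorem isCyclic_self {H : Type*} [Group H] [Finite H] {p : ℕ} [Fact p.Prime] {x : H}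
    (hC : Nat.card (centralizer ({x} : Set H)) = p) : IsCyclic (centralizer ({x} : Set H)) :=
  isCyclic_of_prime_card hC

variable {G : Type*} [Group G] [Finite G]

/-- Order and equal counts give the local facts. -/
theorem local_of_nse (hcard : Nat.card G = Nat.card ↥Cfsg.Spor.M23)
    (hnse : {c : ℕ | 0 < c ∧ ∃ n : ℕ, c = Nat.card {g : G // orderOf g = n}} =
      {c : ℕ | 0 < c ∧ ∃ n : ℕ, c = Nat.card {g : ↥Cfsg.Spor.M23 // orderOf g = n}}) : Local G := by
  classical
  haveI : Fact (Nat.Prime 2) := ⟨Nat.prime_two⟩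
  haveI : Fact (Nat.Prime 3) := ⟨Nat.prime_three⟩
  haveI : Fact (Nat.Prime 5) := ⟨by norm_num⟩
  haveI : Fact (Nat.Prime 7) := ⟨by norm_num⟩
  haveI : Fact (Nat.Prime 11) := ⟨by norm_num⟩
  haveI : Fact (Nat.Prime 23) := ⟨by norm_num⟩
  obtain ⟨hsimple, hG⟩ := CfsgLib.MathieuNSE.isM23_of_nse hcard hnse
  haveI := hsimple
  have hna : ¬ IsMulCommutative G :=
    CfsgLib.SmallGroups.not_isMulCommutative_of_not_prime (by rw [hG]; norm_num)
  have L := local_M23
  obtain ⟨a, ha⟩ := exists_prime_orderOf_dvd_card' (G := ↥Cfsg.Spor.M23) 5 (by rw [L.card]; norm_num)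
  obtain ⟨b, hb⟩ := exists_prime_orderOf_dvd_card' (G := ↥Cfsg.Spor.M23) 7 (by rw [L.card]; norm_num)
  obtain ⟨c, hc⟩ := exists_prime_orderOf_dvd_card' (G := ↥Cfsg.Spor.M23) 11 (by rw [L.card]; norm_num)
  obtain ⟨d, hd⟩ := exists_prime_orderOf_dvd_card' (G := ↥Cfsg.Spor.M23) 23 (by rw [L.card]; norm_num)
  haveI := isCyclic_centralizer (p := 5) (q := 3) (by norm_num) (by norm_num) ha (L.five a ha).1
  haveI := isCyclic_centralizer (p := 7) (q := 2) (by norm_num) (by norm_num) hb (L.seven b hb).1
  haveI := isCyclic_self (p := 11) (L.eleven c hc).1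
  haveI := isCyclic_self (p := 23) (L.twentyThree d hd).1
  have hP5 : ∀ P : Sylow 5 G, Nat.card (P : Subgroup G) = 5 :=
    sylow_card_of_one (m := 2040192) (by rw [hG]; norm_num) (by norm_num)
  have hP7 : ∀ P : Sylow 7 G, Nat.card (P : Subgroup G) = 7 :=
    sylow_card_of_one (m := 1457280) (by rw [hG]; norm_num) (by norm_num)
  have hP11 : ∀ P : Sylow 11 G, Nat.card (P : Subgroup G) = 11 :=
    sylow_card_of_one (m := 927360) (by rw [hG]; norm_num) (by norm_num)
  have hP23 : ∀ P : Sylow 23 G, Nat.card (P : Subgroup G) = 23 :=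
    sylow_card_of_one (m := 443520) (by rw [hG]; norm_num) (by norm_num)
  have c5 := count_transfer hnse hP5 ha fun k hk hr => by
    rw [(L.five a ha).1] at hk
    have key : ∀ k ∈ Nat.divisors 15, k.totient % 5 = 4 → k = 5 := by decide +kernel
    rw [key k hk hr]
  have c7 := count_transfer hnse hP7 hb fun k hk hr => by
    rw [(L.seven b hb).1] at hk
    have key : ∀ k ∈ Nat.divisors 14, k.totient % 7 = 6 → k = 7 ∨ k = 14 := by decide +kernel
    rcases key k hk hr with rfl | rfl
    · rfl
    · exact count_fourteen fun y hy => (L.seven y hy).1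
  have c11 := count_transfer hnse hP11 hc fun k hk hr => by
    rw [(L.eleven c hc).1] at hk
    have key : ∀ k ∈ Nat.divisors 11, k.totient % 11 = 10 → k = 11 := by decide +kernel
    rw [key k hk hr]
  have c23 := count_transfer hnse hP23 hd fun k hk hr => by
    rw [(L.twentyThree d hd).1] at hk
    have key : ∀ k ∈ Nat.divisors 23, k.totient % 23 = 22 → k = 23 := by decide +kernel
    rw [key k hk hr]
  have e5 := count_prime (fun P => sylow_card_of_one (m := 2040192) (by rw [L.card]; norm_num) (by norm_num) P)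
    fun x hx => (L.five x hx).2
  have e7 := count_prime (fun P => sylow_card_of_one (m := 1457280) (by rw [L.card]; norm_num) (by norm_num) P)
    fun x hx => (L.seven x hx).2
  have e11 := count_prime (fun P => sylow_card_of_one (m := 927360) (by rw [L.card]; norm_num) (by norm_num) P)
    fun x hx => (L.eleven x hx).2
  have e23 := count_prime (fun P => sylow_card_of_one (m := 443520) (by rw [L.card]; norm_num) (by norm_num) P)
    fun x hx => (L.twentyThree x hx).2
  rw [L.card] at e5 e7 e11 e23
  have n5 : ∀ x : G, orderOf x = 5 → Nat.card (normalizer ((zpowers x : Subgroup G) : Set G)) = 60 := fun x hx =>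
    normalizer_of_count hP5 c5 (by omega) (by rw [hG]; exact e5) hx
  have n7 : ∀ x : G, orderOf x = 7 → Nat.card (normalizer ((zpowers x : Subgroup G) : Set G)) = 42 := fun x hx =>
    normalizer_of_count hP7 c7 (by omega) (by rw [hG]; exact e7) hx
  have n11 : ∀ x : G, orderOf x = 11 → Nat.card (normalizer ((zpowers x : Subgroup G) : Set G)) = 55 := fun x hx =>
    normalizer_of_count hP11 c11 (by omega) (by rw [hG]; exact e11) hx
  have n23 : ∀ x : G, orderOf x = 23 → Nat.card (normalizer ((zpowers x : Subgroup G) : Set G)) = 253 := fun x hx =>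
    normalizer_of_count hP23 c23 (by omega) (by rw [hG]; exact e23) hx
  have t5 : Nat.card {g : ↥Cfsg.Spor.M23 // orderOf g = 2} % 5 = 0 := by
    rw [count_mod_cyclic ha, (L.five a ha).1, if_neg (by norm_num)]
  have t7 : Nat.card {g : ↥Cfsg.Spor.M23 // orderOf g = 2} % 7 = 1 := by
    rw [count_mod_cyclic hb, (L.seven b hb).1, if_pos (by norm_num), Nat.totient_two]
  have t2 := count_two_transfer hnse (by rw [L.card]; norm_num) (by omega)
  refine ⟨hG, hsimple, fun x hx => ⟨?_, n23 x hx⟩, fun x hx => ⟨?_, n11 x hx⟩, fun x hx => ⟨?_, n7 x hx⟩,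
    fun x hx => ⟨?_, n5 x hx⟩⟩
  · exact centralizer_of_normalizer hna (q := 11) (by norm_num) hP23 (fun y hy => n23 y hy) hx
  · exact centralizer_of_normalizer hna (q := 5) (by norm_num) hP11 (fun y hy => n11 y hy) hx
  · obtain ⟨hm, h7, hne, -⟩ := centralizer_bounds hna hP7 hx (n7 x hx)
    have key : ∀ c ∈ Nat.divisors 42, 7 ∣ c → c ≠ 42 → c = 14 ∨ ¬ 2 ∣ c := by decide +kernel
    refine (key _ hm h7 hne).resolve_right fun hodd => ?_
    have h := (count_modEq hx 2).symm.trans (show Nat.card {g : G // orderOf g = 2} ≡ 1 [MOD 7] by rw [t2]; exact t7)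
    have h0 : Nat.card {g : centralizer ({x} : Set G) // orderOf g = 2} = 0 :=
      Nat.card_eq_zero.2 (Or.inl ⟨fun g => hodd (g.2 ▸ orderOf_dvd_natCard g.1)⟩)
    rw [h0] at h
    exact absurd h (by decide)
  · obtain ⟨hm, h5, hne, hN⟩ := centralizer_bounds hna hP5 hx (n5 x hx)
    have key : ∀ c ∈ Nat.divisors 60, 5 ∣ c → c ≠ 60 → 60 ∣ (5 - 1) * c → c = 15 ∨ c = 30 := by decide +kernel
    refine (key _ hm h5 hne hN).resolve_right fun h30 => ?_
    refine involutions_thirty (x := (⟨x, mem_centralizer_singleton_iff.2 rfl⟩ : centralizer ({x} : Set G))) h30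
      (by rw [Subgroup.orderOf_mk, hx]) (fun g => Subtype.ext (show Commute (g : G) x from mem_centralizer_singleton_iff.1 g.2).symm.eq) ?_
    refine Nat.modEq_zero_iff_dvd.1 ((count_modEq hx 2).symm.trans ?_)
    rw [t2]
    exact t5

end CfsgLib.MTwentyThreeUnique
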