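import Cfsg.Agent.Lib.MTwentyThreeUnique.Steiner
import Cfsg.Agent.Lib.Golay.Sys23
import Cfsg.Agent.Lib.Golay.Spor
import Mathlib

/-!
A group with the local data is the Mathieu group of degree 23.
-/

set_option autoImplicit false
set_option linter.style.haveILetI false

noncomputable section

namespace CfsgLib.MTwentyThreeUnique

open Subgroup Cfsg CfsgLib.Golay
attribute [local instance] Classical.propDecidable

/-- A group with the local data is the Mathieu group of degree 23. -/
theorem equiv_M23 {G : Type*} [Group G] [Finite G] (hL : Local G) : Nonempty (G ≃* ↥Cfsg.Spor.M23) := by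
  classical
  haveI : Fintype G := Fintype.ofFinite G
  haveI := hL.simple
  obtain ⟨Γ⟩ := exists_geo hL
  haveI : Fintype Γ.R.S.Pts := Fintype.ofFinite _
  haveI : Fintype (G ⧸ Γ.H) := Fintype.ofFinite _
  obtain ⟨bl, h23, hst, himg⟩ := Γ.exists_steiner hL
  set ρ : G →* Equiv.Perm (G ⧸ Γ.H) := MulAction.toPermHom G (G ⧸ Γ.H) with hρ
  have hρmem : ∀ g, ρ g ∈ setSystemAut (Set.range bl) := fun g => by
    rw [mem_setSystemAut_iff]
    rintro _ ⟨x, rfl⟩
    exact ⟨g • x, (himg g x).symm⟩
  have hρinj : Function.Injective ρ := by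
    rw [← MonoidHom.ker_eq_bot_iff, hρ, ← Subgroup.normalCore_eq_ker]
    refine (Subgroup.Normal.eq_bot_or_eq_top (H := Γ.H.normalCore) inferInstance).resolve_right fun ht => ?_
    have h := (Γ.index_H hL).1
    have hle := Γ.H.normalCore_le
    rw [ht] at hle
    rw [top_le_iff.1 hle, Subgroup.index_top] at h
    norm_num at h
  obtain ⟨g, hg, hB⟩ := iso23 h23 hst
  let φ : setSystemAut (octDerived g) ≃* stabOne :=
    (Subgroup.equivMapOfInjective _ _ (relab_injective g)).trans
      (MulEquiv.subgroupCongr (map_relab_eq g hg))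
  have hmem : ∀ a, ρ a ∈ setSystemAut (octDerived g) := fun a => hB ▸ hρmem a
  have hbij : Function.Bijective (ρ.codRestrict _ hmem) :=
    (Nat.bijective_iff_injective_and_card _).2 ⟨fun a c h => hρinj (congrArg Subtype.val h), by
      rw [hL.card, Nat.card_congr φ.toEquiv, card_stabOne]⟩
  obtain ⟨e⟩ := sporM23_equiv
  exact ⟨((MulEquiv.ofBijective _ hbij).trans φ).trans e.symm⟩

end CfsgLib.MTwentyThreeUnique
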