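import Cfsg.Agent.Lib.MTwentyThreeUnique.Order1344
import Mathlib

/-!
A normal subgroup of order eight in the group of order 1344, and general tools on invariant subgroups.
-/

set_option autoImplicit false
set_option linter.style.haveILetI false

noncomputable section

namespace CfsgLib.MTwentyThreeUnique

open Subgroup Cfsg
open scoped IsMulCommutative
attribute [local instance] Classical.propDecidable

/-- An element of prime order normalising a subgroup fixes as many elements as the order, modulo the prime. -/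
theorem card_modEq_fixed {G : Type*} [Group G] [Finite G] {p : ℕ} [Fact p.Prime] {z : G} (hz : z ^ p = 1)
    {H : Subgroup G} (hH : ∀ h ∈ H, z * h * z⁻¹ ∈ H) :
    Nat.card H % p = Nat.card (H ⊓ centralizer ({z} : Set G) : Subgroup G) % p := by
  haveI : Fintype G := Fintype.ofFinite G
  have hinj : Function.Injective (fun h : H => (⟨z * h * z⁻¹, hH h h.2⟩ : H)) := fun a b e =>
    Subtype.ext (mul_left_cancel (mul_right_cancel (congrArg Subtype.val e)))
  let σ : Equiv.Perm H := Equiv.ofBijective _ (Finite.injective_iff_bijective.1 hinj)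
  have hit : ∀ (n : ℕ) (h : H), ((σ ^ n) h : G) = z ^ n * h * (z ^ n)⁻¹ := by
    intro n
    induction n with
    | zero => simp
    | succ n ih =>
      intro h
      rw [pow_succ', Equiv.Perm.mul_apply]
      show z * ((σ ^ n) h : G) * z⁻¹ = _
      rw [ih, pow_succ']
      group
  have hmod := CfsgLib.KnownSimple.Order7920.perm_fixed_modEq σ
    (Equiv.ext fun h => Subtype.ext (by rw [hit, hz]; simp) : σ ^ p = 1)
  have hfix : Nat.card {h : H // σ h = h} = Nat.card (H ⊓ centralizer ({z} : Set G) : Subgroup G) :=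
    Nat.card_congr
      { toFun := fun h => ⟨h.1, h.1.2, mem_centralizer_singleton_iff.2
          (mul_inv_eq_iff_eq_mul.1 (congrArg Subtype.val h.2)).symm⟩
        invFun := fun v => ⟨⟨v, v.2.1⟩, Subtype.ext (by
          show z * (v : G) * z⁻¹ = v
          rw [← mem_centralizer_singleton_iff.1 v.2.2, mul_inv_cancel_right])⟩
        left_inv := fun _ => rfl
        right_inv := fun _ => rfl }
  rw [hfix] at hmod
  exact hmod

/-- In an abelian group, two automorphisms generating a Frobenius group of order 21 with fixed-point-free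
actions of both force the seventh power to vanish. -/
theorem pow_seven_eq_one {M : Type*} [CommGroup M] (a b : MulAut M) (ha : a ^ 7 = 1) (hb : b ^ 3 = 1) {k : ℕ}
    (hk : k = 2 ∨ k = 4) (hab : b * a = a ^ k * b) (hfa : ∀ m, a m = m → m = 1) (hfb : ∀ m, b m = m → m = 1)
    (m : M) : m ^ 7 = 1 := by
  have hapow : ∀ j : ℕ, a ^ (j % 7) = a ^ j := fun j => by
    conv_rhs => rw [← Nat.mod_add_div j 7, pow_add, pow_mul, ha, one_pow, mul_one]
  have hT : ∀ u : M, ∏ i ∈ Finset.range 7, (a ^ i) u = 1 := by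
    intro u
    refine hfa _ ?_
    rw [map_prod]
    simp only [← MulAut.mul_apply, ← pow_succ']
    rw [Finset.prod_range_succ, Finset.prod_range_succ' (fun i => (a ^ i) u) 6, ha, pow_zero]
  have hS : ∀ u : M, u * b u * b (b u) = 1 := by
    intro u
    refine hfb _ ?_
    have h3 : b (b (b u)) = u := by
      show (b * b * b) u = u
      rw [← pow_three', hb]
      rfl
    rw [map_mul, map_mul, h3, mul_comm (b u * b (b u)) u, mul_assoc]
  have hba : ∀ j : ℕ, b * a ^ j = a ^ (k * j) * b := by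
    intro j
    induction j with
    | zero => simp
    | succ j ih => rw [pow_succ, ← mul_assoc, ih, mul_assoc, hab, ← mul_assoc, ← pow_add, Nat.mul_succ]
  have hi : ∀ i ∈ Finset.range 7, m * (a ^ ((i + k * (7 - i)) % 7)) (b m) *
      (a ^ ((i + k * (k * (7 - i))) % 7)) (b (b m)) = 1 := by
    intro i hi
    have hi' : i < 7 := Finset.mem_range.1 hi
    have h := congrArg (a ^ i) (hS ((a ^ (7 - i)) m))
    rw [map_mul, map_mul, map_one] at h
    have e0 : (a ^ i) ((a ^ (7 - i)) m) = m := by
      rw [← MulAut.mul_apply, ← pow_add, Nat.add_sub_cancel' hi'.le, ha]; rfl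
    have e1 : (a ^ i) (b ((a ^ (7 - i)) m)) = (a ^ ((i + k * (7 - i)) % 7)) (b m) := by
      rw [hapow, pow_add]
      show (a ^ i * (b * a ^ (7 - i))) m = _
      rw [hba, ← mul_assoc]; rfl
    have e2 : (a ^ i) (b (b ((a ^ (7 - i)) m))) = (a ^ ((i + k * (k * (7 - i))) % 7)) (b (b m)) := by
      rw [hapow, pow_add]
      show (a ^ i * (b * (b * a ^ (7 - i)))) m = _
      rw [hba, ← mul_assoc b, hba, ← mul_assoc, ← mul_assoc]
      rfl
    rwa [e0, e1, e2] at h
  have hall := Finset.prod_eq_one hi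
  have hperm : ∀ f : ℕ → ℕ, Set.InjOn f (Finset.range 7) → (Finset.range 7).image f = Finset.range 7 →
      ∀ u : M, ∏ i ∈ Finset.range 7, (a ^ f i) u = 1 := fun f hf hfi u => by
    rw [← Finset.prod_image (f := fun j => (a ^ j) u) hf, hfi, hT]
  rw [Finset.prod_mul_distrib, Finset.prod_mul_distrib, Finset.prod_const, Finset.card_range] at hall
  rw [hperm (fun i => (i + k * (7 - i)) % 7) (Finset.card_image_iff.1 (by
      rcases hk with rfl | rfl <;> decide)) (by rcases hk with rfl | rfl <;> decide) (b m),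
    hperm (fun i => (i + k * (k * (7 - i))) % 7) (Finset.card_image_iff.1 (by
      rcases hk with rfl | rfl <;> decide)) (by rcases hk with rfl | rfl <;> decide) (b (b m)),
    mul_one, mul_one] at hall
  exact hall

variable {Q : Type*} [Group Q] [Fintype Q]

/-- A normal subgroup of order eight. -/
theorem exists_normal_eight (hF : Frame Q) : ∃ M : Subgroup Q, M.Normal ∧ Nat.card M = 8 := by
  classical
  haveI : Fact (Nat.Prime 7) := ⟨by norm_num⟩
  haveI : Fact (Nat.Prime 3) := ⟨by norm_num⟩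
  haveI : Fact (Nat.Prime 2) := ⟨Nat.prime_two⟩
  obtain ⟨M, hM, h8 | h64⟩ := exists_normal_two hF
  · exact ⟨M, hM, h8⟩
  haveI := hM
  obtain ⟨x, hx⟩ := exists_prime_orderOf_dvd_card' (G := Q) 7 (by rw [hF.card]; norm_num)
  obtain ⟨hCx, hNx⟩ := hF.seven x hx
  have hx7 : x ^ 7 = 1 := hx ▸ pow_orderOf_eq_one x
  set Z := (center M).map M.subtype with hZdef
  haveI hZn : Z.Normal := inferInstance
  have hZc : Nat.card Z = Nat.card (center M) := card_map_of_injective M.subtype_injective
  have hfx : ∀ H : Subgroup Q, H ≤ M → H ⊓ centralizer ({x} : Set Q) = ⊥ := fun H hH => by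
    refine eq_bot_of_card_eq _ (Nat.eq_one_of_dvd_coprimes (by norm_num : Nat.Coprime 64 7) ?_ ?_)
    · exact h64 ▸ card_dvd_of_le (inf_le_left.trans hH)
    · exact hCx ▸ card_dvd_of_le inf_le_right
  have hZmod : Nat.card Z % 7 = 1 := by
    rw [card_modEq_fixed hx7 (fun h hh => hZn.conj_mem h hh x), hfx Z (map_subtype_le _)]
    simp
  haveI : Nontrivial M := Finite.one_lt_card_iff_nontrivial.mp (by omega)
  have hMp : IsPGroup 2 M := IsPGroup.of_card (n := 6) (by rw [h64]; norm_num)
  haveI := hMp.center_nontrivial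
  have hZd : Nat.card Z ∣ 2 ^ 6 := by
    have := card_dvd_of_le (map_subtype_le (center M))
    rw [h64] at this
    exact this
  have hZ1 : 1 < Nat.card Z := hZc ▸ Finite.one_lt_card
  obtain ⟨i, hi, hZi⟩ := (Nat.dvd_prime_pow Nat.prime_two).1 hZd
  rw [hZi] at hZmod hZ1
  have hi36 : i = 3 ∨ i = 6 := by interval_cases i <;> first | (exact Or.inl rfl) | (exact Or.inr rfl) | omega
  rcases hi36 with rfl | rfl
  · exact ⟨Z, hZn, by rw [hZi]; norm_num⟩
  exfalso
  have hab : IsMulCommutative M := by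
    have htop : center M = ⊤ := eq_top_of_card_eq _ (by rw [← hZc, hZi, h64]; norm_num)
    exact ⟨⟨fun a b => (Subgroup.mem_center_iff.1 (htop ▸ mem_top b) a)⟩⟩
  obtain ⟨y', hy'⟩ := exists_prime_orderOf_dvd_card'
    (G := normalizer ((zpowers x : Subgroup Q) : Set Q)) 3 (by rw [hNx]; norm_num)
  set y : Q := (y' : Q) with hydef
  have hy : orderOf y = 3 := by rw [hydef, Subgroup.orderOf_coe, hy']
  have hy3 : y ^ 3 = 1 := hy ▸ pow_orderOf_eq_one y
  obtain ⟨k, hk⟩ := ((isOfFinOrder_of_finite x).mem_powers_iff_mem_zpowers).2 ((y'.2 x).1 (mem_zpowers x))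
  simp only at hk
  rw [← hydef] at hk
  rw [← pow_mod_orderOf, hx] at hk
  set j := k % 7 with hj
  have hj7 : j < 7 := Nat.mod_lt _ (by norm_num)
  have hk1 : j ≠ 1 := fun e => by
    rw [e, pow_one] at hk
    have hd := Subgroup.orderOf_dvd_natCard (s := centralizer ({x} : Set Q))
      (mem_centralizer_singleton_iff.2 (mul_inv_eq_iff_eq_mul.1 hk.symm))
    rw [hCx, hy] at hd
    norm_num at hd
  have hk24 : j = 2 ∨ j = 4 := by
    have e : y ^ 3 * x * (y ^ 3)⁻¹ = x ^ (j ^ 3) := by
      calc y ^ 3 * x * (y ^ 3)⁻¹ = y * (y * (y * x * y⁻¹) * y⁻¹) * y⁻¹ := by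
            simp only [pow_succ, pow_zero, one_mul, mul_inv_rev, mul_assoc]
        _ = x ^ (j ^ 3) := by
          rw [← hk, pow_conj, ← hk, ← pow_mul, pow_conj, ← hk, ← pow_mul]
          congr 1; ring
    rw [hy3, one_mul, inv_one, mul_one] at e
    have h1 : x ^ 1 = x ^ (j ^ 3) := by rw [pow_one]; exact e
    rw [pow_inj_mod, hx] at h1
    interval_cases j <;> simp at h1 hk1 ⊢
  have hf := card_modEq_fixed hy3 (fun h hh => hM.conj_mem h hh y)
  rw [h64] at hf
  have hfd : Nat.card (M ⊓ centralizer ({y} : Set Q) : Subgroup Q) ∣ 2 ^ 6 := by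
    have := card_dvd_of_le (inf_le_left : M ⊓ centralizer ({y} : Set Q) ≤ M)
    rw [h64] at this
    exact this
  obtain ⟨f, hf6, hfe⟩ := (Nat.dvd_prime_pow Nat.prime_two).1 hfd
  have hf2 : ¬ 2 ≤ f := fun h => hF.three y hy
    (((Nat.pow_dvd_pow 2 h).trans (dvd_of_eq hfe.symm)).trans (card_dvd_of_le inf_le_right))
  rw [hfe] at hf
  have hf0 : f = 0 := by interval_cases f <;> first | rfl | (norm_num at hf)
  rw [hf0, pow_zero] at hfe
  have hbot := eq_bot_of_card_eq _ hfe
  have h7 : ∀ m : M, m ^ 7 = 1 := by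
    intro m
    refine pow_seven_eq_one (MulAut.conjNormal x) (MulAut.conjNormal y) ?_ ?_ hk24 ?_ ?_ ?_ m
    · rw [← map_pow, hx7, map_one]
    · rw [← map_pow, hy3, map_one]
    · rw [← map_pow, ← map_mul, ← map_mul, hk, inv_mul_cancel_right]
    · intro u hu
      have hu' : x * (u : Q) * x⁻¹ = u := congrArg Subtype.val hu
      have : (u : Q) ∈ M ⊓ centralizer ({x} : Set Q) :=
        ⟨u.2, mem_centralizer_singleton_iff.2 (mul_inv_eq_iff_eq_mul.1 hu').symm⟩
      rw [hfx M le_rfl, Subgroup.mem_bot] at this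
      exact Subtype.ext this
    · intro u hu
      have hu' : y * (u : Q) * y⁻¹ = u := congrArg Subtype.val hu
      have : (u : Q) ∈ M ⊓ centralizer ({y} : Set Q) :=
        ⟨u.2, mem_centralizer_singleton_iff.2 (mul_inv_eq_iff_eq_mul.1 hu').symm⟩
      rw [hbot, Subgroup.mem_bot] at this
      exact Subtype.ext this
  obtain ⟨m, hm⟩ := exists_ne (1 : M)
  have hd1 : orderOf m ∣ 7 := orderOf_dvd_of_pow_eq_one (h7 m)
  have hd2 : orderOf m ∣ 64 := h64 ▸ orderOf_dvd_natCard m
  exact hm (orderOf_eq_one_iff.1 (Nat.eq_one_of_dvd_coprimes (by norm_num) hd2 hd1))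

end CfsgLib.MTwentyThreeUnique
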