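import Mathlib

/-!
The search for the degrees of the irreducible characters of a group of order 10200960 with the
Sylow data of the Mathieu group of degree 23.
-/

set_option autoImplicit false

namespace CfsgLib.MTwentyThreeUnique

/-- The least weight of a value at an element of order five. -/
def wFive (d : ℕ) : ℕ := [0, 1, 4, 4, 1].getD (d % 5) 0

/-- The least weight of a value at an element of order seven. -/
def wSeven (d : ℕ) : ℕ := [0, 1, 4, 2, 2, 4, 1].getD (d % 7) 0

/-- The degree with its sign modulo `p`. -/
def sgd (p d : ℕ) : ℤ := if d % p = 1 then (d : ℤ) else -(d : ℤ)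

/-- The signed total of a block. -/
def totd (p : ℕ) (l : List ℕ) : ℤ := 1 + (l.map (sgd p)).sum

/-- The lists of `k` members of `L` within the two budgets. -/
def combos : List ℕ → ℕ → ℕ → ℕ → List (List ℕ)
  | [], k, _, _ => if k = 0 then [[]] else []
  | a :: L, k, p, q => (List.range (k + 1)).flatMap fun j =>
      if j * wFive a ≤ p ∧ j * wSeven a ≤ q then
        (combos L (k - j) (p - j * wFive a) (q - j * wSeven a)).map (List.replicate j a ++ ·)
      else []

/-- The lists of multiples `253 k`, `k ∈ K`, with the given sum of squares of the `k`. -/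
def parts : List ℕ → ℕ → ℕ → ℕ → List (List ℕ)
  | [], M, _, _ => if M = 0 then [[]] else []
  | k :: K, M, p, q => (List.range (M / (k * k) + 1)).flatMap fun j =>
      if j * wFive (253 * k) ≤ p ∧ j * wSeven (253 * k) ≤ q then
        (parts K (M - j * (k * k)) (p - j * wFive (253 * k)) (q - j * wSeven (253 * k))).map
          (List.replicate j (253 * k) ++ ·)
      else []

/-- The non-exceptional candidates of the 11-block. -/
def xEleven : List ℕ := [12, 23, 45, 230, 252, 276, 483, 736, 1035, 1288, 2760]

/-- The exceptional candidates of the 11-block. -/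
def yEleven : List ℕ := [115, 126, 138, 160, 368, 644, 896, 1380, 1656, 1920, 2415, 2898]

/-- The exceptional candidates of the 23-block. -/
def yTwentyThree : List ℕ := [11, 12, 126, 264, 495, 770, 1760, 1920, 2772]

/-- The non-exceptional candidates of the 23-block divisible by 11. -/
def xRest : List ℕ := [22, 231, 528, 990, 1540]

/-- The quotients by 253. -/
def kList : List ℕ := [1, 2, 3, 4, 5, 6, 7, 8, 9, 10, 12]

/-- The 11-block with its exceptional degree twice. -/
def full (l : List ℕ) : List ℕ := l ++ [(totd 11 l).natAbs, (totd 11 l).natAbs]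

/-- The conditions on the 11-block, with budget `Q` at an element of order seven. -/
def okB (Q : ℕ) (l : List ℕ) : Bool :=
  let T := totd 11 l
  decide (T.natAbs ∈ yEleven ∧ T.natAbs % 11 = (if 0 < T then 5 else 6) ∧
    ((full l).map wFive).sum ≤ 14 ∧ ((full l).map wSeven).sum ≤ Q - 1)

/-- The candidates for the 11-block. -/
def candB (Q : ℕ) : List (List ℕ) := (combos xEleven 4 14 (Q - 1)).filter (okB Q)

/-- The degrees of the 11-block prime to 23. -/
def shared (l : List ℕ) : List ℕ := (full l).filter fun d => decide (d % 23 ≠ 0)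

/-- The shared non-exceptional degrees of the 23-block, with the shared exceptional one. -/
def variants (l : List ℕ) : List (List ℕ × ℕ) :=
  (shared l, 0) :: ([12, 126, 1920].filter fun g => decide (2 ≤ (shared l).count g)).map
    fun g => (((shared l).erase g).erase g, g)

/-- The degrees outside the multiples of 253. -/
def base (l : List ℕ) (v : List ℕ × ℕ) (r : List ℕ) : List ℕ :=
  let f := (totd 23 (v.1 ++ r)).natAbs
  1 :: (r ++ if v.2 = 0 then [f, f] ++ full l else full l)

/-- The conditions on the 23-block beside the 11-block. -/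
def okA (Q : ℕ) (l : List ℕ) (v : List ℕ × ℕ) (r : List ℕ) : Bool :=
  let T := totd 23 (v.1 ++ r)
  let f := T.natAbs
  let u := base l v r
  decide (f ∈ yTwentyThree ∧ f % 23 = (if 0 < T then 11 else 12) ∧
    (if v.2 = 0 then f % 11 = 0 else f = v.2) ∧ (u.map fun d => d * d).sum ≤ 10200960 ∧
    (10200960 - (u.map fun d => d * d).sum) % 64009 = 0 ∧
    (u.map wFive).sum ≤ 15 ∧ (u.map wSeven).sum ≤ Q)

/-- The possible values at an element of order five. -/
def optsFive (d : ℕ) : List ℤ :=
  ([-3, -2, -1, 0, 1, 2, 3] : List ℤ).filter fun v => decide (((d : ℤ) - v) % 5 = 0)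

/-- Some column at an element of order five exists. -/
def okFive : List ℕ → ℤ → ℤ → Bool
  | [], q, s => decide (q = 0 ∧ s = 0)
  | d :: L, q, s => (optsFive d).any fun v => decide (0 ≤ q - v * v) && okFive L (q - v * v) (s + v * d)

/-- All admissible lists of degrees. -/
def finals (Q : ℕ) : List (List ℕ) :=
  (candB Q).flatMap fun l => (variants l).flatMap fun v =>
    if v.1.length ≤ 10 ∧ (∀ d ∈ v.1, d % 23 = 1 ∨ d % 23 = 22) then
      ((combos xRest (10 - v.1.length) (14 - ((full l).map wFive).sum)
        (Q - 1 - ((full l).map wSeven).sum)).filter (okA Q l v)).flatMap fun r =>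
        ((parts kList ((10200960 - ((base l v r).map fun d => d * d).sum) / 64009)
          (15 - ((base l v r).map wFive).sum) (Q - ((base l v r).map wSeven).sum)).map
            (base l v r ++ ·)).filter fun L => okFive L 15 0
    else []

/-- The degrees of the seventeen irreducible characters. -/
def degrees : List ℕ :=
  [1, 22, 45, 45, 230, 231, 231, 231, 253, 770, 770, 896, 896, 990, 990, 1035, 2024]

set_option synthInstance.maxSize 8192 in
set_option maxRecDepth 16000 in
theorem search : ∀ L ∈ finals 14, L.isPerm degrees = true := by decide +kernel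

theorem mem_combos : ∀ {L : List ℕ}, L.Nodup → ∀ (m : Multiset ℕ) (p q : ℕ), (∀ d ∈ m, d ∈ L) →
    (m.map wFive).sum ≤ p → (m.map wSeven).sum ≤ q →
    ∃ l ∈ combos L (Multiset.card m) p q, (l : Multiset ℕ) = m := by
  intro L
  induction L with
  | nil =>
    intro _ m p q hm _ _
    have : m = 0 := Multiset.eq_zero_of_forall_notMem fun d hd => by simpa using hm d hd
    subst this
    exact ⟨[], by simp [combos], rfl⟩
  | cons a L ih =>
    intro hnd m p q hm hp hq
    have hsplit : m = Multiset.replicate (m.count a) a + m.filter (· ≠ a) := by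
      rw [← Multiset.filter_eq', Multiset.filter_add_not]
    set j := m.count a with hj
    set m' := m.filter (· ≠ a) with hm'
    rw [hsplit, Multiset.map_add, Multiset.sum_add, Multiset.map_replicate, Multiset.sum_replicate,
      smul_eq_mul] at hp hq
    have hc : Multiset.card m = j + Multiset.card m' := by
      conv_lhs => rw [hsplit]
      rw [Multiset.card_add, Multiset.card_replicate]
    obtain ⟨l, hl, hlm⟩ := ih (List.nodup_cons.1 hnd).2 m' (p - j * wFive a) (q - j * wSeven a)
      (fun d hd => by
        obtain ⟨h1, h2⟩ := Multiset.mem_filter.1 hd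
        exact (List.mem_cons.1 (hm d h1)).resolve_left h2) (by omega) (by omega)
    refine ⟨List.replicate j a ++ l, ?_, ?_⟩
    · simp only [combos, List.mem_flatMap, List.mem_range]
      refine ⟨j, by omega, ?_⟩
      rw [if_pos ⟨by omega, by omega⟩]
      exact List.mem_map.2 ⟨l, by rw [hc, Nat.add_sub_cancel_left]; exact hl, rfl⟩
    · rw [← Multiset.coe_add, Multiset.coe_replicate, hlm]
      exact hsplit.symm

theorem mem_parts : ∀ {K : List ℕ}, K.Nodup → (∀ k ∈ K, 0 < k) → ∀ (m : Multiset ℕ) (p q : ℕ),
    (∀ k ∈ m, k ∈ K) →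
    (m.map fun k => wFive (253 * k)).sum ≤ p → (m.map fun k => wSeven (253 * k)).sum ≤ q →
    ∃ l ∈ parts K (m.map fun k => k * k).sum p q, (l : Multiset ℕ) = m.map (253 * ·) := by
  intro K
  induction K with
  | nil =>
    intro _ _ m p q hm _ _
    have : m = 0 := Multiset.eq_zero_of_forall_notMem fun d hd => by simpa using hm d hd
    subst this
    exact ⟨[], by simp [parts], rfl⟩
  | cons a K ih =>
    intro hnd hpos m p q hm hp hq
    have hsplit : m = Multiset.replicate (m.count a) a + m.filter (· ≠ a) := by
      rw [← Multiset.filter_eq', Multiset.filter_add_not]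
    set j := m.count a with hj
    set m' := m.filter (· ≠ a) with hm'
    have e : ∀ f : ℕ → ℕ, (m.map f).sum = j * f a + (m'.map f).sum := fun f => by
      conv_lhs => rw [hsplit]
      rw [Multiset.map_add, Multiset.sum_add, Multiset.map_replicate, Multiset.sum_replicate, smul_eq_mul]
    rw [e] at hp hq
    rw [e]
    obtain ⟨l, hl, hlm⟩ := ih (List.nodup_cons.1 hnd).2 (fun k hk => hpos k (List.mem_cons_of_mem _ hk))
      m' (p - j * wFive (253 * a)) (q - j * wSeven (253 * a))
      (fun d hd => by
        obtain ⟨h1, h2⟩ := Multiset.mem_filter.1 hd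
        exact (List.mem_cons.1 (hm d h1)).resolve_left h2) (by omega) (by omega)
    refine ⟨List.replicate j (253 * a) ++ l, ?_, ?_⟩
    · simp only [parts, List.mem_flatMap, List.mem_range]
      have ha : 0 < a * a := Nat.mul_pos (hpos a List.mem_cons_self) (hpos a List.mem_cons_self)
      refine ⟨j, Nat.lt_succ_of_le ((Nat.le_div_iff_mul_le ha).2 (Nat.le_add_right _ _)), ?_⟩
      rw [if_pos ⟨by omega, by omega⟩]
      exact List.mem_map.2 ⟨l, by rw [Nat.add_sub_cancel_left]; exact hl, rfl⟩
    · rw [← Multiset.coe_add, Multiset.coe_replicate, hlm]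
      conv_rhs => rw [hsplit]
      rw [Multiset.map_add, Multiset.map_replicate]

theorem mem_optsFive {d : ℕ} {v : ℤ} (h : (5 : ℤ) ∣ (d : ℤ) - v) (hv : v * v ≤ 15) : v ∈ optsFive d := by
  have h3 : v ∈ ([-3, -2, -1, 0, 1, 2, 3] : List ℤ) := by
    have : -3 ≤ v ∧ v ≤ 3 := ⟨by nlinarith, by nlinarith⟩
    obtain ⟨h1, h2⟩ := this
    interval_cases v <;> simp
  exact List.mem_filter.2 ⟨h3, by simpa using Int.emod_eq_zero_of_dvd h⟩

/-- A column at an element of order five passes the test. -/
theorem okFive_of {α : Type*} (deg : α → ℕ) (v : α → ℤ) (hv : ∀ a, (5 : ℤ) ∣ (deg a : ℤ) - v a) :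
    ∀ (l : List α) (q s : ℤ), q = (l.map fun a => v a * v a).sum → q ≤ 15 →
      s + (l.map fun a => v a * deg a).sum = 0 → okFive (l.map deg) q s = true := by
  intro l
  induction l with
  | nil => intro q s hq _ hs; simp [okFive] at *; exact ⟨hq, hs⟩
  | cons a l ih =>
    intro q s hq hq15 hs
    simp only [List.map_cons, List.sum_cons] at hq hs
    have h0 : 0 ≤ (l.map fun b => v b * v b).sum :=
      List.sum_nonneg fun x hx => by
        obtain ⟨b, -, rfl⟩ := List.mem_map.1 hx
        exact mul_self_nonneg _
    simp only [List.map_cons, okFive, List.any_eq_true, Bool.and_eq_true, decide_eq_true_eq]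
    have hvv := mul_self_nonneg (v a)
    refine ⟨v a, mem_optsFive (hv a) (by linarith), by linarith, ih _ _ (by linarith) (by linarith) (by linarith)⟩

/-- A list that maps onto a given multiset image. -/
theorem exists_list_map {α : Type*} [DecidableEq α] (f : α → ℕ) :
    ∀ (L : List ℕ) (s : Multiset α), (L : Multiset ℕ) = s.map f →
      ∃ l : List α, (l : Multiset α) = s ∧ l.map f = L := by
  intro L
  induction L with
  | nil =>
    intro s h
    exact ⟨[], (Multiset.map_eq_zero.1 h.symm).symm, rfl⟩
  | cons d L ih =>
    intro s h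
    obtain ⟨a, ha, had⟩ := Multiset.mem_map.1 (h ▸ Multiset.mem_coe.2 List.mem_cons_self : d ∈ s.map f)
    obtain ⟨t, rfl⟩ := Multiset.exists_cons_of_mem ha
    rw [Multiset.map_cons, had, ← Multiset.cons_coe, Multiset.cons_inj_right] at h
    obtain ⟨l, hl, hlm⟩ := ih t h
    exact ⟨a :: l, by rw [← Multiset.cons_coe, hl], by rw [List.map_cons, had, hlm]⟩

end CfsgLib.MTwentyThreeUnique
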