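import Cfsg.Agent.Lib.MTwentyThreeUnique.Hyp
import Cfsg.Agent.Lib.MTwentyThreeUnique.Search
import Mathlib

/-!
The columns at elements of order five and seven.
-/

set_option autoImplicit false
set_option linter.style.haveILetI false

noncomputable section

namespace CfsgLib.MTwentyThreeUnique

open Subgroup CfsgLib.InvolChar Cfsg
open scoped ComplexConjugate
attribute [local instance] Classical.propDecidable

variable {G : Type*} [Group G]

/-- When the normaliser induces all automorphisms, all non-trivial powers are conjugate. -/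
theorem isConj_of_full [Finite G] {p c : ℕ} [Fact p.Prime] {x : G} (hx : orderOf x = p)
    (hC : Nat.card (centralizer ({x} : Set G)) = c)
    (hN : Nat.card (normalizer ((zpowers x : Subgroup G) : Set G)) = c * (p - 1))
    {u : G} (hu : u ∈ zpowers x) (hu1 : u ≠ 1) : IsConj x u := by
  classical
  set P := zpowers x with hP
  set C := centralizer ({x} : Set G) with hCdef
  set N := normalizer ((P : Subgroup G) : Set G) with hNdef
  have hx1 : x ≠ 1 := fun h => by
    rw [h, orderOf_one] at hx; exact (Fact.out : p.Prime).one_lt.ne hx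
  have hCN : C ≤ N := by
    rw [hCdef, hNdef, ← centralizer_closure, ← zpowers_eq_closure]
    exact centralizer_le_normalizer _
  have hPc : Nat.card P = p := by rw [hP, Nat.card_zpowers, hx]
  let f : N ⧸ C.subgroupOf N → {w : P // w ≠ 1} := fun q =>
    ⟨⟨(q.out : G) * x * (q.out : G)⁻¹, (q.out.2 x).mp (mem_zpowers x)⟩,
      fun h => hx1 (conj_eq_one_iff.mp (congrArg Subtype.val h))⟩
  have hf : Function.Injective f := by
    intro a b h
    have h' : (a.out : G) * x * (a.out : G)⁻¹ = (b.out : G) * x * (b.out : G)⁻¹ :=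
      congrArg (fun w : {w : P // w ≠ 1} => ((w : P) : G)) h
    rw [← a.out_eq', ← b.out_eq', QuotientGroup.eq, mem_subgroupOf]
    refine mem_centralizer_singleton_iff.2 ?_
    simp only [Subgroup.coe_mul, Subgroup.coe_inv]
    calc (a.out : G)⁻¹ * (b.out : G) * x
        = (a.out : G)⁻¹ * ((b.out : G) * x * (b.out : G)⁻¹) * (b.out : G) := by group
      _ = x * ((a.out : G)⁻¹ * (b.out : G)) := by rw [← h']; group
  have hcard : Nat.card (N ⧸ C.subgroupOf N) = Nat.card {w : P // w ≠ 1} := by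
    have h1 := (C.subgroupOf N).card_mul_index
    rw [Nat.card_congr (subgroupOfEquivOfLe hCN).toEquiv, hC, hN, Subgroup.index] at h1
    haveI := Fintype.ofFinite P
    rw [Nat.card_eq_fintype_card (α := {w : P // w ≠ 1}), Fintype.card_subtype_compl,
      Fintype.card_subtype_eq, ← Nat.card_eq_fintype_card, hPc]
    exact Nat.eq_of_mul_eq_mul_left (hC ▸ Nat.card_pos) h1
  obtain ⟨q, hq⟩ := ((Nat.bijective_iff_injective_and_card f).mpr ⟨hf, hcard⟩).2
    ⟨⟨u, hu⟩, fun h => hu1 (congrArg Subtype.val h)⟩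
  exact isConj_iff.mpr ⟨q.out, congrArg (fun w : {w : P // w ≠ 1} => ((w : P) : G)) hq⟩

theorem pow_conj (g x : G) (k : ℕ) : g * x ^ k * g⁻¹ = (g * x * g⁻¹) ^ k := (conj_pow).symm

variable [Fintype G] (hL : Local G)
include hL

/-- An element of order seven is conjugate to its square and not to its inverse. -/
theorem seven_conj {x : G} (hx : orderOf x = 7) : IsConj x (x ^ 2) ∧ ¬ IsConj x x⁻¹ := by
  haveI : Fact (Nat.Prime 7) := ⟨by norm_num⟩
  obtain ⟨hC, hN⟩ := hL.seven x hx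
  set C := centralizer ({x} : Set G) with hCdef
  set N := normalizer ((zpowers x : Subgroup G) : Set G) with hNdef
  have hCN : C ≤ N := by
    rw [hCdef, hNdef, ← centralizer_closure, ← zpowers_eq_closure]
    exact centralizer_le_normalizer _
  haveI hnorm : (C.subgroupOf N).Normal := ⟨fun c hc g => by
    rw [mem_subgroupOf] at hc ⊢
    refine mem_centralizer_singleton_iff.2 ?_
    have hgi : (g : G)⁻¹ ∈ N := inv_mem g.2
    obtain ⟨k, hk⟩ := (hgi x).1 (mem_zpowers x)
    have hcomm : Commute (c : G) ((g : G)⁻¹ * x * ((g : G)⁻¹)⁻¹) := by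
      rw [← hk]
      exact (show Commute (c : G) x from mem_centralizer_singleton_iff.1 hc).zpow_right k
    simp only [Subgroup.coe_mul, Subgroup.coe_inv]
    calc (g : G) * (c : G) * (g : G)⁻¹ * x
        = (g : G) * ((c : G) * ((g : G)⁻¹ * x * ((g : G)⁻¹)⁻¹)) * (g : G)⁻¹ := by group
      _ = x * ((g : G) * (c : G) * (g : G)⁻¹) := by rw [hcomm.eq]; group⟩
  have hidx : (C.subgroupOf N).index = 3 := by
    have h := (C.subgroupOf N).card_mul_index
    rw [Nat.card_congr (subgroupOfEquivOfLe hCN).toEquiv, hC, hN] at h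
    omega
  -- every element of the normaliser has its cube in the centraliser
  have hcube : ∀ g ∈ N, g ^ 3 ∈ C := fun g hg => by
    have := (C.subgroupOf N).pow_index_mem ⟨g, hg⟩
    rw [hidx, mem_subgroupOf] at this
    exact this
  have hpow : ∀ g ∈ N, ∀ k : ℕ, g * x * g⁻¹ = x ^ k → k ^ 3 % 7 = 1 := fun g hg k hk => by
    have e : g ^ 3 * x * (g ^ 3)⁻¹ = x ^ (k ^ 3) := by
      calc g ^ 3 * x * (g ^ 3)⁻¹ = g * (g * (g * x * g⁻¹) * g⁻¹) * g⁻¹ := by
            simp only [pow_succ, pow_zero, one_mul, mul_inv_rev, mul_assoc]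
        _ = x ^ (k ^ 3) := by
          rw [hk, pow_conj, hk, ← pow_mul, pow_conj, hk, ← pow_mul]
          congr 1; ring
    rw [mem_centralizer_singleton_iff.1 (hcube g hg), mul_inv_cancel_right] at e
    have h1 : x ^ 1 = x ^ (k ^ 3) := by rw [pow_one]; exact e
    rw [pow_inj_mod, hx] at h1
    omega
  have himg : ∀ g ∈ N, ∃ k : ℕ, k < 7 ∧ g * x * g⁻¹ = x ^ k := fun g hg => by
    obtain ⟨k, hk⟩ := ((isOfFinOrder_of_finite x).mem_powers_iff_mem_zpowers).2 ((hg x).1 (mem_zpowers x))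
    refine ⟨k % 7, Nat.mod_lt _ (by norm_num), ?_⟩
    simp only at hk
    rw [← hx, pow_mod_orderOf, hk]
  refine ⟨?_, fun hinv => ?_⟩
  · obtain ⟨g, hgN, hgC⟩ : ∃ g ∈ N, g ∉ C := by
      by_contra hne
      push_neg at hne
      have h := card_dvd_of_le (fun g hg => hne g hg : N ≤ C)
      rw [hC, hN] at h
      norm_num at h
    obtain ⟨k, hk7, hk⟩ := himg g hgN
    have h3 := hpow g hgN k hk
    have hk1 : k ≠ 1 := fun h => hgC (mem_centralizer_singleton_iff.2 (by
      rw [h, pow_one] at hk; exact mul_inv_eq_iff_eq_mul.1 hk))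
    interval_cases k <;> try (exfalso; revert h3; decide)
    · exact absurd rfl hk1
    · exact isConj_iff.2 ⟨g, hk⟩
    · refine isConj_iff.2 ⟨g * g, ?_⟩
      calc g * g * x * (g * g)⁻¹ = g * (g * x * g⁻¹) * g⁻¹ := by group
        _ = x ^ 2 := by
          rw [hk, pow_conj, hk, ← pow_mul, ← pow_mod_orderOf, hx]
  · obtain ⟨g, hg⟩ := isConj_iff.1 hinv
    have hgN : g ∈ N := by
      have hmap : (zpowers x).map (MulAut.conj g).toMonoidHom = zpowers x := by
        rw [MonoidHom.map_zpowers]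
        show zpowers (g * x * g⁻¹) = _
        rw [hg, zpowers_inv]
      intro y
      have h2 : y ∈ zpowers x ↔ g * y * g⁻¹ ∈ (zpowers x).map (MulAut.conj g).toMonoidHom :=
        (Subgroup.mem_map_iff_mem (f := (MulAut.conj g).toMonoidHom) (MulAut.conj g).injective (x := y)).symm
      rw [hmap] at h2
      exact h2
    have h6 : g * x * g⁻¹ = x ^ 6 := by
      rw [hg]
      exact inv_eq_of_mul_eq_one_left (by rw [← pow_succ, show 6 + 1 = orderOf x by rw [hx]]; exact pow_orderOf_eq_one x)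
    have := hpow g hgN 6 h6
    norm_num at this

omit hL in
theorem wFive_le {d : ℕ} {v : ℤ} (h : (5 : ℤ) ∣ (d : ℤ) - v) : (wFive d : ℤ) ≤ v * v := by
  have hd : d % 5 < 5 := Nat.mod_lt _ (by norm_num)
  have h2 : ∀ w : ℤ, 2 ≤ w ∨ w ≤ -2 → 4 ≤ w * w := fun w hw => by
    rcases hw with h | h <;> nlinarith
  have h1 : v = 0 ∨ 1 ≤ v * v := by
    by_cases hv : v = 0
    · exact Or.inl hv
    · exact Or.inr (by nlinarith [mul_self_pos.2 hv])
  unfold wFive
  interval_cases hr : d % 5 <;> simp only [List.getD_cons_succ, List.getD_cons_zero, Nat.cast_ofNat,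
    Nat.cast_zero, Nat.cast_one]
  · exact mul_self_nonneg v
  · rcases h1 with h0 | h0
    · omega
    · exact h0
  · exact h2 v (by omega)
  · exact h2 v (by omega)
  · rcases h1 with h0 | h0
    · omega
    · exact h0

/-- The column at an element of order five: integers. -/
theorem five_column : ∃ v : IrrCharacter G → ℤ, (∀ χ, (5 : ℤ) ∣ (deg χ : ℤ) - v χ) ∧
    ∑ χ, v χ * v χ = 15 ∧ ∑ χ, v χ * (deg χ : ℤ) = 0 := by
  haveI : Fact (Nat.Prime 5) := ⟨by norm_num⟩
  obtain ⟨x, hx⟩ := exists_prime_orderOf_dvd_card' (G := G) 5 (by rw [hL.card]; norm_num)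
  obtain ⟨hC, hN⟩ := hL.five x hx
  have hconj : ∀ u ∈ zpowers x, u ≠ 1 → IsConj x u := fun u hu hu1 =>
    isConj_of_full hx hC (by rw [hN]) hu hu1
  choose v hv hd using fun χ => CfsgLib.SmallGroups.PrimeRational.exists_int_value hx hconj χ
  refine ⟨v, hd, ?_, ?_⟩
  · rw [CfsgLib.MTwelveUnique.sum_sq_val v hv, hC]; norm_num
  · have hx1 : x ≠ 1 := fun h => by rw [h, orderOf_one] at hx; norm_num at hx
    rw [← CfsgLib.MTwelveUnique.sum_deg_val hx1 v hv]
    exact Finset.sum_congr rfl fun χ _ => mul_comm _ _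

/-- The weights at an element of order five. -/
theorem sum_wFive : ∑ χ : IrrCharacter G, wFive (deg χ) ≤ 15 := by
  obtain ⟨v, hd, hs, -⟩ := five_column hL
  have : ((∑ χ : IrrCharacter G, wFive (deg χ) : ℕ) : ℤ) ≤ 15 := by
    rw [Nat.cast_sum, ← hs]
    exact Finset.sum_le_sum fun χ _ => wFive_le (hd χ)
  exact_mod_cast this

/-- The value at an element of order seven and its conjugate. -/
theorem seven_value {x : G} (hx : orderOf x = 7) (χ : IrrCharacter G) :
    ∃ g N : ℤ, (χ : G → ℂ) x + conj ((χ : G → ℂ) x) = (g : ℂ) ∧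
      (χ : G → ℂ) x * conj ((χ : G → ℂ) x) = (N : ℂ) ∧ (7 : ℤ) ∣ 6 * g + 2 * (deg χ : ℤ) ∧
      (7 : ℤ) ∣ 6 * N + (deg χ : ℤ) ^ 2 := by
  obtain ⟨c2, -⟩ := seven_conj hL hx
  have hval : ∀ {a b : G}, IsConj a b → (χ : G → ℂ) a = (χ : G → ℂ) b := fun h =>
    CfsgLib.MTwelveUnique.eq_of_isConj χ h
  have e2 : (χ : G → ℂ) (x ^ 2) = (χ : G → ℂ) x := (hval c2).symm
  have e4 : (χ : G → ℂ) (x ^ 4) = (χ : G → ℂ) x := by
    obtain ⟨g, hg⟩ := isConj_iff.1 c2
    rw [← e2]
    refine (hval (isConj_iff.2 ⟨g, ?_⟩)).symm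
    rw [pow_conj, hg, ← pow_mul]
  have hinv : ∀ a b : ℕ, a + b = 7 → (χ : G → ℂ) (x ^ a) = conj ((χ : G → ℂ) (x ^ b)) := fun a b h => by
    have h7 : x ^ 7 = 1 := hx ▸ pow_orderOf_eq_one x
    rw [eq_inv_of_mul_eq_one_left (show x ^ a * x ^ b = 1 by rw [← pow_add, h, h7]),
      CfsgLib.Char.char_inv (CfsgLib.Char.isCharacter_of_isIrr χ.2)]
  obtain ⟨g, N, hg, hN, h1, h2⟩ := CfsgLib.MathieuBlocks.pair_rel χ.2 x hx ({1, 2, 3, 4, 5, 6} : Finset ℕ)
    (by decide) ⟨1, by simp⟩ (z := (χ : G → ℂ) x) (fun i hi => by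
      simp only [Finset.mem_insert, Finset.mem_singleton] at hi
      rcases hi with rfl | rfl | rfl | rfl | rfl | rfl
      · exact Or.inl (by rw [pow_one])
      · exact Or.inl e2
      · exact Or.inr (by rw [hinv 3 4 rfl, e4])
      · exact Or.inl e4
      · exact Or.inr (by rw [hinv 5 2 rfl, e2])
      · exact Or.inr (by rw [hinv 6 1 rfl, pow_one]))
    (fun _ => (deg χ : ℤ)) (fun i hi => by
      have : i = 0 := by
        have h : Finset.range 7 \ ({1, 2, 3, 4, 5, 6} : Finset ℕ) = {0} := by decide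
        rw [h] at hi
        exact Finset.mem_singleton.1 hi
      subst this
      rw [pow_zero, deg_spec, Int.cast_natCast])
  have h : Finset.range 7 \ ({1, 2, 3, 4, 5, 6} : Finset ℕ) = {0} := by decide
  rw [h, Finset.sum_singleton] at h1 h2
  exact ⟨g, N, hg, hN, by simpa using h1, by simpa using h2⟩

omit hL in
theorem wSeven_le {d : ℕ} {N : ℤ} (h0 : 0 ≤ N) (h : (7 : ℤ) ∣ 6 * N + (d : ℤ) ^ 2) :
    (wSeven d : ℤ) ≤ N := by
  have h7 : (7 : ℤ) ∣ N - ((d % 7 : ℕ) : ℤ) * ((d % 7 : ℕ) : ℤ) := by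
    have e : ((d % 7 : ℕ) : ℤ) = (d : ℤ) - 7 * ((d / 7 : ℕ) : ℤ) := by omega
    obtain ⟨k, hk⟩ := h
    refine ⟨N - k + ((d / 7 : ℕ) : ℤ) * (2 * (d : ℤ) - 7 * ((d / 7 : ℕ) : ℤ)), ?_⟩
    rw [e]; linear_combination -hk
  have hd : d % 7 < 7 := Nat.mod_lt _ (by norm_num)
  unfold wSeven
  interval_cases hr : d % 7 <;> simp only [List.getD_cons_succ, List.getD_cons_zero] <;> omega

/-- The weights at an element of order seven. -/
theorem sum_wSeven : ∑ χ : IrrCharacter G, wSeven (deg χ) ≤ 14 := by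
  obtain ⟨x, hx⟩ := exists_prime_orderOf_dvd_card' (G := G) 7 (hp := ⟨by norm_num⟩) (by rw [hL.card]; norm_num)
  choose g N hg hN h1 h2 using fun χ => seven_value hL hx χ
  have h0 : ∀ χ, 0 ≤ N χ := fun χ => by
    have := congrArg Complex.re (hN χ)
    rw [Complex.mul_conj] at this
    simp only [Complex.ofReal_re, Complex.intCast_re] at this
    exact_mod_cast (this ▸ Complex.normSq_nonneg _ : (0 : ℝ) ≤ (N χ : ℝ))
  have hs : ∑ χ, N χ = 14 := by
    have h := CfsgLib.Char.second_orthogonality x x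
    rw [if_pos (IsConj.refl x), (hL.seven x hx).1] at h
    simp only [hN] at h
    exact_mod_cast h
  have : ((∑ χ : IrrCharacter G, wSeven (deg χ) : ℕ) : ℤ) ≤ 14 := by
    rw [Nat.cast_sum, ← hs]
    exact Finset.sum_le_sum fun χ _ => wSeven_le (h0 χ) (h2 χ)
  exact_mod_cast this

end CfsgLib.MTwentyThreeUnique
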