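import Mathlib

/-!
The alternating group on seven letters: transitivity on three-sets missing a letter, and the invariant sets
of its subgroups of order 72.
-/

set_option autoImplicit false
set_option linter.style.haveILetI false

noncomputable section

namespace CfsgLib.MTwentyThreeUnique.AltSeven

open Equiv Equiv.Perm
attribute [local instance] Classical.propDecidable

variable {X : Type*} [Fintype X] [DecidableEq X]

/-- An even permutation moving one point to another with a third fixed. -/
theorem exists_even_move (hX : Fintype.card X = 7) {p r q : X} (hp : p ≠ q) (hr : r ≠ q) :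
    ∃ g : Perm X, g ∈ alternatingGroup X ∧ g q = q ∧ g p = r := by
  rcases eq_or_ne p r with rfl | hpr
  · exact ⟨1, one_mem _, rfl, rfl⟩
  have h4 : 1 < ({p, r, q} : Finset X)ᶜ.card := by
    rw [Finset.card_compl, hX]
    have : ({p, r, q} : Finset X).card ≤ 3 := Finset.card_le_three
    omega
  obtain ⟨a, ha, b, hb, hab⟩ := Finset.one_lt_card.1 h4
  simp only [Finset.mem_compl, Finset.mem_insert, Finset.mem_singleton, not_or] at ha hb
  refine ⟨swap p r * swap a b, ?_, ?_, ?_⟩
  · rw [mem_alternatingGroup, map_mul, sign_swap hpr, sign_swap hab, neg_mul_neg, one_mul]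
  · rw [Perm.mul_apply, swap_apply_of_ne_of_ne (Ne.symm ha.2.2) (Ne.symm hb.2.2),
      swap_apply_of_ne_of_ne hp.symm hr.symm]
  · rw [Perm.mul_apply, swap_apply_of_ne_of_ne (Ne.symm ha.1) (Ne.symm hb.1), swap_apply_left]

/-- An even permutation fixing a letter carries any three-set missing it to any other. -/
theorem exists_even_map {S T : Finset X} (hS : S.card = 3) (hT : T.card = 3) {q : X} (hqS : q ∉ S) (hqT : q ∉ T) :
    ∃ g : Perm X, g ∈ alternatingGroup X ∧ g q = q ∧ S.image g = T := by
  set e := Finset.equivOfCardEq (hS.trans hT.symm) with he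
  set g₀ : Perm X := e.extendSubtype with hg₀
  have hg₀S : ∀ x ∈ S, g₀ x ∈ T := fun x hx => e.extendSubtype_mem x hx
  have hgq : g₀ q ∉ T := e.extendSubtype_not_mem q hqS
  set g₁ : Perm X := swap (g₀ q) q * g₀ with hg₁
  have hg₁q : g₁ q = q := by rw [hg₁, Perm.mul_apply, swap_apply_left]
  have hg₁S : ∀ x ∈ S, g₁ x ∈ T := fun x hx => by
    have h := hg₀S x hx
    have n1 : g₀ x ≠ g₀ q := fun e' => hgq (e' ▸ h)
    have n2 : g₀ x ≠ q := fun e' => hqT (e' ▸ h)
    rw [hg₁, Perm.mul_apply, swap_apply_of_ne_of_ne n1 n2]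
    exact h
  obtain ⟨a, ha, b, hb, hab⟩ := Finset.one_lt_card.1 (show 1 < S.card by omega)
  have fin : ∀ g : Perm X, g q = q → (∀ x ∈ S, g x ∈ T) → g ∈ alternatingGroup X →
      ∃ g : Perm X, g ∈ alternatingGroup X ∧ g q = q ∧ S.image g = T := fun g h1 h2 h3 =>
    ⟨g, h3, h1, Finset.eq_of_subset_of_card_le (Finset.image_subset_iff.2 h2)
      (by rw [Finset.card_image_of_injective _ g.injective, hS, hT])⟩
  rcases Int.units_eq_one_or (Perm.sign g₁) with h | h
  · exact fin g₁ hg₁q hg₁S (mem_alternatingGroup.2 h)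
  · refine fin (g₁ * swap a b) ?_ ?_ (mem_alternatingGroup.2 ?_)
    · have n1 : q ≠ a := fun e' => hqS (e' ▸ ha)
      have n2 : q ≠ b := fun e' => hqS (e' ▸ hb)
      rw [Perm.mul_apply, swap_apply_of_ne_of_ne n1 n2, hg₁q]
    · intro x hx
      rw [Perm.mul_apply]
      refine hg₁S _ ?_
      rcases eq_or_ne x a with rfl | hxa
      · rwa [swap_apply_left]
      rcases eq_or_ne x b with rfl | hxb
      · rwa [swap_apply_right]
      rwa [swap_apply_of_ne_of_ne hxa hxb]
    · rw [map_mul, h, sign_swap hab, neg_mul_neg, one_mul]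

variable {H : Subgroup (Perm X)}

/-- A subgroup of the alternating group preserving a set embeds in the alternating group of that set, provided it
fixes the complement pointwise. -/
theorem card_dvd_alt (hle : H ≤ alternatingGroup X) (p : X → Prop) [DecidablePred p]
    (hfix : ∀ h ∈ H, ∀ x, ¬ p x → h x = x) :
    ∃ f : H →* alternatingGroup {x // p x}, Function.Injective f := by
  have hmem : ∀ h ∈ H, ∀ x, p (h x) ↔ p x := fun h hh x => by
    constructor
    · intro hx
      by_contra hc
      exact hc (by rwa [hfix h hh x hc] at hx)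
    · intro hx
      by_contra hc
      exact hc (by rwa [h.injective (hfix h hh _ hc)])
  refine ⟨{ toFun := fun h => ⟨(h : Perm X).subtypePerm (hmem h h.2), ?_⟩
            map_one' := Subtype.ext (Perm.ext fun x => rfl)
            map_mul' := fun a b => Subtype.ext (Perm.ext fun x => rfl) }, ?_⟩
  · rw [mem_alternatingGroup, sign_subtypePerm _ _ fun x hx => by
      by_contra hc
      exact hx (hfix h h.2 x hc)]
    exact mem_alternatingGroup.1 (hle h.2)
  · intro a b hab
    refine Subtype.ext (Perm.ext fun x => ?_)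
    by_cases hx : p x
    · exact congrArg Subtype.val (congrArg (fun g : Perm {x // p x} => g ⟨x, hx⟩) (congrArg Subtype.val hab))
    · rw [hfix a a.2 x hx, hfix b b.2 x hx]

/-- No subgroup of order 72 fixes a letter. -/
theorem not_fix (hX : Fintype.card X = 7) (hle : H ≤ alternatingGroup X) (h72 : Nat.card H = 72) (q : X) :
    ∃ h ∈ H, h q ≠ q := by
  by_contra hne
  push Not at hne
  obtain ⟨f, hf⟩ := card_dvd_alt hle (fun x => x ≠ q) fun h hh x hx => by
    rw [not_not.1 hx]; exact hne h hh
  have h6 : Nat.card {x // x ≠ q} = 6 := by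
    rw [Nat.card_eq_fintype_card, Fintype.card_subtype_compl, Fintype.card_subtype_eq, hX]
  haveI : Nontrivial {x // x ≠ q} := Finite.one_lt_card_iff_nontrivial.1 (by omega)
  have hA : Nat.card (alternatingGroup {x // x ≠ q}) = 360 := by
    rw [nat_card_alternatingGroup, h6]
    decide
  have hR : Nat.card f.range = 72 := by
    rw [← h72]; exact (Nat.card_congr (MonoidHom.ofInjective hf).toEquiv).symm
  have hi : f.range.index = 5 := by
    have := f.range.card_mul_index
    rw [hR, hA] at this
    omega
  haveI : IsSimpleGroup (alternatingGroup {x // x ≠ q}) := alternatingGroup.isSimpleGroup (by omega)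
  have hker : f.range.normalCore = ⊥ := by
    refine (Subgroup.Normal.eq_bot_or_eq_top (H := f.range.normalCore) inferInstance).resolve_right fun ht => ?_
    have h := eq_top_iff.2 (ht ▸ f.range.normalCore_le)
    rw [h, Subgroup.index_top] at hi
    omega
  have hinj : Function.Injective (MulAction.toPermHom (alternatingGroup {x // x ≠ q}) (alternatingGroup {x // x ≠ q} ⧸ f.range)) := by
    rw [← MonoidHom.ker_eq_bot_iff, ← hker, Subgroup.normalCore_eq_ker]
  have h := Subgroup.card_dvd_of_injective _ hinj
  rw [Nat.card_perm, hA] at h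
  rw [← Subgroup.index, hi] at h
  norm_num [Nat.factorial] at h

/-- No subgroup of order 72 fixes a pair of letters. -/
theorem not_pair (hX : Fintype.card X = 7) (hle : H ≤ alternatingGroup X) (h72 : Nat.card H = 72) {p r : X}
    (hpr : p ≠ r) : ∃ h ∈ H, h p ∉ ({p, r} : Finset X) ∨ h r ∉ ({p, r} : Finset X) := by
  by_contra hne
  push Not at hne
  set H' := H ⊓ MulAction.stabilizer (Perm X) p with hH'
  obtain ⟨f, hf⟩ := card_dvd_alt (H := H') (inf_le_left.trans hle) (fun x => x ≠ p ∧ x ≠ r) fun h hh x hx => by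
    have hp : h p = p := hh.2
    rcases not_and_or.1 hx with e | e
    · rw [not_not.1 e, hp]
    · rw [not_not.1 e]
      have h2 := (hne h hh.1).2
      simp only [Finset.mem_insert, Finset.mem_singleton] at h2
      rcases h2 with h2 | h2
      · exact absurd (h.injective (h2.trans hp.symm)) hpr.symm
      · exact h2
  have h5 : Nat.card {x // x ≠ p ∧ x ≠ r} = 5 := by
    rw [Nat.card_eq_fintype_card, Fintype.card_subtype]
    have e : Finset.univ.filter (fun x => x ≠ p ∧ x ≠ r) = ({p, r} : Finset X)ᶜ := by
      ext x; simp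
    rw [e, Finset.card_compl, hX, Finset.card_pair hpr]
  haveI : Nontrivial {x // x ≠ p ∧ x ≠ r} := Finite.one_lt_card_iff_nontrivial.1 (by omega)
  have hd := Subgroup.card_dvd_of_injective f hf
  rw [nat_card_alternatingGroup, h5] at hd
  have horb : (MulAction.orbit H p).ncard ≤ 2 := by
    refine (Set.ncard_le_ncard (t := (({p, r} : Finset X) : Set X)) ?_ (Set.toFinite _)).trans ?_
    · rintro _ ⟨h, rfl⟩
      exact (hne h h.2).1
    · rw [Set.ncard_coe_finset, Finset.card_pair hpr]
  have hst : Nat.card (MulAction.stabilizer H p) = Nat.card H' :=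
    Nat.card_congr
      { toFun := fun h => ⟨((h : H) : Perm X), (h : H).2, h.2⟩
        invFun := fun h => ⟨⟨h, h.2.1⟩, h.2.2⟩
        left_inv := fun _ => rfl
        right_inv := fun _ => rfl }
  have hmul := (MulAction.stabilizer H p).card_mul_index
  rw [MulAction.index_stabilizer, hst, h72] at hmul
  norm_num [Nat.factorial, -Nat.card_eq_fintype_card] at hd
  have hle60 := Nat.le_of_dvd (by norm_num) hd
  have hpos : 0 < (MulAction.orbit H p).ncard := (Set.ncard_pos (Set.toFinite _)).2 ⟨p, MulAction.mem_orbit_self p⟩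
  interval_cases hn : (MulAction.orbit H p).ncard
  · omega
  · have : Nat.card H' = 36 := by omega
    rw [this] at hd
    norm_num at hd

/-- An invariant set of a subgroup of order 72 has 0, 3, 4 or 7 letters. -/
theorem card_invariant (hX : Fintype.card X = 7) (hle : H ≤ alternatingGroup X) (h72 : Nat.card H = 72)
    (S : Finset X) (hS : ∀ h ∈ H, ∀ x ∈ S, h x ∈ S) :
    S.card = 0 ∨ S.card = 3 ∨ S.card = 4 ∨ S.card = 7 := by
  have small : ∀ S : Finset X, (∀ h ∈ H, ∀ x ∈ S, h x ∈ S) → S.card ≠ 1 ∧ S.card ≠ 2 := by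
    intro S hS
    constructor
    · intro h1
      obtain ⟨q, rfl⟩ := Finset.card_eq_one.1 h1
      obtain ⟨h, hh, hq⟩ := not_fix hX hle h72 q
      exact hq (Finset.mem_singleton.1 (hS h hh q (Finset.mem_singleton_self q)))
    · intro h2
      obtain ⟨p, r, hpr, rfl⟩ := Finset.card_eq_two.1 h2
      obtain ⟨h, hh, hq | hq⟩ := not_pair hX hle h72 hpr
      · exact hq (hS h hh p (by simp))
      · exact hq (hS h hh r (by simp))
  have hc : ∀ h ∈ H, ∀ x ∈ Sᶜ, h x ∈ Sᶜ := fun h hh x hx => by
    rw [Finset.mem_compl] at hx ⊢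
    intro hc
    have := hS h⁻¹ (inv_mem hh) _ hc
    simp at this
    exact hx this
  obtain ⟨a1, a2⟩ := small S hS
  obtain ⟨b1, b2⟩ := small Sᶜ hc
  rw [Finset.card_compl, hX] at b1 b2
  have : S.card ≤ 7 := hX ▸ S.card_le_univ
  omega

end CfsgLib.MTwentyThreeUnique.AltSeven
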