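import Cfsg.Agent.Lib.MTwentyThreeUnique.Three
import Cfsg.Agent.Lib.MTwentyThreeUnique.Eight
import Mathlib

/-!
The elementary abelian subgroup of order sixteen in the centraliser of an involution.
-/

set_option autoImplicit false
set_option linter.style.haveILetI false

noncomputable section

namespace CfsgLib.MTwentyThreeUnique

open Subgroup Cfsg
attribute [local instance] Classical.propDecidable

variable {G : Type*} [Group G]

/-- Mapping the generator into the cyclic subgroup is enough to normalise it. -/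
theorem mem_normalizer_zpowers [Finite G] {h g : G} (hh : h * g * h⁻¹ ∈ zpowers g) :
    h ∈ normalizer ((zpowers g : Subgroup G) : Set G) := by
  have e : (zpowers g).map (MulAut.conj h).toMonoidHom = zpowers g := by
    refine eq_of_le_of_card_ge ?_ (card_map_of_injective (MulAut.conj h).injective).ge
    rw [MonoidHom.map_zpowers]
    exact zpowers_le.2 hh
  intro y
  have h2 : y ∈ zpowers g ↔ h * y * h⁻¹ ∈ (zpowers g).map (MulAut.conj h).toMonoidHom :=
    (Subgroup.mem_map_iff_mem (f := (MulAut.conj h).toMonoidHom) (MulAut.conj h).injective (x := y)).symm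
  rw [e] at h2
  exact h2

variable [Fintype G] (hL : Local G)
include hL

/-- The normaliser of an element of order seven centralises its involution. -/
theorem normalizer_le_cent {x t : G} (hx : orderOf x = 7) (ht : orderOf t = 2) (hxt : Commute x t) :
    normalizer ((zpowers x : Subgroup G) : Set G) ≤ centralizer ({t} : Set G) := by
  obtain ⟨t', -, -, huniq⟩ := exists_seven_two hL hx
  intro g hg
  refine mem_centralizer_singleton_iff.2 ?_
  have hgi : g⁻¹ ∈ normalizer ((zpowers x : Subgroup G) : Set G) := inv_mem hg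
  obtain ⟨j, hj⟩ := (hgi x).1 (mem_zpowers x)
  have hcomm : Commute t (g⁻¹ * x * g⁻¹⁻¹) := by
    rw [← hj]
    exact (hxt.zpow_left j).symm
  have h2 : orderOf (g * t * g⁻¹) = 2 := by
    rw [← ht]
    exact MulEquiv.orderOf_eq (MulAut.conj g) t
  have hst : g * t * g⁻¹ = t := by
    rw [huniq _ h2 ?_, huniq t ht hxt.eq]
    calc x * (g * t * g⁻¹) = g * ((g⁻¹ * x * g⁻¹⁻¹) * t) * g⁻¹ := by group
      _ = g * t * g⁻¹ * x := by rw [← hcomm.eq]; group
  exact mul_inv_eq_iff_eq_mul.1 hst

/-- An involution, commuting elements of order seven and three, and the elementary abelian group. -/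
structure Sixteen (G : Type*) [Group G] where
  /-- order seven -/
  x : G
  /-- order three -/
  y : G
  /-- the involution -/
  t : G
  /-- the subgroup -/
  E : Subgroup G
  order_x : orderOf x = 7
  order_y : orderOf y = 3
  order_t : orderOf t = 2
  comm_xt : Commute x t
  comm_yt : Commute y t
  y_norm : y ∈ normalizer ((zpowers x : Subgroup G) : Set G)
  card_E : Nat.card E = 16
  comm_E : ∀ a ∈ E, ∀ b ∈ E, Commute a b
  sq_E : ∀ a ∈ E, a * a = 1
  t_mem : t ∈ E
  conj_E : ∀ c ∈ centralizer ({t} : Set G), ∀ e ∈ E, c * e * c⁻¹ ∈ E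
  cent : centralizer (E : Set G) ≤ E
  fix_y : Nat.card (E ⊓ centralizer ({y} : Set G) : Subgroup G) = 4

set_option maxHeartbeats 800000 in
/-- The centraliser of an involution has a normal subgroup of order sixteen with quotient of exponent two. -/
theorem exists_pre_sixteen {t : G} (ht : orderOf t = 2) :
    ∃ R : Subgroup G, R ≤ centralizer ({t} : Set G) ∧ Nat.card R = 16 ∧ t ∈ R ∧
      (∀ c ∈ centralizer ({t} : Set G), ∀ r ∈ R, c * r * c⁻¹ ∈ R) ∧
      (∀ r ∈ R, r * r ∈ zpowers t) ∧ (∀ r ∈ R, ∀ s ∈ R, r * s * r⁻¹ * s⁻¹ ∈ zpowers t) := by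
  classical
  haveI : Fact (Nat.Prime 7) := ⟨by norm_num⟩
  haveI : Fact (Nat.Prime 2) := ⟨Nat.prime_two⟩
  set C := centralizer ({t} : Set G) with hCdef
  have hC : Nat.card C = 2688 := cent_eq hL ht
  have htt : t * t = 1 := by have := pow_orderOf_eq_one t; rwa [ht, sq] at this
  have ht1 : t ≠ 1 := fun e => by rw [e, orderOf_one] at ht; norm_num at ht
  have htC : t ∈ C := mem_centralizer_singleton_iff.2 rfl
  set Z := (zpowers t).subgroupOf C with hZ
  haveI : Z.Normal := ⟨fun z hz c => by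
    have hz' : (z : G) ∈ zpowers t := hz
    rw [hZ, mem_subgroupOf]
    obtain ⟨i, hi⟩ := hz'
    have hc : Commute (c : G) t := mem_centralizer_singleton_iff.1 c.2
    have : (c : G) * z * (c : G)⁻¹ = z := by
      rw [← hi]
      exact mul_inv_eq_iff_eq_mul.2 (hc.zpow_right i).eq
    simp only [Subgroup.coe_mul, Subgroup.coe_inv, this]
    exact ⟨i, hi⟩⟩
  have hZc : Nat.card Z = 2 := by
    rw [hZ, Nat.card_congr (subgroupOfEquivOfLe (zpowers_le.2 htC)).toEquiv, Nat.card_zpowers, ht]
  have hZ2 : ∀ g : G, g ∈ zpowers t → g = 1 ∨ g = t := fun g hg => by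
    obtain ⟨n, rfl⟩ := ((isOfFinOrder_of_finite t).mem_powers_iff_mem_zpowers).2 hg
    show t ^ n = 1 ∨ t ^ n = t
    rw [← pow_mod_orderOf, ht]
    rcases Nat.mod_two_eq_zero_or_one n with e | e <;> simp [e]
  set π := QuotientGroup.mk' Z with hπ
  have hsurj : Function.Surjective π := QuotientGroup.mk'_surjective Z
  have hQ : Nat.card (C ⧸ Z) = 1344 := by
    have := Z.card_mul_index
    rw [hZc, hC, Subgroup.index] at this
    omega
  haveI : Fintype (C ⧸ Z) := Fintype.ofFinite _
  have hcomap : ∀ S : Subgroup (C ⧸ Z), Nat.card (S.comap π) = 2 * Nat.card S := fun S => by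
    have e1 := (S.comap π).card_mul_index
    have e2 := S.card_mul_index
    rw [Subgroup.index_comap_of_surjective S hsurj, hC] at e1
    rw [hQ] at e2
    have hpos : 0 < S.index := Nat.pos_of_ne_zero FiniteIndex.index_ne_zero
    refine Nat.eq_of_mul_eq_mul_right hpos ?_
    rw [e1, mul_assoc, e2]
    try norm_num
  have hone : ∀ g : C, π g = 1 → (g : G) = 1 ∨ (g : G) = t := fun g hg =>
    hZ2 _ ((QuotientGroup.eq_one_iff g).1 hg)
  have hlift : ∀ (p : ℕ), p.Prime → p % 2 = 1 → ∀ q : C ⧸ Z, orderOf q = p →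
      ∃ g : C, π g = q ∧ orderOf (g : G) = p := by
    intro p hp hodd q hq
    obtain ⟨g, rfl⟩ := hsurj q
    have hqp : (π g) ^ p = 1 := hq ▸ pow_orderOf_eq_one (π g)
    refine ⟨g ^ (p + 1), by rw [map_pow, pow_succ, hqp, one_mul], ?_⟩
    have h1 : ((g ^ (p + 1) : C) : G) ^ p = 1 := by
      rw [SubgroupClass.coe_pow, ← pow_mul, mul_comm, pow_mul]
      obtain ⟨l, hl⟩ : 2 ∣ p + 1 := ⟨(p + 1) / 2, by omega⟩
      have := hone (g ^ p) (by rw [map_pow, hqp])
      rw [SubgroupClass.coe_pow] at this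
      rcases this with e | e
      · rw [e, one_pow]
      · rw [e, hl, pow_mul, sq, htt, one_pow]
    haveI := Fact.mk hp
    refine orderOf_eq_prime h1 fun e => ?_
    have e' : g ^ (p + 1) = 1 := Subtype.ext e
    have := congrArg π e'
    rw [map_pow, map_one, pow_succ, hqp, one_mul] at this
    rw [this, orderOf_one] at hq
    exact hp.one_lt.ne hq
  have hfix : ∀ (p : ℕ), p % 2 = 1 → ∀ g u : C, (g : G) ^ p = 1 → (u : G) ^ p = 1 → π g = π u →
      (u : G) = g := by
    intro p hodd g u hg hu he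
    have h1 : π (g⁻¹ * u) = 1 := by rw [map_mul, map_inv, he, inv_mul_cancel]
    rcases hone _ h1 with e | e
    · rw [Subgroup.coe_mul, Subgroup.coe_inv] at e
      exact (inv_mul_eq_one.1 e).symm
    exfalso
    rw [Subgroup.coe_mul, Subgroup.coe_inv, inv_mul_eq_iff_eq_mul] at e
    have hc : Commute (g : G) t := mem_centralizer_singleton_iff.1 g.2
    rw [e, hc.mul_pow, hg, one_mul, ← Nat.mod_add_div p 2, pow_add, pow_mul, sq, htt, one_pow, mul_one, hodd,
      pow_one] at hu
    exact ht1 hu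
  have hseven : ∀ q : C ⧸ Z, orderOf q = 7 → Nat.card (centralizer ({q} : Set (C ⧸ Z))) = 7 ∧
      Nat.card (normalizer ((zpowers q : Subgroup (C ⧸ Z)) : Set (C ⧸ Z))) = 21 := by
    intro q hq
    obtain ⟨g, rfl, hg⟩ := hlift 7 (by norm_num) (by norm_num) q hq
    obtain ⟨hCg, hNg⟩ := hL.seven (g : G) hg
    have hg7 : (g : G) ^ 7 = 1 := hg ▸ pow_orderOf_eq_one (g : G)
    have hconj7 : ∀ h : G, (h * g * h⁻¹) ^ 7 = 1 := fun h => by rw [conj_pow, hg7, mul_one, mul_inv_cancel]
    have hNC : normalizer ((zpowers (g : G) : Subgroup G) : Set G) ≤ C :=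
      normalizer_le_cent hL hg ht (mem_centralizer_singleton_iff.1 g.2)
    constructor
    · have e : ((centralizer ({π g} : Set (C ⧸ Z))).comap π).map C.subtype = centralizer ({(g : G)} : Set G) := by
        ext h
        constructor
        · rintro ⟨h, hh, rfl⟩
          have hc : π h * π g = π g * π h := mem_centralizer_singleton_iff.1 hh
          refine mem_centralizer_singleton_iff.2 (mul_inv_eq_iff_eq_mul.1 ?_)
          exact hfix 7 rfl g (h * g * h⁻¹) hg7 (hconj7 h) (by rw [map_mul, map_mul, map_inv, hc, mul_inv_cancel_right])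
        · intro hh
          have hhC : h ∈ C := hNC (mem_normalizer_zpowers (by
            rw [mem_centralizer_singleton_iff.1 hh, mul_inv_cancel_right]; exact mem_zpowers _))
          refine ⟨⟨h, hhC⟩, ?_, rfl⟩
          show π ⟨h, hhC⟩ ∈ centralizer ({π g} : Set (C ⧸ Z))
          rw [mem_centralizer_singleton_iff, ← map_mul, ← map_mul]
          exact congrArg π (Subtype.ext (mem_centralizer_singleton_iff.1 hh))
      have h := hcomap (centralizer ({π g} : Set (C ⧸ Z)))
      rw [← card_map_of_injective C.subtype_injective, e, hCg] at h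
      omega
    · have e : ((normalizer ((zpowers (π g) : Subgroup (C ⧸ Z)) : Set (C ⧸ Z))).comap π).map C.subtype =
          normalizer ((zpowers (g : G) : Subgroup G) : Set G) := by
        ext h
        constructor
        · rintro ⟨h, hh, rfl⟩
          refine mem_normalizer_zpowers ?_
          obtain ⟨i, hi⟩ := (hh (π g)).1 (mem_zpowers _)
          refine ⟨i, ?_⟩
          have h' := hfix 7 rfl (g ^ i) (h * g * h⁻¹) (by
            rw [SubgroupClass.coe_zpow, ← zpow_natCast, ← zpow_mul, mul_comm, zpow_mul, zpow_natCast, hg7, one_zpow])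
            (hconj7 h) (by rw [map_zpow, map_mul, map_mul, map_inv]; exact hi)
          simpa using h'.symm
        · intro hh
          refine ⟨⟨h, hNC hh⟩, ?_, rfl⟩
          show π ⟨h, hNC hh⟩ ∈ normalizer ((zpowers (π g) : Subgroup (C ⧸ Z)) : Set (C ⧸ Z))
          refine mem_normalizer_zpowers ?_
          obtain ⟨i, hi⟩ := (hh (g : G)).1 (mem_zpowers _)
          refine ⟨i, ?_⟩
          show π g ^ i = π ⟨h, hNC hh⟩ * π g * (π ⟨h, hNC hh⟩)⁻¹
          rw [← map_zpow, ← map_inv, ← map_mul, ← map_mul]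
          refine congrArg π (Subtype.ext ?_)
          simpa using hi
      have h := hcomap (normalizer ((zpowers (π g) : Subgroup (C ⧸ Z)) : Set (C ⧸ Z)))
      rw [← card_map_of_injective C.subtype_injective, e, hNg] at h
      omega
  have hthree : ∀ q : C ⧸ Z, orderOf q = 3 → ¬ 4 ∣ Nat.card (centralizer ({q} : Set (C ⧸ Z))) := by
    intro q hq h4
    obtain ⟨g, rfl, hg⟩ := hlift 3 (by norm_num) (by norm_num) q hq
    have hg3 : (g : G) ^ 3 = 1 := hg ▸ pow_orderOf_eq_one (g : G)
    refine not_eight_cent_three hL hg ?_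
    have hle : ((centralizer ({π g} : Set (C ⧸ Z))).comap π).map C.subtype ≤ centralizer ({(g : G)} : Set G) := by
      rintro _ ⟨h, hh, rfl⟩
      have hc : π h * π g = π g * π h := mem_centralizer_singleton_iff.1 hh
      refine mem_centralizer_singleton_iff.2 (mul_inv_eq_iff_eq_mul.1 ?_)
      exact hfix 3 rfl g (h * g * h⁻¹) hg3
        (show ((h : G) * g * (h : G)⁻¹) ^ 3 = 1 by rw [conj_pow, hg3, mul_one, mul_inv_cancel])
        (by rw [map_mul, map_mul, map_inv, hc, mul_inv_cancel_right])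
    refine dvd_trans ?_ (card_dvd_of_le hle)
    rw [card_map_of_injective C.subtype_injective, hcomap]
    exact Nat.mul_dvd_mul_left 2 h4
  have hF : Frame (C ⧸ Z) := ⟨hQ, hseven, hthree⟩
  obtain ⟨M, hM, hM8⟩ := exists_normal_eight hF
  haveI := hM
  -- the quotient is elementary abelian
  obtain ⟨qx, hqx⟩ := exists_prime_orderOf_dvd_card' (G := C ⧸ Z) 7 (by rw [hQ]; norm_num)
  have hq7 : qx ^ 7 = 1 := hqx ▸ pow_orderOf_eq_one qx
  have hfull : ∀ H : Subgroup (C ⧸ Z), H ≤ M → (∀ h ∈ H, qx * h * qx⁻¹ ∈ H) → H ≠ ⊥ → H = M := by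
    intro H hHM hHx hne
    have hfx : H ⊓ centralizer ({qx} : Set (C ⧸ Z)) = ⊥ := by
      refine eq_bot_of_card_eq _ (Nat.eq_one_of_dvd_coprimes (by norm_num : Nat.Coprime 8 7) ?_ ?_)
      · exact hM8 ▸ card_dvd_of_le (inf_le_left.trans hHM)
      · exact (hseven qx hqx).1 ▸ card_dvd_of_le inf_le_right
    have hmod := card_modEq_fixed hq7 hHx
    rw [hfx, Subgroup.card_bot] at hmod
    have hd : Nat.card H ∣ 2 ^ 3 := by
      have := card_dvd_of_le hHM
      rw [hM8] at this
      exact this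
    obtain ⟨i, hi, hHi⟩ := (Nat.dvd_prime_pow Nat.prime_two).1 hd
    have h1 : Nat.card H ≠ 1 := fun e => hne (eq_bot_of_card_eq H e)
    refine eq_of_le_of_card_ge hHM ?_
    rw [hM8]
    rw [hHi] at hmod h1 ⊢
    interval_cases i <;> omega
  haveI : Nontrivial M := Finite.one_lt_card_iff_nontrivial.mp (by omega)
  have hMp : IsPGroup 2 M := IsPGroup.of_card (n := 3) (by rw [hM8]; norm_num)
  haveI := hMp.center_nontrivial
  have hcen : (center M).map M.subtype = M := by
    haveI : ((center M).map M.subtype).Normal := inferInstance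
    refine hfull _ (map_subtype_le _) (fun h hh => Subgroup.Normal.conj_mem inferInstance h hh qx) ?_
    intro e
    rw [Subgroup.map_eq_bot_iff_of_injective _ M.subtype_injective] at e
    exact (Subgroup.nontrivial_iff_ne_bot _).1 inferInstance e
  have hMab : ∀ a ∈ M, ∀ b ∈ M, a * b = b * a := fun a ha b hb => by
    obtain ⟨c, hc, rfl⟩ := hcen.ge hb
    exact congrArg Subtype.val (Subgroup.mem_center_iff.1 hc ⟨a, ha⟩)
  let T : Subgroup (C ⧸ Z) :=
    { carrier := {a | a ∈ M ∧ a * a = 1}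
      one_mem' := ⟨one_mem M, mul_one 1⟩
      mul_mem' := by
        rintro a b ⟨ha, ha2⟩ ⟨hb, hb2⟩
        exact ⟨mul_mem ha hb, by rw [(show Commute b a from hMab b hb a ha).mul_mul_mul_comm, ha2, hb2, mul_one]⟩
      inv_mem' := by
        rintro a ⟨ha, ha2⟩
        exact ⟨inv_mem ha, by rw [← mul_inv_rev, ha2, inv_one]⟩ }
  have hT : T = M := by
    refine hfull T (fun a ha => ha.1) (fun a ha => ⟨hM.conj_mem a ha.1 qx, ?_⟩) ?_
    · rw [conj_mul, ha.2, mul_one, mul_inv_cancel]
    · intro e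
      obtain ⟨a, ha⟩ := exists_prime_orderOf_dvd_card' (G := M) 2 (by rw [hM8]; norm_num)
      have haQ : orderOf (a : C ⧸ Z) = 2 := by rw [Subgroup.orderOf_coe, ha]
      have h2 := pow_orderOf_eq_one (a : C ⧸ Z)
      rw [haQ, sq] at h2
      have hmem : (a : C ⧸ Z) ∈ T := ⟨a.2, h2⟩
      rw [e, Subgroup.mem_bot] at hmem
      rw [hmem, orderOf_one] at haQ
      norm_num at haQ
  refine ⟨(M.comap π).map C.subtype, Subgroup.map_subtype_le _, ?_, ?_, ?_, ?_, ?_⟩
  · rw [card_map_of_injective C.subtype_injective, hcomap, hM8]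
  · refine ⟨⟨t, htC⟩, ?_, rfl⟩
    show π ⟨t, htC⟩ ∈ M
    have h1 : π ⟨t, htC⟩ = 1 := (QuotientGroup.eq_one_iff _).2 (show (⟨t, htC⟩ : C) ∈ Z from mem_zpowers t)
    rw [h1]
    exact one_mem M
  · rintro c hc _ ⟨r, hr, rfl⟩
    refine ⟨⟨c, hc⟩ * r * ⟨c, hc⟩⁻¹, ?_, rfl⟩
    show π _ ∈ M
    rw [map_mul, map_mul, map_inv]
    exact hM.conj_mem _ hr _
  · rintro _ ⟨r, hr, rfl⟩
    have h2 : π r * π r = 1 := (hT.ge hr : π r ∈ T).2
    rw [← map_mul] at h2
    exact (QuotientGroup.eq_one_iff (r * r)).1 h2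
  · rintro _ ⟨r, hr, rfl⟩ _ ⟨s, hs, rfl⟩
    have h2 : π (r * s * r⁻¹ * s⁻¹) = 1 := by
      rw [map_mul, map_mul, map_mul, map_inv, map_inv, hMab _ hr _ hs, mul_inv_cancel_right, mul_inv_cancel]
    exact (QuotientGroup.eq_one_iff (r * s * r⁻¹ * s⁻¹)).1 h2

set_option maxHeartbeats 800000 in
theorem exists_sixteen : Nonempty (Sixteen G) := by
  classical
  haveI : Fact (Nat.Prime 7) := ⟨by norm_num⟩
  haveI : Fact (Nat.Prime 3) := ⟨by norm_num⟩
  haveI : Fact (Nat.Prime 2) := ⟨Nat.prime_two⟩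
  obtain ⟨x, hx⟩ := exists_prime_orderOf_dvd_card' (G := G) 7 (by rw [hL.card]; norm_num)
  obtain ⟨t, ht, hxt, -⟩ := exists_seven_two hL hx
  have hxt' : Commute x t := hxt
  obtain ⟨hCx, hNx⟩ := hL.seven x hx
  have hx7 : x ^ 7 = 1 := hx ▸ pow_orderOf_eq_one x
  obtain ⟨y', hy'⟩ := exists_prime_orderOf_dvd_card'
    (G := normalizer ((zpowers x : Subgroup G) : Set G)) 3 (by rw [hNx]; norm_num)
  set y : G := (y' : G) with hydef
  have hy : orderOf y = 3 := by rw [hydef, Subgroup.orderOf_coe, hy']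
  have hy3 : y ^ 3 = 1 := hy ▸ pow_orderOf_eq_one y
  have hyC : y ∈ centralizer ({t} : Set G) := normalizer_le_cent hL hx ht hxt' y'.2
  have hxC : x ∈ centralizer ({t} : Set G) := mem_centralizer_singleton_iff.2 hxt'.eq
  obtain ⟨R, hRC, hR16, htR, hconj, hRsq, hRcomm⟩ := exists_pre_sixteen hL ht
  have ht1 : t ≠ 1 := fun e => by rw [e, orderOf_one] at ht; norm_num at ht
  have hZ2 : ∀ g : G, g ∈ zpowers t → g = 1 ∨ g = t := fun g hg => by
    obtain ⟨n, rfl⟩ := ((isOfFinOrder_of_finite t).mem_powers_iff_mem_zpowers).2 hg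
    show t ^ n = 1 ∨ t ^ n = t
    rw [← pow_mod_orderOf, ht]
    rcases Nat.mod_two_eq_zero_or_one n with e | e <;> simp [e]
  -- the count of fixed points of `x`
  have hfix7 : ∀ H : Subgroup G, t ∈ H → H ≤ centralizer ({t} : Set G) → ¬ 7 ∣ Nat.card H →
      (∀ h ∈ H, x * h * x⁻¹ ∈ H) → Nat.card H % 7 = 2 := by
    intro H htH _ h7 hH
    rw [card_modEq_fixed hx7 hH]
    set f := Nat.card (H ⊓ centralizer ({x} : Set G) : Subgroup G) with hf
    have hd : f ∣ 2 * 7 := by
      have := card_dvd_of_le (inf_le_right : H ⊓ centralizer ({x} : Set G) ≤ _)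
      rw [hCx] at this
      exact this
    have h7' : ¬ 7 ∣ f := fun h => h7 (h.trans (card_dvd_of_le inf_le_left))
    have hd' : f ∣ 2 :=
      (((Nat.Prime.coprime_iff_not_dvd (by norm_num : Nat.Prime 7)).mpr h7').symm).dvd_of_dvd_mul_right hd
    have h2 : 2 ∣ f := ht ▸ Subgroup.orderOf_dvd_natCard _
      (show t ∈ H ⊓ centralizer ({x} : Set G) from ⟨htH, mem_centralizer_singleton_iff.2 hxt'.eq.symm⟩)
    rw [Nat.dvd_antisymm hd' h2]
  have hsub16 : ∀ H : Subgroup G, H ≤ R → t ∈ H → (∀ h ∈ H, x * h * x⁻¹ ∈ H) → 2 < Nat.card H → H = R := by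
    intro H hHR htH hHx h2
    have hd : Nat.card H ∣ 2 ^ 4 := by
      have := card_dvd_of_le hHR
      rw [hR16] at this
      exact this
    obtain ⟨i, hi, hHi⟩ := (Nat.dvd_prime_pow Nat.prime_two).1 hd
    have hmod := hfix7 H htH (hHR.trans hRC) (fun h => by
      have := h.trans hd
      norm_num at this) hHx
    refine eq_of_le_of_card_ge hHR ?_
    rw [hR16, hHi]
    rw [hHi] at hmod h2
    interval_cases i <;> omega
  have htc : ∀ r ∈ R, Commute r t := fun r hr => mem_centralizer_singleton_iff.1 (hRC hr)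
  -- the centralisers inside `R`
  have hbig : ∀ r ∈ R, ∀ H : Subgroup G, H ≤ R →
      Nat.card H ≤ 2 * Nat.card (H ⊓ centralizer ({r} : Set G) : Subgroup G) := by
    intro r hr H hH
    let φ : H →* G :=
      { toFun := fun s => (s : G) * r * (s : G)⁻¹ * r⁻¹
        map_one' := by simp
        map_mul' := fun a b => by
          have hb := hRcomm b (hH b.2) r hr
          have hca : Commute (a : G) ((b : G) * r * (b : G)⁻¹ * r⁻¹) := by
            rcases hZ2 _ hb with e | e <;> rw [e]
            · exact Commute.one_right _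
            · exact htc _ (hH a.2)
          have hcr : Commute ((a : G) * r * (a : G)⁻¹ * r⁻¹) ((b : G) * r * (b : G)⁻¹ * r⁻¹) := by
            rcases hZ2 _ hb with e | e <;> rw [e]
            · exact Commute.one_right _
            · rcases hZ2 _ (hRcomm a (hH a.2) r hr) with e' | e' <;> rw [e'] <;>
                first
                | exact Commute.one_left _
                | exact Commute.refl t
          calc ((a * b : H) : G) * r * ((a * b : H) : G)⁻¹ * r⁻¹
              = (a : G) * ((b : G) * r * (b : G)⁻¹ * r⁻¹) * (r * (a : G)⁻¹ * r⁻¹) := by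
                rw [Subgroup.coe_mul]; group
            _ = ((b : G) * r * (b : G)⁻¹ * r⁻¹) * ((a : G) * r * (a : G)⁻¹ * r⁻¹) := by
                rw [hca.eq]; group
            _ = ((a : G) * r * (a : G)⁻¹ * r⁻¹) * ((b : G) * r * (b : G)⁻¹ * r⁻¹) := hcr.eq.symm }
    have hker : φ.ker.map H.subtype = H ⊓ centralizer ({r} : Set G) := by
      ext s
      constructor
      · rintro ⟨s, hs, rfl⟩
        refine ⟨s.2, mem_centralizer_singleton_iff.2 (mul_inv_eq_iff_eq_mul.1 ?_)⟩
        exact mul_inv_eq_one.1 (MonoidHom.mem_ker.1 hs)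
      · rintro ⟨hsH, hsr⟩
        refine ⟨⟨s, hsH⟩, MonoidHom.mem_ker.2 ?_, rfl⟩
        show s * r * s⁻¹ * r⁻¹ = 1
        rw [mem_centralizer_singleton_iff.1 hsr, mul_inv_cancel_right, mul_inv_cancel]
    have hrange : φ.range ≤ zpowers t := by
      rintro _ ⟨s, rfl⟩
      exact hRcomm s (hH s.2) r hr
    have h1 := φ.ker.card_mul_index
    rw [Subgroup.index_ker] at h1
    have h2 := Nat.le_of_dvd Nat.card_pos (card_dvd_of_le hrange)
    rw [Nat.card_zpowers, ht] at h2
    rw [← hker, card_map_of_injective H.subtype_injective]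
    calc Nat.card H = Nat.card φ.ker * Nat.card φ.range := h1.symm
      _ ≤ Nat.card φ.ker * 2 := Nat.mul_le_mul_left _ h2
      _ = 2 * Nat.card φ.ker := Nat.mul_comm _ _
  -- commutative
  have hab : ∀ a ∈ R, ∀ b ∈ R, Commute a b := by
    set K := R ⊓ centralizer (R : Set G) with hK
    have htK : t ∈ K := ⟨htR, mem_centralizer_iff.2 fun r hr => (htc r hr).eq⟩
    have hKx : ∀ k ∈ K, x * k * x⁻¹ ∈ K := fun k hk => by
      refine ⟨hconj x hxC k hk.1, mem_centralizer_iff.2 fun r hr => ?_⟩
      have h1 : x⁻¹ * r * x⁻¹⁻¹ ∈ R := hconj x⁻¹ (inv_mem hxC) r hr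
      rw [inv_inv] at h1
      calc r * (x * k * x⁻¹) = x * ((x⁻¹ * r * x) * k) * x⁻¹ := by group
        _ = x * (k * (x⁻¹ * r * x)) * x⁻¹ := by rw [mem_centralizer_iff.1 hk.2 _ h1]
        _ = x * k * x⁻¹ * r := by group
    by_cases hK2 : 2 < Nat.card K
    · have e := hsub16 K inf_le_left htK hKx hK2
      exact fun a ha b hb => (mem_centralizer_iff.1 (e.ge hb).2 a ha)
    exfalso
    have hKt : K = zpowers t := (eq_of_le_of_card_ge (zpowers_le.2 htK) (by
      rw [Nat.card_zpowers, ht]; omega)).symm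
    have hnot : ∀ r ∈ R, r ∉ zpowers t →
        Nat.card (R ⊓ centralizer ({r} : Set G) : Subgroup G) = 8 := by
      intro r hr hrt
      have h8 := hbig r hr R le_rfl
      rw [hR16] at h8
      have hd : Nat.card (R ⊓ centralizer ({r} : Set G) : Subgroup G) ∣ 2 ^ 4 := by
        have := card_dvd_of_le (inf_le_left : R ⊓ centralizer ({r} : Set G) ≤ R)
        rw [hR16] at this
        exact this
      have hne : Nat.card (R ⊓ centralizer ({r} : Set G) : Subgroup G) ≠ 16 := fun e => hrt (by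
        have e' : R ⊓ centralizer ({r} : Set G) = R := eq_of_le_of_card_ge inf_le_left (by rw [e, hR16])
        rw [← hKt]
        exact ⟨hr, mem_centralizer_iff.2 fun s hs => mem_centralizer_singleton_iff.1 (e'.ge hs).2⟩)
      obtain ⟨i, hi, hci⟩ := (Nat.dvd_prime_pow Nat.prime_two).1 hd
      rw [hci] at h8 hne ⊢
      interval_cases i <;> omega
    have hsame : ∀ r ∈ R, r ∉ zpowers t → ∀ u ∈ R, u ∉ zpowers t → Commute u r →
        R ⊓ centralizer ({r} : Set G) = R ⊓ centralizer ({u} : Set G) := by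
      intro r hr hrt u hu hut hur
      set I := (R ⊓ centralizer ({r} : Set G)) ⊓ (R ⊓ centralizer ({u} : Set G)) with hI
      have hrI : r ∈ I := ⟨⟨hr, mem_centralizer_singleton_iff.2 rfl⟩, hr, mem_centralizer_singleton_iff.2 hur.eq.symm⟩
      have huI : u ∈ I := ⟨⟨hu, mem_centralizer_singleton_iff.2 hur.eq⟩, hu, mem_centralizer_singleton_iff.2 rfl⟩
      have htI : t ∈ I := ⟨⟨htR, mem_centralizer_singleton_iff.2 (htc r hr).eq.symm⟩, htR,
        mem_centralizer_singleton_iff.2 (htc u hu).eq.symm⟩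
      have e8 := hnot r hr hrt
      have e8' := hnot u hu hut
      have hd : Nat.card I ∣ 2 ^ 3 := by
        have := card_dvd_of_le (inf_le_left : I ≤ R ⊓ centralizer ({r} : Set G))
        rw [e8] at this
        exact this
      rcases eq_or_ne r u with rfl | hne
      · rfl
      rcases eq_or_ne (r * t) u with heq | hne'
      · ext s
        simp only [Subgroup.mem_inf, mem_centralizer_singleton_iff]
        refine and_congr_right fun hs => ⟨fun h => ?_, fun h => ?_⟩
        · rw [← heq]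
          exact (Commute.mul_right h (htc s hs)).eq
        · have hh : Commute s (u * t⁻¹) := Commute.mul_right h (htc s hs).inv_right
          rw [← heq, mul_inv_cancel_right] at hh
          exact hh.eq
      have hs : ({1, t, r, r * t, u} : Finset G).card = 5 := by
        have a1 : r ≠ 1 := fun e => hrt (e ▸ one_mem _)
        have a2 : r ≠ t := fun e => hrt (e ▸ mem_zpowers t)
        have a3 : u ≠ 1 := fun e => hut (e ▸ one_mem _)
        have a4 : u ≠ t := fun e => hut (e ▸ mem_zpowers t)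
        have a5 : r * t ≠ 1 := fun e => hrt (by
          rw [mul_eq_one_iff_eq_inv] at e; rw [e]; exact inv_mem (mem_zpowers t))
        have a6 : r * t ≠ t := fun e => a1 (mul_eq_right.1 e)
        have a7 : r * t ≠ r := fun e => ht1 (mul_eq_left.1 e)
        simp [ht1.symm, a1.symm, a2.symm, a3.symm, a4.symm, a5.symm, a6.symm, a7.symm, hne, hne']
      have hsub : (({1, t, r, r * t, u} : Finset G) : Set G) ⊆ (I : Set G) := by
        intro g hg
        simp only [Finset.coe_insert, Finset.coe_singleton, Set.mem_insert_iff, Set.mem_singleton_iff] at hg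
        rcases hg with rfl | rfl | rfl | rfl | rfl
        exacts [one_mem I, htI, hrI, mul_mem hrI htI, huI]
      have h5 : 5 ≤ Nat.card I := by
        have h := Set.ncard_le_ncard hsub (Set.toFinite _)
        rw [Set.ncard_coe_finset, hs, ← Nat.card_coe_set_eq] at h
        exact h
      obtain ⟨i, hi, hIi⟩ := (Nat.dvd_prime_pow Nat.prime_two).1 hd
      have hI8 : Nat.card I = 8 := by rw [hIi] at h5 ⊢; interval_cases i <;> omega
      have e1 : I = R ⊓ centralizer ({r} : Set G) := eq_of_le_of_card_ge inf_le_left (by rw [hI8, e8])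
      have e2 : I = R ⊓ centralizer ({u} : Set G) := eq_of_le_of_card_ge inf_le_right (by rw [hI8, e8'])
      rw [← e1, e2]
    obtain ⟨r₁, hr₁, hr₁t⟩ : ∃ r ∈ R, r ∉ zpowers t := by
      by_contra hne
      push Not at hne
      have := Nat.le_of_dvd Nat.card_pos (card_dvd_of_le (show R ≤ zpowers t from hne))
      rw [Nat.card_zpowers, ht] at this
      omega
    obtain ⟨r₂, hr₂, hr₂1⟩ : ∃ r ∈ R, r ∉ R ⊓ centralizer ({r₁} : Set G) := by
      by_contra hne
      push Not at hne
      have := Nat.le_of_dvd Nat.card_pos (card_dvd_of_le (show R ≤ R ⊓ centralizer ({r₁} : Set G) from hne))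
      rw [hnot r₁ hr₁ hr₁t] at this
      omega
    have hr₂t : r₂ ∉ zpowers t := fun h => hr₂1 ⟨hr₂, mem_centralizer_singleton_iff.2 (by
      rcases hZ2 _ h with e | e <;> rw [e]
      · simp
      · exact (htc r₁ hr₁).eq.symm)⟩
    have h4 := hbig r₂ hr₂ (R ⊓ centralizer ({r₁} : Set G)) inf_le_left
    rw [hnot r₁ hr₁ hr₁t] at h4
    obtain ⟨u, hu, hut⟩ : ∃ u ∈ (R ⊓ centralizer ({r₁} : Set G)) ⊓ centralizer ({r₂} : Set G), u ∉ zpowers t := by
      by_contra hne
      push Not at hne
      have := Nat.le_of_dvd Nat.card_pos (card_dvd_of_le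
        (show (R ⊓ centralizer ({r₁} : Set G)) ⊓ centralizer ({r₂} : Set G) ≤ zpowers t from hne))
      rw [Nat.card_zpowers, ht] at this
      omega
    have e1 := hsame r₁ hr₁ hr₁t u hu.1.1 hut (mem_centralizer_singleton_iff.1 hu.1.2)
    have e2 := hsame r₂ hr₂ hr₂t u hu.1.1 hut (mem_centralizer_singleton_iff.1 hu.2)
    exact hr₂1 (e1.symm ▸ e2 ▸ ⟨hr₂, mem_centralizer_singleton_iff.2 rfl⟩)
  -- elementary
  have hsq : ∀ a ∈ R, a * a = 1 := by
    let φ : R →* G :=
      { toFun := fun a => (a : G) * a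
        map_one' := by simp
        map_mul' := fun a b => by
          rw [Subgroup.coe_mul]
          exact (hab b b.2 a a.2).mul_mul_mul_comm _ _ }
    set H := φ.ker.map R.subtype with hH
    have hmemH : ∀ g, g ∈ H ↔ g ∈ R ∧ g * g = 1 := fun g =>
      ⟨fun ⟨a, ha, e⟩ => e ▸ ⟨a.2, MonoidHom.mem_ker.1 ha⟩, fun ⟨h1, h2⟩ => ⟨⟨g, h1⟩, MonoidHom.mem_ker.2 h2, rfl⟩⟩
    have hHc : 8 ≤ Nat.card H := by
      have hrange : φ.range ≤ zpowers t := by
        rintro _ ⟨s, rfl⟩
        exact hRsq s s.2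
      have h1 := φ.ker.card_mul_index
      rw [Subgroup.index_ker, hR16] at h1
      have h2 := Nat.le_of_dvd Nat.card_pos (card_dvd_of_le hrange)
      rw [Nat.card_zpowers, ht] at h2
      rw [hH, card_map_of_injective R.subtype_injective]
      have : Nat.card φ.ker * Nat.card φ.range ≤ Nat.card φ.ker * 2 := Nat.mul_le_mul_left _ h2
      omega
    have htt : t * t = 1 := by have := pow_orderOf_eq_one t; rwa [ht, sq] at this
    have e := hsub16 H (Subgroup.map_subtype_le _) ((hmemH t).2 ⟨htR, htt⟩)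
      (fun h hh => (hmemH _).2 ⟨hconj x hxC h ((hmemH h).1 hh).1, by
        rw [conj_mul, ((hmemH h).1 hh).2, mul_one, mul_inv_cancel]⟩) (by omega)
    exact fun a ha => ((hmemH a).1 (e.ge ha)).2
  -- the fixed points of `y`
  have hfix3 : Nat.card (R ⊓ centralizer ({y} : Set G) : Subgroup G) = 4 := by
    have hmod := card_modEq_fixed hy3 (fun h hh => hconj y hyC h hh)
    rw [hR16] at hmod
    have hd : Nat.card (R ⊓ centralizer ({y} : Set G) : Subgroup G) ∣ 2 ^ 4 := by
      have := card_dvd_of_le (inf_le_left : R ⊓ centralizer ({y} : Set G) ≤ R)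
      rw [hR16] at this
      exact this
    have h2 : 2 ∣ Nat.card (R ⊓ centralizer ({y} : Set G) : Subgroup G) := ht ▸ Subgroup.orderOf_dvd_natCard _
      (show t ∈ R ⊓ centralizer ({y} : Set G) from ⟨htR, mem_centralizer_singleton_iff.2
        (mem_centralizer_singleton_iff.1 hyC).symm⟩)
    have h8 : ¬ 8 ∣ Nat.card (R ⊓ centralizer ({y} : Set G) : Subgroup G) := fun h =>
      not_eight_cent_three hL hy (h.trans (card_dvd_of_le inf_le_right))
    obtain ⟨i, hi, hci⟩ := (Nat.dvd_prime_pow Nat.prime_two).1 hd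
    rw [hci] at hmod h2 h8 ⊢
    interval_cases i <;> omega
  -- self-centralising
  have hcent : centralizer (R : Set G) ≤ R := by
    set K := centralizer (R : Set G) with hK
    have hRK : R ≤ K := fun r hr => mem_centralizer_iff.2 fun s hs => (hab s hs r hr).eq
    have hKC : K ≤ centralizer ({t} : Set G) := fun k hk =>
      mem_centralizer_singleton_iff.2 (mem_centralizer_iff.1 hk t htR).symm
    have hKconj : ∀ c ∈ centralizer ({t} : Set G), ∀ k ∈ K, c * k * c⁻¹ ∈ K := fun c hc k hk =>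
      mem_centralizer_iff.2 fun r hr => by
        have h1 : c⁻¹ * r * c⁻¹⁻¹ ∈ R := hconj c⁻¹ (inv_mem hc) r hr
        rw [inv_inv] at h1
        calc r * (c * k * c⁻¹) = c * ((c⁻¹ * r * c) * k) * c⁻¹ := by group
          _ = c * (k * (c⁻¹ * r * c)) * c⁻¹ := by rw [mem_centralizer_iff.1 hk _ h1]
          _ = c * k * c⁻¹ * r := by group
    have h7 : ¬ 7 ∣ Nat.card K := fun h => by
      obtain ⟨c, hc⟩ := exists_prime_orderOf_dvd_card' (G := K) 7 h
      have := card_dvd_of_le (show R ≤ centralizer ({(c : G)} : Set G) from fun r hr =>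
        mem_centralizer_singleton_iff.2 (mem_centralizer_iff.1 c.2 r hr))
      rw [hR16, (hL.seven _ (by rw [Subgroup.orderOf_coe, hc])).1] at this
      norm_num at this
    have hd : Nat.card K ∣ 384 * 7 := by
      have := card_dvd_of_le hKC
      rwa [cent_eq hL ht] at this
    have hd' : Nat.card K ∣ 384 :=
      (((Nat.Prime.coprime_iff_not_dvd (by norm_num : Nat.Prime 7)).mpr h7).symm).dvd_of_dvd_mul_right hd
    have hmod := hfix7 K (hRK htR) hKC h7 (hKconj x hxC)
    have h16 : 16 ∣ Nat.card K := hR16 ▸ card_dvd_of_le hRK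
    have key : ∀ k ∈ List.range 385, 384 % k = 0 → k % 7 = 2 → k % 16 = 0 → k = 16 ∨ k = 128 := by decide +kernel
    rcases key _ (List.mem_range.2 (Nat.lt_succ_of_le (Nat.le_of_dvd (by norm_num) hd')))
      (Nat.mod_eq_zero_of_dvd hd') hmod (Nat.mod_eq_zero_of_dvd h16) with e | e
    · exact (eq_of_le_of_card_ge hRK (by rw [e, hR16])).ge
    exfalso
    have hm3 := card_modEq_fixed hy3 (hKconj y hyC)
    rw [e] at hm3
    have hdv : Nat.card (K ⊓ centralizer ({y} : Set G) : Subgroup G) ∣ 2 ^ 7 := by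
      have := card_dvd_of_le (inf_le_left : K ⊓ centralizer ({y} : Set G) ≤ K)
      rw [e] at this
      exact this
    have h4 : 4 ∣ Nat.card (K ⊓ centralizer ({y} : Set G) : Subgroup G) :=
      hfix3 ▸ card_dvd_of_le (inf_le_inf_right _ hRK)
    have h8 : ¬ 8 ∣ Nat.card (K ⊓ centralizer ({y} : Set G) : Subgroup G) := fun h =>
      not_eight_cent_three hL hy (h.trans (card_dvd_of_le inf_le_right))
    obtain ⟨i, hi, hci⟩ := (Nat.dvd_prime_pow Nat.prime_two).1 hdv
    rw [hci] at hm3 h4 h8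
    interval_cases i <;> omega
  exact ⟨{
    x := x, y := y, t := t, E := R
    order_x := hx, order_y := hy, order_t := ht, comm_xt := hxt'
    comm_yt := mem_centralizer_singleton_iff.1 hyC
    y_norm := y'.2
    card_E := hR16, comm_E := hab, sq_E := hsq, t_mem := htR, conj_E := hconj, cent := hcent
    fix_y := hfix3 }⟩

end CfsgLib.MTwentyThreeUnique
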