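import Cfsg.Agent.Lib.MTwentyThreeUnique.Suborbit
import Cfsg.Agent.Lib.MTwentyThreeUnique.AltSeven
import Mathlib

/-!
The seven classes in the suborbit of length 112: the point stabiliser acts on them as the alternating group,
with the group of order sixteen as kernel.
-/

set_option autoImplicit false
set_option linter.style.haveILetI false

noncomputable section

namespace CfsgLib.MTwentyThreeUnique

open Subgroup Cfsg
attribute [local instance] Classical.propDecidable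

universe w

variable {G : Type w} [Group G] [Fintype G]

namespace Geo

variable (Γ : Geo G)

/-- The stabiliser of the base and of the chosen neighbour. -/
def L : Subgroup G := MulAction.stabilizer G Γ.R.base ⊓ MulAction.stabilizer G Γ.b

theorem L_le_N : Γ.L ≤ Γ.R.S.N := fun _ hl => Γ.R.smul_base.1 hl.1

theorem mem_L {g : G} : g ∈ Γ.L ↔ g ∈ Γ.R.S.N ∧ g • Γ.b = Γ.b :=
  ⟨fun h => ⟨Γ.L_le_N h, h.2⟩, fun h => ⟨Γ.R.smul_base.2 h.1, h.2⟩⟩

theorem free_b {e : G} (he : e ∈ Γ.R.S.E) (h : e • Γ.b = Γ.b) : e = 1 := by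
  have hs := (Nat.card_eq_one_iff_unique.1 Γ.fix_b).1
  have := @Subsingleton.elim _ hs ⟨⟨e, he⟩, h⟩ ⟨1, one_smul _ _⟩
  exact congrArg (fun a : {e : Γ.R.S.E // (e : G) • Γ.b = Γ.b} => ((a.1 : Γ.R.S.E) : G)) this

theorem card_L : Nat.card Γ.L = 360 := by
  classical
  haveI : Fintype Γ.R.S.Pts := Fintype.ofFinite _
  have h1 : Nat.card (MulAction.stabilizer Γ.R.S.N Γ.b) = Nat.card Γ.L :=
    Nat.card_congr
      { toFun := fun g => ⟨((g : Γ.R.S.N) : G), Γ.mem_L.2 ⟨(g : Γ.R.S.N).2, g.2⟩⟩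
        invFun := fun g => ⟨⟨g, Γ.L_le_N g.2⟩, g.2.2⟩
        left_inv := fun _ => rfl
        right_inv := fun _ => rfl }
  have h2 := (MulAction.stabilizer Γ.R.S.N Γ.b).card_mul_index
  rw [MulAction.index_stabilizer, h1, Γ.R.card_N] at h2
  have h3 : (MulAction.orbit Γ.R.S.N Γ.b).ncard = 112 := by
    rw [← Nat.card_coe_set_eq, ← Γ.card_orb]
    exact Nat.card_congr (Equiv.subtypeEquivRight fun x =>
      ⟨fun ⟨n, e⟩ => ⟨n, n.2, e⟩, fun ⟨n, hn, e⟩ => ⟨⟨n, hn⟩, e⟩⟩)
  rw [h3] at h2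
  omega

/-- The stabiliser of a class. -/
def K : Subgroup G := Γ.R.S.E ⊔ Γ.L

theorem E_le_K : Γ.R.S.E ≤ Γ.K := le_sup_left

theorem L_le_K : Γ.L ≤ Γ.K := le_sup_right

theorem K_le_N : Γ.K ≤ Γ.R.S.N := sup_le Subgroup.le_normalizer Γ.L_le_N

theorem mem_K {g : G} : g ∈ Γ.K ↔ ∃ l ∈ Γ.L, ∃ e ∈ Γ.R.S.E, g = l * e := by
  constructor
  · intro hg
    have h : g ∈ ((Γ.L ⊔ Γ.R.S.E : Subgroup G) : Set G) := by
      rw [sup_comm]; exact hg
    rw [coe_mul_of_left_le_normalizer_right _ _ Γ.L_le_N] at h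
    obtain ⟨l, hl, e, he, rfl⟩ := h
    exact ⟨l, hl, e, he, rfl⟩
  · rintro ⟨l, hl, e, he, rfl⟩
    exact mul_mem (Γ.L_le_K hl) (Γ.E_le_K he)

theorem card_K : Nat.card Γ.K = 5760 := by
  have : Nat.card (Γ.L × Γ.R.S.E) = Nat.card Γ.K := by
    refine Nat.card_eq_of_bijective (fun p => ⟨(p.1 : G) * p.2, Γ.mem_K.2 ⟨_, p.1.2, _, p.2.2, rfl⟩⟩) ⟨?_, ?_⟩
    · rintro ⟨l, e⟩ ⟨l', e'⟩ h
      have h' : (l : G) * e = l' * e' := congrArg Subtype.val h
      have h2 : (l' : G)⁻¹ * l = e' * (e : G)⁻¹ := by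
        rw [inv_mul_eq_iff_eq_mul, ← mul_assoc, ← h', mul_inv_cancel_right]
      have hb : ((l' : G)⁻¹ * l) • Γ.b = Γ.b := by rw [mul_smul, l.2.2, inv_smul_eq_iff, l'.2.2]
      rw [h2] at hb
      have h1 := Γ.free_b (mul_mem e'.2 (inv_mem e.2)) hb
      rw [← h2] at h1
      have hl : (l : G) = l' := (inv_mul_eq_one.1 h1).symm
      refine Prod.ext (Subtype.ext hl) (Subtype.ext ?_)
      rw [hl] at h'
      exact mul_left_cancel h'
    · rintro ⟨g, hg⟩
      obtain ⟨l, hl, e, he, rfl⟩ := Γ.mem_K.1 hg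
      exact ⟨(⟨l, hl⟩, ⟨e, he⟩), rfl⟩
  rw [← this, Nat.card_prod, Γ.card_L, Γ.R.S.card_E]

/-- The seven classes. -/
abbrev Cls : Type w := Γ.R.S.N ⧸ Γ.K.subgroupOf Γ.R.S.N

theorem card_Cls : Nat.card Γ.Cls = 7 := by
  have h := (Γ.K.subgroupOf Γ.R.S.N).card_mul_index
  rw [Nat.card_congr (subgroupOfEquivOfLe Γ.K_le_N).toEquiv, Γ.card_K, Γ.R.card_N] at h
  show (Γ.K.subgroupOf Γ.R.S.N).index = 7
  omega

/-- The action on the classes. -/
def act : Γ.R.S.N →* Equiv.Perm Γ.Cls := MulAction.toPermHom Γ.R.S.N Γ.Cls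

/-- The base class. -/
def q₀ : Γ.Cls := ((1 : Γ.R.S.N) : Γ.Cls)

theorem act_apply (n m : Γ.R.S.N) : Γ.act n (m : Γ.Cls) = ((n * m : Γ.R.S.N) : Γ.Cls) := rfl

theorem act_q₀ {n : Γ.R.S.N} : Γ.act n Γ.q₀ = Γ.q₀ ↔ (n : G) ∈ Γ.K := by
  rw [q₀, act_apply, mul_one, QuotientGroup.eq, mul_one, inv_mem_iff, mem_subgroupOf]

theorem E_le_ker : Γ.R.S.E.subgroupOf Γ.R.S.N ≤ Γ.act.ker := by
  intro e he
  refine MonoidHom.mem_ker.2 (Equiv.ext fun q => ?_)
  obtain ⟨m, rfl⟩ := QuotientGroup.mk_surjective q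
  rw [act_apply, Equiv.Perm.one_apply, QuotientGroup.eq, mem_subgroupOf]
  refine Γ.E_le_K ?_
  have h := Γ.R.normal (inv_mem m.2) (inv_mem (show (e : G) ∈ Γ.R.S.E from he))
  simpa using h

variable (hL : Local G)
include hL

set_option maxHeartbeats 800000 in
/-- Only the group of order sixteen acts trivially on the classes. -/
theorem ker_act : Γ.act.ker = Γ.R.S.E.subgroupOf Γ.R.S.N := by
  classical
  haveI : Fact (Nat.Prime 7) := ⟨by norm_num⟩
  haveI : Fact (Nat.Prime 5) := ⟨by norm_num⟩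
  haveI : Fact (Nat.Prime 3) := ⟨by norm_num⟩
  refine (eq_of_le_of_card_ge Γ.E_le_ker ?_).symm
  rw [Nat.card_congr (subgroupOfEquivOfLe (Subgroup.le_normalizer (H := Γ.R.S.E))).toEquiv, Γ.R.S.card_E]
  set T := Γ.act.ker with hT
  have hTK : T ≤ Γ.K.subgroupOf Γ.R.S.N := fun n hn => by
    rw [mem_subgroupOf, ← Γ.act_q₀, MonoidHom.mem_ker.1 hn, Equiv.Perm.one_apply]
  have hd : Nat.card T ∣ 5760 := by
    have := card_dvd_of_le hTK
    rwa [Nat.card_congr (subgroupOfEquivOfLe Γ.K_le_N).toEquiv, Γ.card_K] at this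
  have h16 : 16 ∣ Nat.card T := by
    have := card_dvd_of_le Γ.E_le_ker
    rwa [Nat.card_congr (subgroupOfEquivOfLe (Subgroup.le_normalizer (H := Γ.R.S.E))).toEquiv, Γ.R.S.card_E] at this
  obtain ⟨x, hx⟩ := exists_prime_orderOf_dvd_card' (G := Γ.R.S.N) 7 (by rw [Γ.R.card_N]; norm_num)
  have hxT : x ∉ T := fun h => by
    have := (Subgroup.orderOf_dvd_natCard _ h).trans hd
    rw [hx] at this
    norm_num at this
  have hcent : ∀ (z : Γ.R.S.N), orderOf z = 7 → Nat.card (centralizer ({z} : Set Γ.R.S.N)) ∣ 14 := by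
    intro z hz
    rw [← (hL.seven (z : G) (by rw [Subgroup.orderOf_coe, hz])).1]
    rw [← card_map_of_injective Γ.R.S.N.subtype_injective]
    refine card_dvd_of_le ?_
    rintro _ ⟨a, ha, rfl⟩
    exact mem_centralizer_singleton_iff.2 (congrArg Subtype.val (mem_centralizer_singleton_iff.1 ha))
  have hxp : x ^ 7 = 1 := hx ▸ pow_orderOf_eq_one x
  have hTn : T.Normal := inferInstance
  have hmod : Nat.card T % 7 = 2 := by
    have hET : ∀ H : Subgroup Γ.R.S.N, H ≤ T → (∀ h ∈ H, x * h * x⁻¹ ∈ H) → Nat.card H % 7 ≠ 1 →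
        Nat.card H % 7 = 2 := by
      intro H hH hxH hne
      have hm := card_modEq_fixed hxp hxH
      have h14 : Nat.card (H ⊓ centralizer ({x} : Set Γ.R.S.N) : Subgroup Γ.R.S.N) ∣ 2 :=
        ((Nat.dvd_gcd ((card_dvd_of_le inf_le_right).trans (hcent x hx))
          ((card_dvd_of_le (inf_le_left.trans hH)).trans hd))).trans (by norm_num)
      rcases (Nat.dvd_prime Nat.prime_two).1 h14 with e | e <;> rw [e] at hm
      · exact absurd hm hne
      · exact hm
    have hE2 := hET _ Γ.E_le_ker (fun h hh => by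
      rw [mem_subgroupOf] at hh ⊢
      simpa using Γ.R.normal x.2 hh) (by
      rw [Nat.card_congr (subgroupOfEquivOfLe (Subgroup.le_normalizer (H := Γ.R.S.E))).toEquiv, Γ.R.S.card_E]
      norm_num)
    refine hET T le_rfl (fun h hh => hTn.conj_mem h hh x) fun e1 => ?_
    have hm := card_modEq_fixed hxp (fun h hh => hTn.conj_mem h hh x)
    rw [e1] at hm
    have hmE := card_modEq_fixed hxp (H := Γ.R.S.E.subgroupOf Γ.R.S.N) (fun h hh => by
      rw [mem_subgroupOf] at hh ⊢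
      simpa using Γ.R.normal x.2 hh)
    rw [hE2] at hmE
    have h14 : Nat.card (T ⊓ centralizer ({x} : Set Γ.R.S.N) : Subgroup Γ.R.S.N) ∣ 2 :=
      ((Nat.dvd_gcd ((card_dvd_of_le inf_le_right).trans (hcent x hx))
        ((card_dvd_of_le inf_le_left).trans hd))).trans (by norm_num)
    have hle := Nat.le_of_dvd Nat.card_pos (card_dvd_of_le
      (inf_le_inf_right (centralizer ({x} : Set Γ.R.S.N)) Γ.E_le_ker))
    rw [← hT] at hle
    rcases (Nat.dvd_prime Nat.prime_two).1 h14 with e | e <;> rw [e] at hm hle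
    · interval_cases hh : Nat.card (Γ.R.S.E.subgroupOf Γ.R.S.N ⊓ centralizer ({x} : Set Γ.R.S.N) : Subgroup Γ.R.S.N) <;>
        omega
    · omega
  have key : ∀ r ∈ List.range 361, 360 % r = 0 → 16 * r % 7 = 2 → r = 1 ∨ r = 8 ∨ r = 15 ∨ r = 36 ∨ r = 120 := by
    decide +kernel
  obtain ⟨r, hr⟩ := h16
  have hr360 : r ∣ 360 := by
    have : 16 * r ∣ 16 * 360 := hr ▸ hd
    exact (Nat.mul_dvd_mul_iff_left (by norm_num)).1 this
  have hcases := key r (List.mem_range.2 (Nat.lt_succ_of_le (Nat.le_of_dvd (by norm_num) hr360)))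
    (Nat.mod_eq_zero_of_dvd hr360) (by rw [← hr]; exact hmod)
  -- a Sylow subgroup of the kernel normalised by an element of order seven
  have frattini : ∀ (p a c : ℕ), p.Prime → 16 * r = p ^ a * c → ¬ p ∣ c → (p ^ a) % 7 ≠ 1 →
      Nat.Coprime (p ^ a) 14 → False := by
    intro p a c hp hpc hc h1 hcop
    haveI := Fact.mk hp
    obtain ⟨P⟩ : Nonempty (Sylow p T) := inferInstance
    have hP : Nat.card ((P : Subgroup T).map T.subtype) = p ^ a := by
      rw [card_map_of_injective T.subtype_injective]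
      exact CfsgLib.SmallGroups.card_sylow_eq (hr.trans hpc) hc P
    have hsup := Sylow.normalizer_sup_eq_top P
    set Q := (P : Subgroup T).map T.subtype with hQ
    have hx' : x ∈ ((normalizer (Q : Set Γ.R.S.N) ⊔ T : Subgroup Γ.R.S.N) : Set Γ.R.S.N) := by
      rw [hsup]; exact mem_top x
    rw [Subgroup.mul_normal] at hx'
    obtain ⟨h, hh, k, hk, e⟩ := hx'
    have h7 : 7 ∣ orderOf h := by
      have himg : orderOf (Γ.act h) = 7 := by
        have : Γ.act h = Γ.act x := by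
          rw [← e, map_mul, MonoidHom.mem_ker.1 hk, mul_one]
        rw [this]
        refine orderOf_eq_prime (by rw [← map_pow, hxp, map_one]) fun e1 => hxT (MonoidHom.mem_ker.2 e1)
      exact himg ▸ orderOf_map_dvd Γ.act h
    set z := h ^ (orderOf h / 7) with hz
    have hzo : orderOf z = 7 := orderOf_pow_orderOf_div (orderOf_pos h).ne' h7
    have hzQ : ∀ q ∈ Q, z * q * z⁻¹ ∈ Q := fun q hq => ((pow_mem hh _ : z ∈ normalizer (Q : Set Γ.R.S.N)) q).1 hq
    have hm := card_modEq_fixed (hzo ▸ pow_orderOf_eq_one z) hzQ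
    rw [hP, eq_bot_of_card_eq (Q ⊓ centralizer ({z} : Set Γ.R.S.N)) (Nat.eq_one_of_dvd_coprimes hcop
      (hP ▸ card_dvd_of_le inf_le_left) ((card_dvd_of_le inf_le_right).trans (hcent z hzo))), Subgroup.card_bot] at hm
    exact h1 (hm.trans (by norm_num))
  rw [hr]
  rcases hcases with rfl | rfl | rfl | rfl | rfl
  · norm_num
  · -- order 128
    exfalso
    obtain ⟨f, hf⟩ := exists_prime_orderOf_dvd_card' (G := Γ.R.S.N) 5 (by rw [Γ.R.card_N]; norm_num)
    have hm := card_modEq_fixed (hf ▸ pow_orderOf_eq_one f) (fun h hh => hTn.conj_mem h hh f)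
    have hc : Nat.card (centralizer ({f} : Set Γ.R.S.N)) ∣ 15 := by
      rw [← (hL.five (f : G) (by rw [Subgroup.orderOf_coe, hf])).1,
        ← card_map_of_injective Γ.R.S.N.subtype_injective]
      refine card_dvd_of_le ?_
      rintro _ ⟨a, ha, rfl⟩
      exact mem_centralizer_singleton_iff.2 (congrArg Subtype.val (mem_centralizer_singleton_iff.1 ha))
    rw [eq_bot_of_card_eq (T ⊓ centralizer ({f} : Set Γ.R.S.N)) (Nat.eq_one_of_dvd_coprimes
      (by norm_num : Nat.Coprime (16 * 8) 15) (hr ▸ card_dvd_of_le inf_le_left)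
      ((card_dvd_of_le inf_le_right).trans hc)), Subgroup.card_bot, hr] at hm
    norm_num at hm
  · exact (frattini 5 1 48 (by norm_num) (by norm_num) (by norm_num) (by norm_num) (by norm_num)).elim
  · exact (frattini 3 2 64 (by norm_num) (by norm_num) (by norm_num) (by norm_num) (by norm_num)).elim
  · exact (frattini 5 1 384 (by norm_num) (by norm_num) (by norm_num) (by norm_num) (by norm_num)).elim

theorem range_act : Γ.act.range = alternatingGroup Γ.Cls := by
  classical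
  haveI : Nontrivial Γ.Cls := Finite.one_lt_card_iff_nontrivial.1 (by rw [Γ.card_Cls]; norm_num)
  refine Equiv.Perm.eq_alternatingGroup_of_index_eq_two ?_
  have h1 := Γ.act.ker.card_mul_index
  rw [Subgroup.index_ker, Γ.ker_act hL,
    Nat.card_congr (subgroupOfEquivOfLe (Subgroup.le_normalizer (H := Γ.R.S.E))).toEquiv, Γ.R.S.card_E,
    Γ.R.card_N] at h1
  have h2 := Γ.act.range.card_mul_index
  rw [Nat.card_perm, Γ.card_Cls, show Nat.card Γ.act.range = 2520 by omega] at h2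
  norm_num [Nat.factorial] at h2
  omega

/-- An even permutation fixing the base class comes from the stabiliser of the base and the neighbour. -/
theorem exists_L {g : Equiv.Perm Γ.Cls} (hg : g ∈ alternatingGroup Γ.Cls) (hq : g Γ.q₀ = Γ.q₀) :
    ∃ l : Γ.R.S.N, (l : G) ∈ Γ.L ∧ Γ.act l = g := by
  rw [← Γ.range_act hL] at hg
  obtain ⟨n, rfl⟩ := hg
  obtain ⟨l, hl, e, he, hne⟩ := Γ.mem_K.1 (Γ.act_q₀.1 hq)
  refine ⟨⟨l, Γ.L_le_N hl⟩, hl, ?_⟩
  have : n = ⟨l, Γ.L_le_N hl⟩ * ⟨e, Subgroup.le_normalizer he⟩ := Subtype.ext hne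
  rw [this, map_mul, MonoidHom.mem_ker.1 (Γ.E_le_ker (show (⟨e, Subgroup.le_normalizer he⟩ : Γ.R.S.N) ∈
    Γ.R.S.E.subgroupOf Γ.R.S.N from he)), mul_one]

/-- The stabiliser of the base and the neighbour moves any involution of `E` to any other. -/
theorem L_trans_E {e e' : G} (he : e ∈ Γ.R.S.E) (he1 : e ≠ 1) (he' : e' ∈ Γ.R.S.E) (he'1 : e' ≠ 1) :
    ∃ l ∈ Γ.L, l * e * l⁻¹ = e' := by
  classical
  haveI : Fact (Nat.Prime 5) := ⟨by norm_num⟩
  set L' : Subgroup (ConjAct G) := Γ.L.map ConjAct.toConjAct.toMonoidHom with hL'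
  have horb : ∀ a a', a' ∈ MulAction.orbit L' a ↔ ∃ l ∈ Γ.L, l * a * l⁻¹ = a' := by
    intro a a'
    constructor
    · rintro ⟨⟨_, g, hg, rfl⟩, rfl⟩
      exact ⟨g, hg, rfl⟩
    · rintro ⟨g, hg, rfl⟩
      exact ⟨⟨_, g, hg, rfl⟩, rfl⟩
  set Ez : Set G := (Γ.R.S.E : Set G) \ {1} with hEz
  have hEc : Ez.ncard = 15 := by
    rw [hEz, Set.ncard_sdiff_singleton_of_mem (one_mem Γ.R.S.E), ← Nat.card_coe_set_eq]
    show Nat.card Γ.R.S.E - 1 = 15
    rw [Γ.R.S.card_E]
  have hsub : ∀ a ∈ Ez, MulAction.orbit L' a ⊆ Ez := by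
    rintro a ⟨ha, ha1⟩ _ hb
    obtain ⟨l, hl, rfl⟩ := (horb _ _).1 hb
    exact ⟨Γ.R.normal (Γ.L_le_N hl) ha, fun h => ha1 (conj_eq_one_iff.1 h)⟩
  have hsize : ∀ a ∈ Ez, (MulAction.orbit L' a).ncard % 5 = 0 ∧ (MulAction.orbit L' a).ncard ≠ 5 := by
    intro a ha
    have hao : orderOf a = 2 := orderOf_eq_prime (by rw [sq]; exact Γ.R.S.sq_E a ha.1) ha.2
    set Ca := Γ.L ⊓ centralizer ({a} : Set G) with hCa
    have hst : Nat.card (MulAction.stabilizer L' a) = Nat.card Ca := by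
      refine Nat.card_congr
        { toFun := fun h => ⟨ConjAct.ofConjAct ((h : L') : ConjAct G), ?_, mem_centralizer_singleton_iff.2 ?_⟩
          invFun := fun c => ⟨⟨ConjAct.toConjAct (c : G), (c : G), c.2.1, rfl⟩, ?_⟩
          left_inv := fun _ => rfl
          right_inv := fun _ => rfl }
      · obtain ⟨l, hl, e⟩ := (h : L').2
        rw [← e]
        exact hl
      · exact mul_inv_eq_iff_eq_mul.1 h.2
      · exact mul_inv_eq_iff_eq_mul.2 (mem_centralizer_singleton_iff.1 c.2.2)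
    have hmul := (MulAction.stabilizer L' a).card_mul_index
    rw [MulAction.index_stabilizer, hst, hL', card_map_of_injective ConjAct.toConjAct.injective, ← hL',
      Γ.card_L] at hmul
    have h5 : ¬ 5 ∣ Nat.card Ca := fun h => not_dvd_cent hL (by norm_num) (fun x hx => (hL.five x hx).1) hao
      (h.trans (card_dvd_of_le inf_le_right))
    constructor
    · have h : 5 ∣ Nat.card Ca * (MulAction.orbit L' a).ncard := by rw [hmul]; norm_num
      rcases (Nat.Prime.dvd_mul (by norm_num)).1 h with h | h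
      · exact absurd h h5
      · exact Nat.mod_eq_zero_of_dvd h
    · intro e5
      rw [e5] at hmul
      have hC72 : Nat.card Ca = 72 := by omega
      set H : Subgroup (Equiv.Perm Γ.Cls) := (Ca.subgroupOf Γ.R.S.N).map Γ.act with hH
      have hCN : Ca ≤ Γ.R.S.N := inf_le_left.trans Γ.L_le_N
      have hH72 : Nat.card H = 72 := by
        rw [hH, ← hC72, ← Nat.card_congr (subgroupOfEquivOfLe hCN).toEquiv]
        refine (Nat.card_eq_of_bijective (fun c : Ca.subgroupOf Γ.R.S.N => (⟨Γ.act c, c, c.2, rfl⟩ : H)) ⟨?_, ?_⟩).symm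
        · intro c d hcd
          have he' : Γ.act (c : Γ.R.S.N) = Γ.act (d : Γ.R.S.N) := congrArg Subtype.val hcd
          have hk : (c : Γ.R.S.N)⁻¹ * d ∈ Γ.act.ker := by
            rw [MonoidHom.mem_ker, map_mul, map_inv, he', inv_mul_cancel]
          have hdb : ((d : Γ.R.S.N) : G) • Γ.b = Γ.b := (show ((d : Γ.R.S.N) : G) ∈ Γ.L from d.2.1).2
          have hcb : ((c : Γ.R.S.N) : G) • Γ.b = Γ.b := (show ((c : Γ.R.S.N) : G) ∈ Γ.L from c.2.1).2
          rw [Γ.ker_act hL, mem_subgroupOf] at hk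
          have hcd' : ((c : Γ.R.S.N)⁻¹ * d : Γ.R.S.N) = 1 := Subtype.ext (Γ.free_b hk (by
            rw [Subgroup.coe_mul, mul_smul, hdb, Subgroup.coe_inv, inv_smul_eq_iff, hcb]))
          exact Subtype.ext (inv_mul_eq_one.1 hcd')
        · rintro ⟨_, c, hc, rfl⟩
          exact ⟨⟨c, hc⟩, rfl⟩
      have hHle : H ≤ alternatingGroup Γ.Cls := by
        rw [← Γ.range_act hL]; exact Subgroup.map_le_range _ _
      obtain ⟨h, ⟨c, hc, rfl⟩, hq⟩ := AltSeven.not_fix (by rw [← Nat.card_eq_fintype_card, Γ.card_Cls])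
        hHle hH72 Γ.q₀
      exact hq (Γ.act_q₀.2 (Γ.L_le_K hc.1))
  have heE : e ∈ Ez := ⟨he, he1⟩
  have hall : MulAction.orbit L' e = Ez := by
    refine Set.eq_of_subset_of_ncard_le (hsub e heE) ?_ (Set.toFinite _)
    rw [hEc]
    by_contra hlt
    obtain ⟨m5, m5'⟩ := hsize e heE
    have hpos : 0 < (MulAction.orbit L' e).ncard := (Set.ncard_pos (Set.toFinite _)).2 ⟨e, MulAction.mem_orbit_self e⟩
    obtain ⟨a, ha, hae⟩ : ∃ a ∈ Ez, a ∉ MulAction.orbit L' e := by
      by_contra hne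
      push Not at hne
      have := Set.ncard_le_ncard hne (Set.toFinite _)
      omega
    have hdis : Disjoint (MulAction.orbit L' e) (MulAction.orbit L' a) := by
      rw [Set.disjoint_left]
      intro b hb hb'
      refine hae ?_
      rw [← MulAction.orbit_eq_iff.2 hb, MulAction.orbit_eq_iff.2 hb']
      exact MulAction.mem_orbit_self a
    have := Set.ncard_le_ncard (Set.union_subset (hsub e heE) (hsub a ha)) (Set.toFinite _)
    rw [Set.ncard_union_eq hdis (Set.toFinite _) (Set.toFinite _), hEc] at this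
    obtain ⟨n5, n5'⟩ := hsize a ha
    have hpos' : 0 < (MulAction.orbit L' a).ncard := (Set.ncard_pos (Set.toFinite _)).2 ⟨a, MulAction.mem_orbit_self a⟩
    omega
  exact (horb _ _).1 (hall.symm ▸ (⟨he', he'1⟩ : e' ∈ Ez))

end Geo

end CfsgLib.MTwentyThreeUnique
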