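import Cfsg.Agent.Lib.MTwentyThreeUnique.Columns
import Mathlib

/-!
The degrees of the irreducible characters of a group with the local data of M23.
-/

set_option autoImplicit false

noncomputable section

namespace CfsgLib.MTwentyThreeUnique

open Subgroup CfsgLib.InvolChar Cfsg
open CfsgLib.MTwentyTwoUnique (SC)
attribute [local instance] Classical.propDecidable

/-- The candidate lists contain the degrees that pass the residue conditions. -/
def candOk (d : ℕ) : Bool :=
  !(decide (2 ≤ d) && decide (10200960 % d = 0) && decide (d % 23 ∈ [0, 1, 22, 11, 12]) &&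
      decide (d % 11 ∈ [0, 1, 10, 5, 6])) ||
    ((!decide (d % 11 ∈ [1, 10]) || decide (d ∈ xEleven)) &&
      (!decide (d % 11 ∈ [5, 6]) || decide (d ∈ yEleven)) &&
      (!(decide (d % 11 = 0) && decide (d % 23 ∈ [1, 22])) || decide (d ∈ xRest)) &&
      (!decide (d % 23 ∈ [11, 12]) || decide (d ∈ yTwentyThree)) &&
      (!decide (d % 253 = 0) || decide (d / 253 ∈ kList)))

set_option maxRecDepth 16000 in
theorem candOk_all : (List.range 3194).all candOk = true := by decide +kernel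

/-- Residues of a degree in a self-centralising block. -/
theorem res_mem {G : Type*} [Group G] [Fintype G] {p e : ℕ} (B : SC G p e) (he : 2 * e < p) (he1 : 1 < e)
    {χ : IrrCharacter G} :
    (χ ∈ B.X → deg χ % p ∈ [1, p - 1] ∧ sgd p (deg χ) = B.s χ * deg χ) ∧
      (χ ∈ B.Y → deg χ = B.f ∧ B.f % p = (if B.ε = 1 then e else p - e)) := by
  have hp : (p : ℤ) ≠ 0 := by omega
  have hval : ∀ (d : ℕ) (r : ℤ), 0 ≤ r → r < p → (p : ℤ) ∣ (d : ℤ) - r → ((d % p : ℕ) : ℤ) = r :=
    fun d r h0 h1 h => by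
      have := Int.emod_eq_emod_iff_emod_sub_eq_zero.2 (Int.emod_eq_zero_of_dvd h)
      rw [Int.emod_eq_of_lt h0 h1] at this
      rw [Int.natCast_mod, this]
  refine ⟨fun hX => ?_, fun hY => ⟨B.deg_Y χ hY, ?_⟩⟩
  · rcases B.s_sq χ hX with e1 | e1
    · have h := hval _ 1 (by norm_num) (by omega) (e1 ▸ B.deg_X χ hX)
      have h' : deg χ % p = 1 := by omega
      simp [sgd, h', e1]
    · have h := hval (deg χ) ((p : ℤ) - 1) (by omega) (by omega) (by
        have := dvd_sub (B.deg_X χ hX) (dvd_refl (p : ℤ))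
        rw [e1] at this
        obtain ⟨k, hk⟩ := this
        exact ⟨k, by linarith⟩)
      have h' : deg χ % p = p - 1 := by omega
      simp only [sgd, h', e1, List.mem_cons, true_or, or_true, true_and, neg_mul, one_mul]
      rw [if_neg (by omega)]
  · rcases B.ε_sq with e1 | e1
    · have h := hval B.f e (by omega) (by omega) (by simpa [e1] using B.deg_f)
      rw [if_pos e1]; omega
    · have h := hval B.f ((p : ℤ) - e) (by omega) (by omega) (by
        have := dvd_sub B.deg_f (dvd_refl (p : ℤ))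
        rw [e1] at this
        obtain ⟨k, hk⟩ := this
        exact ⟨k, by linarith⟩)
      rw [if_neg (by omega)]; omega

variable {G : Type*} [Group G] [Fintype G]

set_option maxHeartbeats 1000000 in
/-- The degrees form one of the lists of the search, from the blocks at 23 and 11, the column at an element
of order five and a budget at seven. -/
theorem exists_final (hcard : Nat.card G = 10200960)
    (h2 : ∀ χ : IrrCharacter G, χ ≠ CfsgLib.Char.irrOne → 2 ≤ deg χ ∧ deg χ < 3194)
    (A : SC G 23 11) (B : SC G 11 5)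
    (hfive : ∃ v : IrrCharacter G → ℤ, (∀ χ, (5 : ℤ) ∣ (deg χ : ℤ) - v χ) ∧
      ∑ χ, v χ * v χ = 15 ∧ ∑ χ, v χ * (deg χ : ℤ) = 0)
    (W : ℕ) (hseven : ∑ χ : IrrCharacter G, wSeven (deg χ) ≤ W) :
    ∃ L ∈ finals W, (L : Multiset ℕ) = (Finset.univ : Finset (IrrCharacter G)).val.map deg := by
  classical
  haveI : Fact (Nat.Prime 23) := ⟨by norm_num⟩
  haveI : Fact (Nat.Prime 11) := ⟨by norm_num⟩
  have hdvd : ∀ χ : IrrCharacter G, deg χ ∣ 10200960 := fun χ =>
    hcard ▸ CfsgLib.Char.degree_dvd_card χ.2 (deg_spec χ)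
  have hsq : ∑ χ : IrrCharacter G, deg χ * deg χ = 10200960 := by
    have h := CfsgLib.Char.sum_degree_sq (G := G)
    simp only [deg_spec, hcard, ← pow_two] at h
    simp only [← pow_two]
    exact_mod_cast h
  have hfive5 : ∑ χ : IrrCharacter G, wFive (deg χ) ≤ 15 := by
    obtain ⟨v, hd, hs, -⟩ := hfive
    have : ((∑ χ : IrrCharacter G, wFive (deg χ) : ℕ) : ℤ) ≤ 15 := by
      rw [Nat.cast_sum, ← hs]
      exact Finset.sum_le_sum fun χ _ => wFive_le (hd χ)
    exact_mod_cast this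
  obtain ⟨x23, hx23⟩ := exists_prime_orderOf_dvd_card' (G := G) 23 (by rw [hcard]; norm_num)
  obtain ⟨x11, hx11⟩ := exists_prime_orderOf_dvd_card' (G := G) 11 (by rw [hcard]; norm_num)
  obtain ⟨hA1, hAs⟩ := A.one_X (by norm_num) (by norm_num) hx23
  obtain ⟨hB1, hBs⟩ := B.one_X (by norm_num) (by norm_num) hx11
  have hA1' : CfsgLib.Char.irrOne ∉ A.Y := Finset.disjoint_left.1 A.disj hA1
  have hB1' : CfsgLib.Char.irrOne ∉ B.Y := Finset.disjoint_left.1 B.disj hB1
  have hA23 : ∀ χ : IrrCharacter G, ¬ 23 ∣ deg χ ↔ χ ∈ A.X ∪ A.Y := fun χ => ⟨A.mem_of_not_dvd, fun h => by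
    rcases Finset.mem_union.1 h with h | h
    · exact A.not_dvd_of_mem_X h
    · rw [A.deg_Y χ h]; exact A.not_dvd_f (by norm_num)⟩
  have hB11 : ∀ χ : IrrCharacter G, ¬ 11 ∣ deg χ ↔ χ ∈ B.X ∪ B.Y := fun χ => ⟨B.mem_of_not_dvd, fun h => by
    rcases Finset.mem_union.1 h with h | h
    · exact B.not_dvd_of_mem_X h
    · rw [B.deg_Y χ h]; exact B.not_dvd_f (by norm_num)⟩
  -- the candidate lists
  have hc : ∀ χ : IrrCharacter G, χ ≠ CfsgLib.Char.irrOne →
      (χ ∈ B.X → deg χ ∈ xEleven) ∧ (χ ∈ B.Y → deg χ ∈ yEleven) ∧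
      (χ ∈ A.X → 11 ∣ deg χ → deg χ ∈ xRest) ∧ (χ ∈ A.Y → deg χ ∈ yTwentyThree) ∧
      (253 ∣ deg χ → deg χ / 253 ∈ kList) := by
    intro χ hχ
    obtain ⟨h2', hlt⟩ := h2 χ hχ
    have hn := Nat.mod_eq_zero_of_dvd (hdvd χ)
    have hXA := (res_mem A (by norm_num) (by norm_num) (χ := χ)).1
    have hYA := (res_mem A (by norm_num) (by norm_num) (χ := χ)).2
    have hXB := (res_mem B (by norm_num) (by norm_num) (χ := χ)).1
    have hYB := (res_mem B (by norm_num) (by norm_num) (χ := χ)).2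
    have hr23 : deg χ % 23 ∈ [0, 1, 22, 11, 12] := by
      by_cases h : 23 ∣ deg χ
      · simp [Nat.mod_eq_zero_of_dvd h]
      · rcases Finset.mem_union.1 ((hA23 χ).1 h) with h | h
        · have := (hXA h).1
          simp only [List.mem_cons, List.not_mem_nil, or_false] at this ⊢
          omega
        · obtain ⟨e1, e2⟩ := hYA h
          simp only [List.mem_cons, List.not_mem_nil, or_false]
          split_ifs at e2 <;> omega
    have hr11 : deg χ % 11 ∈ [0, 1, 10, 5, 6] := by
      by_cases h : 11 ∣ deg χ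
      · simp [Nat.mod_eq_zero_of_dvd h]
      · rcases Finset.mem_union.1 ((hB11 χ).1 h) with h | h
        · have := (hXB h).1
          simp only [List.mem_cons, List.not_mem_nil, or_false] at this ⊢
          omega
        · obtain ⟨e1, e2⟩ := hYB h
          simp only [List.mem_cons, List.not_mem_nil, or_false]
          split_ifs at e2 <;> omega
    have hk := List.all_eq_true.1 candOk_all _ (List.mem_range.2 hlt)
    simp only [candOk, Bool.or_eq_true, Bool.and_eq_true, Bool.not_eq_true', decide_eq_false_iff_not,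
      decide_eq_true_eq, Bool.and_eq_false_iff] at hk
    have hneg : ¬ (((¬ 2 ≤ deg χ ∨ ¬ 10200960 % deg χ = 0) ∨ ¬ deg χ % 23 ∈ [0, 1, 22, 11, 12]) ∨
        ¬ deg χ % 11 ∈ [0, 1, 10, 5, 6]) := by
      rintro (((h | h) | h) | h)
      exacts [h h2', h hn, h hr23, h hr11]
    obtain ⟨⟨⟨⟨k1, k2⟩, k3⟩, k4⟩, k5⟩ := hk.resolve_left hneg
    refine ⟨fun h => k1.resolve_left (not_not.2 ?_), fun h => k2.resolve_left (not_not.2 ?_),
      fun h h' => k3.resolve_left ?_, fun h => k4.resolve_left (not_not.2 ?_),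
      fun h => k5.resolve_left (not_not.2 (Nat.mod_eq_zero_of_dvd h))⟩
    · exact (hXB h).1
    · obtain ⟨e1, e2⟩ := hYB h
      simp only [List.mem_cons, List.not_mem_nil, or_false]
      split_ifs at e2 <;> omega
    · rintro (h1 | h1)
      · exact h1 (Nat.mod_eq_zero_of_dvd h')
      · exact h1 (hXA h).1
    · obtain ⟨e1, e2⟩ := hYA h
      simp only [List.mem_cons, List.not_mem_nil, or_false]
      split_ifs at e2 <;> omega
  -- sums over lists
  have hsum : ∀ (s : Finset (IrrCharacter G)) (l : List ℕ), (l : Multiset ℕ) = s.val.map deg →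
      ∀ {M : Type} [AddCommMonoid M] (F : ℕ → M), (l.map F).sum = ∑ χ ∈ s, F (deg χ) := by
    intro s l h M _ F
    rw [← Multiset.sum_coe, ← Multiset.map_coe, h, Multiset.map_map]
    rfl
  have hlen : ∀ (s : Finset (IrrCharacter G)) (l : List ℕ), (l : Multiset ℕ) = s.val.map deg →
      l.length = s.card := by
    intro s l h
    rw [← Multiset.coe_card, h, Multiset.card_map]
    rfl
  have hw : ∀ s : Finset (IrrCharacter G), CfsgLib.Char.irrOne ∉ s →
      ∑ χ ∈ s, wFive (deg χ) + 1 ≤ 15 ∧ ∑ χ ∈ s, wSeven (deg χ) + 1 ≤ W := by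
    intro s hs
    have h5 := Finset.sum_le_sum_of_subset (f := fun χ : IrrCharacter G => wFive (deg χ))
      (Finset.subset_univ (insert CfsgLib.Char.irrOne s))
    have h7 := Finset.sum_le_sum_of_subset (f := fun χ : IrrCharacter G => wSeven (deg χ))
      (Finset.subset_univ (insert CfsgLib.Char.irrOne s))
    simp only [Finset.sum_insert hs, deg_irrOne, show wFive 1 = 1 from rfl, show wSeven 1 = 1 from rfl] at h5 h7
    omega
  -- the 11-block
  set P := B.X.erase CfsgLib.Char.irrOne with hP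
  have hPc : P.card = 4 := by rw [hP, Finset.card_erase_of_mem hB1, B.card_X]
  have h1P : CfsgLib.Char.irrOne ∉ P := Finset.notMem_erase _ _
  set U := P ∪ B.Y with hU
  have hPY : Disjoint P B.Y := B.disj.mono_left (Finset.erase_subset _ _)
  have h1U : CfsgLib.Char.irrOne ∉ U := by simp [hU, h1P, hB1']
  have hUmem : ∀ χ, χ ∈ U ↔ χ ≠ CfsgLib.Char.irrOne ∧ ¬ 11 ∣ deg χ := by
    intro χ
    rw [hB11, hU, hP]
    simp only [Finset.mem_union, Finset.mem_erase]
    constructor
    · rintro (⟨h1, h2⟩ | h)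
      · exact ⟨h1, Or.inl h2⟩
      · exact ⟨fun e => hB1' (e ▸ h), Or.inr h⟩
    · rintro ⟨h1, h2 | h2⟩
      · exact Or.inl ⟨h1, h2⟩
      · exact Or.inr h2
  have hne : ∀ χ ∈ U, χ ≠ CfsgLib.Char.irrOne := fun χ hχ => ((hUmem χ).1 hχ).1
  have hwP := hw P h1P
  obtain ⟨l, hl, hlm⟩ := mem_combos (L := xEleven) (by decide) (P.val.map deg) 14 (W - 1)
    (fun d hd => by
      obtain ⟨χ, hχ, rfl⟩ := Multiset.mem_map.1 hd
      exact (hc χ (Finset.ne_of_mem_erase hχ)).1 (Finset.mem_of_mem_erase hχ))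
    (by rw [Multiset.map_map]; exact Nat.le_of_succ_le_succ hwP.1)
    (by rw [Multiset.map_map]; exact Nat.le_sub_of_add_le hwP.2)
  rw [Multiset.card_map, Finset.card_val, hPc] at hl
  obtain ⟨θB, hθB⟩ := B.Y_ne
  have hTB : totd 11 l = B.ε * B.f := by
    rw [B.deg_rel hθB (by norm_num), totd, hsum P l hlm, ← Finset.add_sum_erase _ _ hB1, hBs, deg_irrOne]
    simp only [Nat.cast_one, mul_one, add_right_inj]
    exact Finset.sum_congr rfl fun χ hχ =>
      ((res_mem B (by norm_num) (by norm_num)).1 (Finset.mem_of_mem_erase hχ)).2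
  have hfB0 : 0 < B.f := B.deg_Y θB hθB ▸ deg_pos θB
  have hTBn : (totd 11 l).natAbs = B.f ∧ (0 < totd 11 l ↔ B.ε = 1) := by
    rcases B.ε_sq with e | e <;> rw [hTB, e] <;> omega
  have hYB : B.Y.val.map deg = ([B.f, B.f] : List ℕ) := by
    obtain ⟨a, b, hab, hY⟩ := Finset.card_eq_two.1 (show B.Y.card = 2 by rw [B.card_Y])
    rw [hY, Finset.insert_val_of_notMem (by simp [hab]), Finset.singleton_val, Multiset.map_cons,
      Multiset.map_singleton, B.deg_Y a (by simp [hY]), B.deg_Y b (by simp [hY])]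
    rfl
  have hfull : (full l : Multiset ℕ) = U.val.map deg := by
    rw [full, hTBn.1, ← Multiset.coe_add, hlm, ← hYB, hU, ← Finset.disjUnion_eq_union _ _ hPY,
      Finset.disjUnion_val, Multiset.map_add]
  have hlB : l ∈ candB W := by
    refine List.mem_filter.2 ⟨hl, ?_⟩
    simp only [okB, decide_eq_true_eq]
    have hwU := hw U h1U
    rw [hsum U _ hfull, hsum U _ hfull, hTBn.1]
    refine ⟨B.deg_Y θB hθB ▸ (hc θB (fun e => hB1' (e ▸ hθB))).2.1 hθB, ?_, by omega, by omega⟩
    have h := ((res_mem B (by norm_num) (by norm_num)).2 hθB).2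
    by_cases hε : B.ε = 1
    · rw [if_pos (hTBn.2.2 hε)]; rw [if_pos hε] at h; exact h
    · rw [if_neg (fun h' => hε (hTBn.2.1 h'))]; rw [if_neg hε] at h; exact h
  -- the 23-block
  set Q := A.X.erase CfsgLib.Char.irrOne with hQ
  have hQc : Q.card = 10 := by rw [hQ, Finset.card_erase_of_mem hA1, A.card_X]
  set Q0 := Q.filter fun χ => 11 ∣ deg χ with hQ0
  set Q1 := Q.filter fun χ => ¬ 11 ∣ deg χ with hQ1
  obtain ⟨θA, hθA⟩ := A.Y_ne
  have hfA := A.deg_Y θA hθA
  have hfA0 : 0 < A.f := hfA ▸ deg_pos θA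
  have hfAc : A.f ∈ yTwentyThree := hfA ▸ (hc θA (fun e => hA1' (e ▸ hθA))).2.2.2.1 hθA
  have hYA : A.Y.val.map deg = ([A.f, A.f] : List ℕ) := by
    obtain ⟨a, b, hab, hY⟩ := Finset.card_eq_two.1 (show A.Y.card = 2 by rw [A.card_Y])
    rw [hY, Finset.insert_val_of_notMem (by simp [hab]), Finset.singleton_val, Multiset.map_cons,
      Multiset.map_singleton, A.deg_Y a (by simp [hY]), A.deg_Y b (by simp [hY])]
    rfl
  have hshared : (shared l : Multiset ℕ) = (U.filter fun χ => ¬ 23 ∣ deg χ).val.map deg := by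
    rw [shared, ← Multiset.filter_coe, hfull, Finset.filter_val, Multiset.filter_map]
    refine congrArg _ (Multiset.filter_congr fun χ _ => ?_)
    simp [Nat.dvd_iff_mod_eq_zero]
  obtain ⟨v, hv, hv1, hv2⟩ : ∃ v ∈ variants l, (v.1 : Multiset ℕ) = Q1.val.map deg ∧
      v.2 = if 11 ∣ A.f then 0 else A.f := by
    by_cases hf : 11 ∣ A.f
    · refine ⟨(shared l, 0), List.mem_cons_self, ?_, by rw [if_pos hf]⟩
      rw [hshared]
      congr 2
      ext χ
      rw [Finset.mem_filter, hUmem, hA23, hQ1, hQ]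
      simp only [Finset.mem_filter, Finset.mem_erase, Finset.mem_union]
      constructor
      · rintro ⟨⟨h1, h2⟩, h3 | h3⟩
        · exact ⟨⟨h1, h3⟩, h2⟩
        · exact absurd (A.deg_Y χ h3 ▸ hf) h2
      · rintro ⟨⟨h1, h2⟩, h3⟩
        exact ⟨⟨h1, h3⟩, Or.inl h2⟩
    · have hsplit : U.filter (fun χ => ¬ 23 ∣ deg χ) = Q1 ∪ A.Y := by
        ext χ
        rw [Finset.mem_filter, hUmem, hA23, hQ1, hQ]
        simp only [Finset.mem_filter, Finset.mem_erase, Finset.mem_union]
        constructor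
        · rintro ⟨⟨h1, h2⟩, h3 | h3⟩
          · exact Or.inl ⟨⟨h1, h3⟩, h2⟩
          · exact Or.inr h3
        · rintro (⟨⟨h1, h2⟩, h3⟩ | h)
          · exact ⟨⟨h1, h3⟩, Or.inl h2⟩
          · exact ⟨⟨fun e => hA1' (e ▸ h), by rw [A.deg_Y χ h]; exact hf⟩, Or.inr h⟩
      have hd : Disjoint Q1 A.Y := A.disj.mono_left ((Finset.filter_subset _ _).trans (Finset.erase_subset _ _))
      have hsh : (shared l : Multiset ℕ) = A.f ::ₘ A.f ::ₘ Q1.val.map deg := by
        rw [hshared, hsplit, ← Finset.disjUnion_eq_union _ _ hd, Finset.disjUnion_val, Multiset.map_add, hYA,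
          add_comm, ← Multiset.cons_coe, ← Multiset.cons_coe, Multiset.coe_nil, Multiset.cons_add,
          Multiset.cons_add, zero_add]
      have hg : A.f ∈ [12, 126, 1920] := by
        have key : ∀ f ∈ yTwentyThree, ¬ 11 ∣ f → f ∈ [12, 126, 1920] := by decide
        exact key _ hfAc hf
      refine ⟨(((shared l).erase A.f).erase A.f, A.f),
        List.mem_cons_of_mem _ (List.mem_map.2 ⟨A.f, List.mem_filter.2 ⟨hg, ?_⟩, rfl⟩), ?_, by rw [if_neg hf]⟩
      · rw [decide_eq_true_eq, ← Multiset.coe_count, hsh, Multiset.count_cons_self, Multiset.count_cons_self]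
        omega
      · rw [← Multiset.coe_erase, ← Multiset.coe_erase, hsh, Multiset.erase_cons_head, Multiset.erase_cons_head]
  have hQ0c : Q0.card = 10 - v.1.length := by
    have h := Finset.card_filter_add_card_filter_not (s := Q) fun χ => 11 ∣ deg χ
    rw [hlen Q1 _ hv1, ← hQc, ← h]
    exact (Nat.add_sub_cancel _ _).symm
  have hd0 : Disjoint Q0 U := Finset.disjoint_left.2 fun χ h h' =>
    ((hUmem χ).1 h').2 (Finset.mem_filter.1 h).2
  have h1Q0 : CfsgLib.Char.irrOne ∉ Q0 ∪ U := by simp [hQ0, hQ, h1U]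
  have hwQ := hw _ h1Q0
  rw [Finset.sum_union hd0, Finset.sum_union hd0, ← hsum U _ hfull, ← hsum U _ hfull] at hwQ
  obtain ⟨r, hr, hrm⟩ := mem_combos (L := xRest) (by decide) (Q0.val.map deg)
    (14 - ((full l).map wFive).sum) (W - 1 - ((full l).map wSeven).sum)
    (fun d hd => by
      obtain ⟨χ, hχ, rfl⟩ := Multiset.mem_map.1 hd
      obtain ⟨hχQ, h11⟩ := Finset.mem_filter.1 hχ
      exact (hc χ (Finset.ne_of_mem_erase hχQ)).2.2.1 (Finset.mem_of_mem_erase hχQ) h11)
    (by rw [Multiset.map_map]; exact Nat.le_sub_of_add_le (by simp only [Function.comp_def, Finset.sum_map_val]; omega))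
    (by rw [Multiset.map_map]; exact Nat.le_sub_of_add_le (by simp only [Function.comp_def, Finset.sum_map_val]; omega))
  rw [Multiset.card_map, Finset.card_val, hQ0c] at hr
  have hvr : ((v.1 ++ r : List ℕ) : Multiset ℕ) = Q.val.map deg := by
    rw [← Multiset.coe_add, hv1, hrm, ← Multiset.map_add, hQ1, hQ0, Finset.filter_val, Finset.filter_val,
      add_comm]
    exact congrArg _ (Multiset.filter_add_not _ _)
  have hTA : totd 23 (v.1 ++ r) = A.ε * A.f := by
    rw [A.deg_rel hθA (by norm_num), totd, hsum Q _ hvr, ← Finset.add_sum_erase _ _ hA1, hAs, deg_irrOne]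
    simp only [Nat.cast_one, mul_one, add_right_inj]
    exact Finset.sum_congr rfl fun χ hχ =>
      ((res_mem A (by norm_num) (by norm_num)).1 (Finset.mem_of_mem_erase hχ)).2
  have hTAn : (totd 23 (v.1 ++ r)).natAbs = A.f ∧ (0 < totd 23 (v.1 ++ r) ↔ A.ε = 1) := by
    rcases A.ε_sq with e | e <;> rw [hTA, e] <;> omega
  set Yo := A.Y.filter fun χ => 11 ∣ deg χ with hYo
  set S := (Finset.univ : Finset (IrrCharacter G)).filter fun χ => ¬ 253 ∣ deg χ with hS
  have hSeq : S = insert CfsgLib.Char.irrOne (Q0 ∪ (Yo ∪ U)) := by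
    ext χ
    simp only [hS, hQ0, hQ, hYo, Finset.mem_filter, Finset.mem_univ, true_and, Finset.mem_insert,
      Finset.mem_union, Finset.mem_erase, hUmem]
    constructor
    · intro h
      by_cases h1 : χ = CfsgLib.Char.irrOne
      · exact Or.inl h1
      by_cases h11 : 11 ∣ deg χ
      · have h23 : ¬ 23 ∣ deg χ := fun h23 => h (Nat.Coprime.mul_dvd_of_dvd_of_dvd
          (by norm_num : Nat.Coprime 11 23) h11 h23)
        rcases Finset.mem_union.1 ((hA23 χ).1 h23) with h' | h'
        · exact Or.inr (Or.inl ⟨⟨h1, h'⟩, h11⟩)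
        · exact Or.inr (Or.inr (Or.inl ⟨h', h11⟩))
      · exact Or.inr (Or.inr (Or.inr ⟨h1, h11⟩))
    · rintro (rfl | ⟨⟨-, h⟩, -⟩ | ⟨h, -⟩ | ⟨-, h⟩) hd
      · rw [deg_irrOne] at hd; norm_num at hd
      · exact A.not_dvd_of_mem_X h (Dvd.dvd.trans (by norm_num) hd)
      · exact (hA23 χ).2 (Finset.mem_union_right _ h) (Dvd.dvd.trans (by norm_num) hd)
      · exact h (Dvd.dvd.trans (by norm_num) hd)
  have hYom : ((if v.2 = 0 then [A.f, A.f] else [] : List ℕ) : Multiset ℕ) = Yo.val.map deg := by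
    by_cases hf : 11 ∣ A.f
    · rw [hv2, if_pos hf, if_pos rfl, ← hYA, hYo, Finset.filter_true_of_mem fun χ hχ => by rw [A.deg_Y χ hχ]; exact hf]
    · rw [hv2, if_neg hf, if_neg (by omega), hYo, Finset.filter_false_of_mem fun χ hχ => by rw [A.deg_Y χ hχ]; exact hf]
      rfl
  have hbase : (base l v r : Multiset ℕ) = S.val.map deg := by
    have hd1 : Disjoint Yo U := Finset.disjoint_left.2 fun χ h h' =>
      ((hUmem χ).1 h').2 (Finset.mem_filter.1 h).2
    have hd2 : Disjoint Q0 (Yo ∪ U) := by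
      refine Finset.disjoint_union_right.2 ⟨?_, hd0⟩
      exact A.disj.mono ((Finset.filter_subset _ _).trans (Finset.erase_subset _ _)) (Finset.filter_subset _ _)
    have h1 : CfsgLib.Char.irrOne ∉ Q0 ∪ (Yo ∪ U) := by simp [hQ0, hQ, hYo, hA1', h1U]
    have e : base l v r = 1 :: (r ++ ((if v.2 = 0 then [A.f, A.f] else []) ++ full l)) := by
      simp only [base, hTAn.1]
      split_ifs <;> simp
    rw [e, hSeq, Finset.insert_val_of_notMem h1, ← Finset.disjUnion_eq_union _ _ hd2,
      Finset.disjUnion_val, ← Finset.disjUnion_eq_union _ _ hd1, Finset.disjUnion_val, Multiset.map_cons,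
      Multiset.map_add, Multiset.map_add, deg_irrOne, ← Multiset.cons_coe, ← Multiset.coe_add,
      ← Multiset.coe_add, hrm, hYom, hfull]
  set R := (Finset.univ : Finset (IrrCharacter G)).filter fun χ => 253 ∣ deg χ with hR
  have hall : ∀ F : IrrCharacter G → ℕ, ∑ χ ∈ R, F χ + ∑ χ ∈ S, F χ = ∑ χ, F χ :=
    fun F => Finset.sum_filter_add_sum_filter_not _ _ _
  set M := ∑ χ ∈ R, deg χ / 253 * (deg χ / 253) with hM
  have hsq : ((base l v r).map fun d => d * d).sum + 64009 * M = 10200960 := by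
    rw [hsum S _ hbase, ← hsq, ← hall, add_comm, hM, Finset.mul_sum]
    congr 1
    refine Finset.sum_congr rfl fun χ hχ => ?_
    obtain ⟨k, hk⟩ := (Finset.mem_filter.1 hχ).2
    rw [hk, Nat.mul_div_cancel_left _ (by norm_num)]
    ring
  have h5 := hfive5
  have h7 := hseven
  rw [← hall, ← hsum S _ hbase] at h5 h7
  have hrA : okA W l v r = true := by
    simp only [okA, decide_eq_true_eq, hTAn.1]
    refine ⟨hfAc, ?_, ?_, by omega, by omega, by omega, by omega⟩
    · have h := ((res_mem A (by norm_num) (by norm_num)).2 hθA).2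
      by_cases hε : A.ε = 1
      · rw [if_pos (hTAn.2.2 hε)]; rw [if_pos hε] at h; exact h
      · rw [if_neg (fun h' => hε (hTAn.2.1 h'))]; rw [if_neg hε] at h; exact h
    · by_cases hf : 11 ∣ A.f
      · rw [hv2, if_pos hf, if_pos rfl]; exact Nat.mod_eq_zero_of_dvd hf
      · rw [hv2, if_neg hf, if_neg (by omega)]
  have hRne : ∀ χ ∈ R, χ ≠ CfsgLib.Char.irrOne := fun χ hχ e => by
    have h := (Finset.mem_filter.1 hχ).2
    rw [e, deg_irrOne] at h
    norm_num at h
  obtain ⟨p, hp, hpm⟩ := mem_parts (K := kList) (by decide) (by decide) (R.val.map fun χ => deg χ / 253)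
    (15 - ((base l v r).map wFive).sum) (W - ((base l v r).map wSeven).sum)
    (fun k hk => by
      obtain ⟨χ, hχ, rfl⟩ := Multiset.mem_map.1 hk
      exact (hc χ (hRne χ hχ)).2.2.2.2 (Finset.mem_filter.1 hχ).2)
    (by
      rw [Multiset.map_map]
      refine Nat.le_sub_of_add_le ?_
      have e : ∑ χ ∈ R, wFive (253 * (deg χ / 253)) = ∑ χ ∈ R, wFive (deg χ) := Finset.sum_congr rfl
        fun χ hχ => by rw [Nat.mul_div_cancel' (Finset.mem_filter.1 hχ).2]
      simp only [Function.comp_def, Finset.sum_map_val, e]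
      exact h5)
    (by
      rw [Multiset.map_map]
      refine Nat.le_sub_of_add_le ?_
      have e : ∑ χ ∈ R, wSeven (253 * (deg χ / 253)) = ∑ χ ∈ R, wSeven (deg χ) := Finset.sum_congr rfl
        fun χ hχ => by rw [Nat.mul_div_cancel' (Finset.mem_filter.1 hχ).2]
      simp only [Function.comp_def, Finset.sum_map_val, e]
      exact h7)
  rw [Multiset.map_map] at hp
  simp only [Function.comp_def, Finset.sum_map_val, ← hM] at hp
  rw [show M = (10200960 - ((base l v r).map fun d => d * d).sum) / 64009 by omega] at hp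
  have hpm' : (p : Multiset ℕ) = R.val.map deg := by
    rw [hpm, Multiset.map_map]
    exact Multiset.map_congr rfl fun χ hχ => Nat.mul_div_cancel' (Finset.mem_filter.1 hχ).2
  have hfin : ((base l v r ++ p : List ℕ) : Multiset ℕ) = (Finset.univ : Finset (IrrCharacter G)).val.map deg := by
    rw [← Multiset.coe_add, hbase, hpm', ← Multiset.map_add, hS, hR, Finset.filter_val, Finset.filter_val,
      add_comm]
    exact congrArg _ (Multiset.filter_add_not _ _)
  obtain ⟨val, hvd, hv15, hv0⟩ := hfive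
  obtain ⟨cs, hcs, hcsm⟩ := exists_list_map deg _ _ hfin
  have hmem : base l v r ++ p ∈ finals W := by
    simp only [finals, List.mem_flatMap]
    refine ⟨l, hlB, v, hv, ?_⟩
    have hv1len : v.1.length ≤ 10 ∧ ∀ d ∈ v.1, d % 23 = 1 ∨ d % 23 = 22 := by
      refine ⟨?_, fun d hd => ?_⟩
      · rw [hlen Q1 _ hv1, ← hQc]; exact Finset.card_filter_le _ _
      · have : d ∈ Q1.val.map deg := hv1 ▸ Multiset.mem_coe.2 hd
        obtain ⟨χ, hχ, rfl⟩ := Multiset.mem_map.1 this
        have h := ((res_mem A (by norm_num) (by norm_num)).1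
          (Finset.mem_of_mem_erase (Finset.mem_filter.1 hχ).1)).1
        simpa using h
    rw [if_pos hv1len, List.mem_flatMap]
    refine ⟨r, List.mem_filter.2 ⟨hr, hrA⟩, List.mem_filter.2 ⟨List.mem_map.2 ⟨p, hp, rfl⟩, ?_⟩⟩
    rw [← hcsm]
    refine okFive_of deg val hvd cs 15 0 ?_ le_rfl ?_
    · rw [← Multiset.sum_coe, ← Multiset.map_coe, hcs]; exact hv15.symm
    · rw [zero_add, ← Multiset.sum_coe, ← Multiset.map_coe, hcs]; exact hv0
  exact ⟨_, hmem, hfin⟩

/-- The degrees of the irreducible characters. -/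
theorem degrees_eq (hL : Local G) :
    (Finset.univ : Finset (IrrCharacter G)).val.map deg = (degrees : Multiset ℕ) := by
  obtain ⟨A⟩ := exists_blk23 hL
  obtain ⟨B⟩ := exists_blk11 hL
  obtain ⟨L, hL', hLd⟩ := exists_final hL.card (fun χ hχ => deg_sq_lt hL hχ) A B (five_column hL) 14
    (sum_wSeven hL)
  rw [← hLd, Multiset.coe_eq_coe]
  exact List.isPerm_iff.1 (search _ hL')

end CfsgLib.MTwentyThreeUnique
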