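import Mathlib

/-!
Two lemmas on elementary abelian subgroups meeting in a four-group: a covering by translates, and the
possible commutators between two of three such subgroups when the third lies in the product of the others.
-/

set_option autoImplicit false
set_option linter.style.haveILetI false

noncomputable section

namespace CfsgLib.MTwentyThreeUnique

open Subgroup
attribute [local instance] Classical.propDecidable

variable {G : Type*} [Group G] [Finite G]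

/-- Four translates of a subgroup of order four cover a subgroup of order sixteen. -/
theorem translates_cover {E V : Subgroup G} (hE : Nat.card E = 16) (hV : Nat.card V = 4) (hle : V ≤ E)
    (hsq : ∀ a ∈ E, a * a = 1) {p q : G} (hp : p ∈ E) (hq : q ∈ E) (hp' : p ∉ V) (hq' : q ∉ V)
    (hpq : p * q ∉ V) {a : G} (ha : a ∈ E) : a ∈ V ∨ p * a ∈ V ∨ q * a ∈ V ∨ p * q * a ∈ V := by
  classical
  haveI : Fintype G := Fintype.ofFinite G
  by_contra hne
  push Not at hne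
  obtain ⟨h1, h2, h3, h4⟩ := hne
  set s : Finset G := Finset.univ.filter (fun g => g ∈ V) with hs
  have hsc : s.card = 4 := by rw [hs, ← Fintype.card_subtype, ← Nat.card_eq_fintype_card]; exact hV
  have hm : ∀ c g : G, c ∈ E → (g ∈ s.image (c * ·) ↔ c * g ∈ V) := by
    intro c g hc
    simp only [hs, Finset.mem_image, Finset.mem_filter, Finset.mem_univ, true_and]
    constructor
    · rintro ⟨v, hv, rfl⟩
      rwa [← mul_assoc, hsq c hc, one_mul]
    · intro h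
      exact ⟨c * g, h, by rw [← mul_assoc, hsq c hc, one_mul]⟩
  have hinv : ∀ c ∈ E, c⁻¹ = c := fun c hc => inv_eq_of_mul_eq_one_right (hsq c hc)
  have hcc : ∀ b ∈ E, ∀ c ∈ E, b * c = c * b := fun b hb c hc => by
    calc b * c = (b * c)⁻¹ := (hinv _ (mul_mem hb hc)).symm
      _ = c * b := by rw [mul_inv_rev, hinv b hb, hinv c hc]
  have hdis : ∀ b ∈ E, ∀ c ∈ E, c * b ∉ V → Disjoint (s.image (b * ·)) (s.image (c * ·)) := by
    intro b hb c hc hbc
    rw [Finset.disjoint_left]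
    intro g hg hg'
    rw [hm b g hb] at hg
    rw [hm c g hc] at hg'
    refine hbc ?_
    have := mul_mem hg' (inv_mem hg)
    rwa [mul_inv_rev, ← mul_assoc, mul_inv_cancel_right, hinv b hb] at this
  have hpq' : p * q ∈ E := mul_mem hp hq
  set T : Finset G := s.image ((1 : G) * ·) ∪ s.image (p * ·) ∪ s.image (q * ·) ∪ s.image ((p * q) * ·) with hT
  have hTc : T.card = 16 := by
    have hi : ∀ c : G, (s.image (c * ·)).card = 4 := fun c => by
      rw [Finset.card_image_of_injective _ (mul_right_injective c), hsc]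
    rw [hT, Finset.card_union_of_disjoint, Finset.card_union_of_disjoint, Finset.card_union_of_disjoint, hi, hi,
      hi, hi]
    · exact hdis 1 (one_mem E) p hp (by rwa [mul_one])
    · rw [Finset.disjoint_union_left]
      refine ⟨hdis 1 (one_mem E) q hq (by rwa [mul_one]), hdis p hp q hq ?_⟩
      rwa [hcc q hq p hp]
    · rw [Finset.disjoint_union_left, Finset.disjoint_union_left]
      refine ⟨⟨hdis 1 (one_mem E) _ hpq' (by rwa [mul_one]), hdis p hp _ hpq' ?_⟩, hdis q hq _ hpq' ?_⟩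
      · rwa [hcc p hp q hq, mul_assoc, hsq p hp, mul_one]
      · rwa [mul_assoc, hsq q hq, mul_one]
  have hsub : insert a T ⊆ Finset.univ.filter (fun g => g ∈ E) := by
    intro g hg
    rw [Finset.mem_filter]
    refine ⟨Finset.mem_univ _, ?_⟩
    rw [Finset.mem_insert] at hg
    rcases hg with rfl | hg
    · exact ha
    simp only [hT, Finset.mem_union] at hg
    rcases hg with ((hg | hg) | hg) | hg
    · rw [hm 1 g (one_mem E), one_mul] at hg; exact hle hg
    all_goals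
      rw [hm _ g (by first | exact hp | exact hq | exact hpq')] at hg
      exact (Subgroup.mul_mem_cancel_left E (by first | exact hp | exact hq | exact hpq')).1 (hle hg)
  have hnot : a ∉ T := by
    rw [hT, Finset.mem_union, Finset.mem_union, Finset.mem_union, hm _ a (one_mem E), hm _ a hp, hm _ a hq,
      hm _ a hpq', one_mul]
    tauto
  have h := Finset.card_le_card hsub
  rw [Finset.card_insert_of_notMem hnot, hTc, ← Fintype.card_subtype, ← Nat.card_eq_fintype_card] at h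
  omega

/-- Three elementary abelian groups meeting pairwise in a four-group, one inside the product of the other
two: the commutators of the first two take at most one nontrivial value, which is also a commutator of the
second and the third. -/
theorem comm_values {E E₁ E₂ V : Subgroup G} (hE : Nat.card E = 16) (hE₁ : Nat.card E₁ = 16)
    (hE₂ : Nat.card E₂ = 16) (hV : Nat.card V = 4)
    (hsq : ∀ a ∈ E, a * a = 1) (hsq₁ : ∀ a ∈ E₁, a * a = 1) (hsq₂ : ∀ a ∈ E₂, a * a = 1)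
    (h01 : E ⊓ E₁ = V) (h02 : E ⊓ E₂ = V) (h12 : E₁ ⊓ E₂ = V)
    (hcv : ∀ a ∈ E, ∀ b ∈ E₁, a * b * a * b ∈ V) (hprod : ∀ e ∈ E₂, ∃ a ∈ E, ∃ b ∈ E₁, e = a * b) :
    ∃ v ∈ V, (∀ a ∈ E, ∀ b ∈ E₁, a * b * a * b = 1 ∨ a * b * a * b = v) ∧
      ∃ b ∈ E₁, ∃ e ∈ E₂, b * e * b * e = v := by
  classical
  have hVE : V ≤ E := h01 ▸ inf_le_left
  have hVE₁ : V ≤ E₁ := h01 ▸ inf_le_right
  have hVE₂ : V ≤ E₂ := h02 ▸ inf_le_right
  have hinv : ∀ {F : Subgroup G}, (∀ a ∈ F, a * a = 1) → ∀ c ∈ F, c⁻¹ = c := fun hF c hc =>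
    inv_eq_of_mul_eq_one_right (hF c hc)
  have hcc : ∀ {F : Subgroup G}, (∀ a ∈ F, a * a = 1) → ∀ b ∈ F, ∀ c ∈ F, b * c = c * b :=
    fun hF b hb c hc => by
      calc b * c = (b * c)⁻¹ := (hinv hF _ (mul_mem hb hc)).symm
        _ = c * b := by rw [mul_inv_rev, hinv hF b hb, hinv hF c hc]
  have hlin : ∀ a ∈ E, ∀ a' ∈ E, ∀ b ∈ E₁,
      (a * a') * b * (a * a') * b = (a * b * a * b) * (a' * b * a' * b) := by
    intro a ha a' ha' b hb
    have hv : a' * b * a' * b ∈ V := hcv a' ha' b hb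
    have h1 := hcc hsq a ha _ (hVE hv)
    calc (a * a') * b * (a * a') * b = a * a' * b * (a' * a) * b := by rw [hcc hsq a ha a' ha']
      _ = a * (a' * b * a' * b) * (b⁻¹ * a * b) := by group
      _ = (a' * b * a' * b) * (a * b * a * b) := by rw [h1, hinv hsq₁ b hb]; group
      _ = (a * b * a * b) * (a' * b * a' * b) := hcc hsq _ (hVE hv) _ (hVE (hcv a ha b hb))
  have hrin : ∀ a ∈ E, ∀ b ∈ E₁, ∀ b' ∈ E₁,
      a * (b * b') * a * (b * b') = (a * b * a * b) * (a * b' * a * b') := by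
    intro a ha b hb b' hb'
    have hv : a * b' * a * b' ∈ V := hcv a ha b' hb'
    have e : b' * a * b' * a = a * b' * a * b' := by
      calc b' * a * b' * a = (a * b' * a * b')⁻¹ := by
            rw [mul_inv_rev, mul_inv_rev, mul_inv_rev, hinv hsq a ha, hinv hsq₁ b' hb']; group
        _ = a * b' * a * b' := hinv hsq _ (hVE hv)
    calc a * (b * b') * a * (b * b') = a * (b * b') * a * (b' * b) := by rw [hcc hsq₁ b hb b' hb']
      _ = a * (b * (b' * a * b' * a)) * (a⁻¹ * b) := by group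
      _ = a * ((a * b' * a * b') * b) * (a⁻¹ * b) := by rw [e, hcc hsq₁ b hb _ (hVE₁ hv)]
      _ = (a * b' * a * b') * (a * b * a * b) := by
          rw [← mul_assoc a, hcc hsq a ha _ (hVE hv), hinv hsq a ha]; group
      _ = (a * b * a * b) * (a * b' * a * b') := hcc hsq _ (hVE hv) _ (hVE (hcv a ha b hb))
  have hVl : ∀ v ∈ V, ∀ b ∈ E₁, v * b * v * b = 1 := fun v hv b hb => by
    rw [hcc hsq₁ v (hVE₁ hv) b hb, mul_assoc b v v, hsq₁ v (hVE₁ hv), mul_one, hsq₁ b hb]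
  have hVr : ∀ v ∈ V, ∀ a ∈ E, a * v * a * v = 1 := fun v hv a ha => by
    rw [hcc hsq a ha v (hVE hv), mul_assoc v a a, hsq a ha, mul_one, hsq v (hVE hv)]
  -- two elements of the third group
  haveI : Fintype G := Fintype.ofFinite G
  obtain ⟨e₁, he₁, he₁V⟩ : ∃ e ∈ E₂, e ∉ V := by
    by_contra hne
    push Not at hne
    have := Nat.le_of_dvd Nat.card_pos (card_dvd_of_le (show E₂ ≤ V from hne))
    omega
  obtain ⟨e₂, he₂, he₂V, he₁₂⟩ : ∃ e ∈ E₂, e ∉ V ∧ e₁ * e ∉ V := by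
    by_contra hne
    push Not at hne
    have hsub : (Finset.univ.filter (fun g => g ∈ E₂)) ⊆ (Finset.univ.filter (fun g => g ∈ V)) ∪
        (Finset.univ.filter (fun g => g ∈ V)).image (e₁ * ·) := by
      intro g hg
      simp only [Finset.mem_filter, Finset.mem_univ, true_and] at hg
      simp only [Finset.mem_union, Finset.mem_image, Finset.mem_filter, Finset.mem_univ, true_and]
      by_cases h : g ∈ V
      · exact Or.inl h
      · exact Or.inr ⟨e₁ * g, hne g hg h, by rw [← mul_assoc, hsq₂ e₁ he₁, one_mul]⟩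
    have h := (Finset.card_le_card hsub).trans (Finset.card_union_le _ _)
    rw [Finset.card_image_of_injective _ (mul_right_injective e₁), ← Fintype.card_subtype,
      ← Fintype.card_subtype, ← Nat.card_eq_fintype_card, ← Nat.card_eq_fintype_card] at h
    have e : Nat.card E₂ ≤ Nat.card V + Nat.card V := h
    omega
  obtain ⟨a₁, ha₁, b₁, hb₁, he1⟩ := hprod e₁ he₁
  obtain ⟨a₂, ha₂, b₂, hb₂, he2⟩ := hprod e₂ he₂
  have hswap : b₁ * a₂ = a₂ * b₁ * (b₁ * a₂ * b₁ * a₂) := by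
    symm
    calc a₂ * b₁ * (b₁ * a₂ * b₁ * a₂) = a₂ * (b₁ * b₁) * a₂ * b₁ * a₂ := by group
      _ = b₁ * a₂ := by rw [hsq₁ b₁ hb₁, mul_one, hsq a₂ ha₂, one_mul]
  have hd : b₁ * a₂ * b₁ * a₂ ∈ V := by
    have h := inv_mem (hcv a₂ ha₂ b₁ hb₁)
    rwa [mul_inv_rev, mul_inv_rev, mul_inv_rev, hinv hsq a₂ ha₂, hinv hsq₁ b₁ hb₁, ← mul_assoc, ← mul_assoc] at h
  set d := b₁ * a₂ * b₁ * a₂ with hdd
  have he12 : e₁ * e₂ = (a₁ * a₂) * (b₁ * b₂ * d) := by
    rw [he1, he2]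
    calc a₁ * b₁ * (a₂ * b₂) = a₁ * (b₁ * a₂) * b₂ := by group
      _ = a₁ * a₂ * b₁ * (d * b₂) := by rw [hswap]; group
      _ = a₁ * a₂ * b₁ * (b₂ * d) := by rw [hcc hsq₁ d (hVE₁ hd) b₂ hb₂]
      _ = _ := by group
  have hna : ∀ {a b e : G}, a ∈ E → b ∈ E₁ → e ∈ E₂ → e ∉ V → e = a * b → a ∉ V ∧ b ∉ V := by
    intro a b e ha hb he heV hab
    constructor
    · intro h
      exact heV (h12 ▸ ⟨hab ▸ mul_mem (hVE₁ h) hb, he⟩)
    · intro h
      exact heV (h02 ▸ ⟨hab ▸ mul_mem ha (hVE h), he⟩)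
  obtain ⟨ha₁V, hb₁V⟩ := hna ha₁ hb₁ he₁ he₁V he1
  obtain ⟨ha₂V, hb₂V⟩ := hna ha₂ hb₂ he₂ he₂V he2
  have hbd : b₁ * b₂ * d ∈ E₁ := mul_mem (mul_mem hb₁ hb₂) (hVE₁ hd)
  obtain ⟨ha₁₂, hbd'⟩ := hna (mul_mem ha₁ ha₂) hbd (mul_mem he₁ he₂) he₁₂ he12
  have hb₁₂ : b₁ * b₂ ∉ V := fun h => hbd' (mul_mem h hd)
  have h11 : a₁ * b₁ * a₁ * b₁ = 1 := by
    have := hsq₂ e₁ he₁
    rwa [he1, ← mul_assoc] at this
  have h22 : a₂ * b₂ * a₂ * b₂ = 1 := by
    have := hsq₂ e₂ he₂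
    rwa [he2, ← mul_assoc] at this
  set v := a₁ * b₂ * a₁ * b₂ with hv
  have hvV : v ∈ V := hcv a₁ ha₁ b₂ hb₂
  have hvv : v * v = 1 := hsq v (hVE hvV)
  have h21 : a₂ * b₁ * a₂ * b₁ = v := by
    have h := hsq₂ _ (mul_mem he₁ he₂)
    rw [he12, ← mul_assoc, hrin _ (mul_mem ha₁ ha₂) _ (mul_mem hb₁ hb₂) d (hVE₁ hd),
      hVr d hd _ (mul_mem ha₁ ha₂), mul_one, hlin a₁ ha₁ a₂ ha₂ _ (mul_mem hb₁ hb₂),
      hrin a₁ ha₁ b₁ hb₁ b₂ hb₂, hrin a₂ ha₂ b₁ hb₁ b₂ hb₂, h11, h22, one_mul, mul_one, ← hv] at h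
    calc a₂ * b₁ * a₂ * b₁ = (v * v) * (a₂ * b₁ * a₂ * b₁) := by rw [hvv, one_mul]
      _ = v := by rw [mul_assoc, h, mul_one]
  have good_mul : ∀ p q : G, (p = 1 ∨ p = v) → (q = 1 ∨ q = v) → (p * q = 1 ∨ p * q = v) := by
    rintro p q (rfl | rfl) (rfl | rfl) <;> simp [hvv]
  refine ⟨v, hvV, ?_, b₁, hb₁, e₂, he₂, ?_⟩
  · intro a ha b hb
    have hgood1 : ∀ b ∈ E₁, ∀ a', a' ∈ E → (a' = a₁ ∨ a' = a₂) →
        (a' * b * a' * b = 1 ∨ a' * b * a' * b = v) := by
      intro b hb a' ha' haa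
      rcases translates_cover hE₁ hV hVE₁ hsq₁ hb₁ hb₂ hb₁V hb₂V hb₁₂ hb with h | h | h | h
      · exact Or.inl (hVr b h a' ha')
      all_goals
        have key : ∀ c ∈ E₁, c * b ∈ V → a' * b * a' * b = a' * c * a' * c := by
          intro c hc hcb
          have e : b = c * (c * b) := by rw [← mul_assoc, hsq₁ c hc, one_mul]
          conv_lhs => rw [e]
          rw [hrin a' ha' c hc _ (hVE₁ hcb), hVr _ hcb a' ha', mul_one]
      · rw [key b₁ hb₁ h]; rcases haa with rfl | rfl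
        · exact Or.inl h11
        · exact Or.inr h21
      · rw [key b₂ hb₂ h]; rcases haa with rfl | rfl
        · exact Or.inr hv.symm
        · exact Or.inl h22
      · rw [key _ (mul_mem hb₁ hb₂) h, hrin a' ha' b₁ hb₁ b₂ hb₂]; rcases haa with rfl | rfl
        · rw [h11, one_mul]; exact Or.inr hv.symm
        · rw [h22, mul_one]; exact Or.inr h21
    have key : ∀ c ∈ E, c * a ∈ V → a * b * a * b = c * b * c * b := by
      intro c hc hca
      have e : a = c * (c * a) := by rw [← mul_assoc, hsq c hc, one_mul]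
      conv_lhs => rw [e]
      rw [hlin c hc _ (hVE hca) b hb, hVl _ hca b hb, mul_one]
    rcases translates_cover hE hV hVE hsq ha₁ ha₂ ha₁V ha₂V ha₁₂ ha with h | h | h | h
    · exact Or.inl (hVl a h b hb)
    · rw [key a₁ ha₁ h]; exact hgood1 b hb a₁ ha₁ (Or.inl rfl)
    · rw [key a₂ ha₂ h]; exact hgood1 b hb a₂ ha₂ (Or.inr rfl)
    · rw [key _ (mul_mem ha₁ ha₂) h, hlin a₁ ha₁ a₂ ha₂ b hb]
      exact good_mul _ _ (hgood1 b hb a₁ ha₁ (Or.inl rfl)) (hgood1 b hb a₂ ha₂ (Or.inr rfl))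
  · have hb12 : b₂ * b₁ = b₁ * b₂ := hcc hsq₁ b₂ hb₂ b₁ hb₁
    rw [he2]
    calc b₁ * (a₂ * b₂) * b₁ * (a₂ * b₂) = b₁ * a₂ * (b₂ * b₁) * a₂ * b₂ := by group
      _ = (b₁ * a₂ * b₁ * a₂) * ((a₂⁻¹ * b₂ * a₂) * b₂) := by rw [hb12]; group
      _ = (b₁ * a₂ * b₁ * a₂) * (a₂ * b₂ * a₂ * b₂) := by rw [hinv hsq a₂ ha₂]
      _ = v⁻¹ := by
          rw [h22, mul_one, ← h21, mul_inv_rev, mul_inv_rev, mul_inv_rev, hinv hsq a₂ ha₂, hinv hsq₁ b₁ hb₁,
            ← mul_assoc, ← mul_assoc]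
      _ = v := hinv hsq v (hVE hvV)

end CfsgLib.MTwentyThreeUnique
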