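import Cfsg.Agent.Lib.MTwentyThreeUnique.Centre
import Cfsg.Agent.Lib.MTwentyThreeUnique.FourGroup
import Cfsg.Agent.Lib.KnownSimple.Order7920.Tools
import Mathlib

/-!
The normalizer of the elementary abelian group of order sixteen has index 253 and is transitive on its
involutions.
-/

set_option autoImplicit false
set_option linter.style.haveILetI false

noncomputable section

namespace CfsgLib.MTwentyThreeUnique

open Subgroup Cfsg
attribute [local instance] Classical.propDecidable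

variable {G : Type*} [Group G]

theorem inv_conj_mem [Finite G] {F : Subgroup G} {g : G} (h : ∀ f ∈ F, g * f * g⁻¹ ∈ F) {f : G} (hf : f ∈ F) :
    g⁻¹ * f * g ∈ F := by
  have e : F.map (MulAut.conj g).toMonoidHom = F := by
    refine eq_of_le_of_card_ge ?_ (card_map_of_injective (MulAut.conj g).injective).ge
    rintro _ ⟨a, ha, rfl⟩
    exact h a ha
  rw [← e] at hf
  obtain ⟨a, ha, rfl⟩ := hf
  simpa [mul_assoc] using ha

theorem mem_normalizer_of_conj [Finite G] {F : Subgroup G} {g : G} (h : ∀ f ∈ F, g * f * g⁻¹ ∈ F) :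
    g ∈ normalizer (F : Set G) := fun a =>
  ⟨fun ha => h a ha, fun ha => by
    have := inv_conj_mem h ha
    simpa [mul_assoc] using this⟩

variable [Fintype G] (hL : Local G)
include hL

set_option maxHeartbeats 800000 in
/-- An element of the centraliser of `y` acting on a four-group without fixed points. -/
theorem exists_mover {y : G} (hy : orderOf y = 3) {V : Subgroup G} (hVC : V ≤ centralizer ({y} : Set G))
    (hV : Nat.card V = 4) (hsq : ∀ v ∈ V, v * v = 1) :
    ∃ w : G, Commute w y ∧ (∀ v ∈ V, w * v * w⁻¹ ∈ V) ∧ (∀ v ∈ V, v ≠ 1 → w * v * w⁻¹ ≠ v) ∧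
      (∀ v ∈ V, v ≠ 1 → (w * w) * v * (w * w)⁻¹ ≠ v) := by
  classical
  haveI : Fact (Nat.Prime 2) := ⟨Nat.prime_two⟩
  haveI : Fact (Nat.Prime 5) := ⟨by norm_num⟩
  set Cy := centralizer ({y} : Set G) with hCy
  have hC : Nat.card Cy = 180 := cent_three hL hy (hV ▸ card_dvd_of_le hVC)
  set W := V.subgroupOf Cy with hW
  have hWc : Nat.card W = 4 := by
    rw [hW, Nat.card_congr (subgroupOfEquivOfLe hVC).toEquiv, hV]
  have hmax : ∀ H : Subgroup Cy, IsPGroup 2 H → W ≤ H → H = W := by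
    intro H hH hWH
    obtain ⟨n, hn⟩ := hH.exists_card_eq
    have h180 : Nat.card H ∣ 180 := hC ▸ H.card_subgroup_dvd_card
    have h4 : 4 ∣ Nat.card H := hWc ▸ card_dvd_of_le hWH
    refine (eq_of_le_of_card_ge hWH ?_).symm
    rw [hWc, hn]
    rw [hn] at h180 h4
    have hn8 : n < 8 := (Nat.pow_lt_pow_iff_right (a := 2) (by norm_num)).1
      (lt_of_le_of_lt (Nat.le_of_dvd (by norm_num) h180) (by norm_num))
    interval_cases n <;> omega
  have hW2 : IsPGroup 2 W := IsPGroup.of_card (n := 2) (by rw [hWc]; norm_num)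
  obtain ⟨P, hP⟩ := hW2.exists_le_sylow
  have hPW : (P : Subgroup Cy) = W := hmax P P.isPGroup' hP
  have hPc : Nat.card (P : Subgroup Cy) = 4 := by rw [hPW, hWc]
  by_cases hNC : normalizer ((P : Subgroup Cy) : Set Cy) ≤ centralizer ((P : Subgroup Cy) : Set Cy)
  · exfalso
    set K := (MonoidHom.transferSylow P hNC).ker with hK
    have hK45 : Nat.card K = 45 := by
      have := (MonoidHom.ker_transferSylow_isComplement' P hNC).card_mul
      rw [hC, hPc, ← hK] at this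
      omega
    haveI : Fintype K := Fintype.ofFinite _
    have hS5 : ∀ Q : Sylow 5 K, Nat.card (Q : Subgroup K) = 5 := fun Q => by
      simpa using CfsgLib.SmallGroups.card_sylow_eq (a := 1) (m := 9) (by rw [hK45]; norm_num) (by norm_num) Q
    obtain ⟨Q⟩ : Nonempty (Sylow 5 K) := inferInstance
    have hone : Nat.card (Sylow 5 K) = 1 := by
      have h1 := card_sylow_modEq_one 5 K
      have h2 := Q.card_dvd_index
      have h3 := (Q : Subgroup K).card_mul_index
      rw [hS5 Q, hK45] at h3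
      rw [show (Q : Subgroup K).index = 9 by omega] at h2
      have h4 : Nat.card (Sylow 5 K) ≤ 9 := Nat.le_of_dvd (by norm_num) h2
      unfold Nat.ModEq at h1
      interval_cases hh : Nat.card (Sylow 5 K) <;> omega
    haveI : Subsingleton (Sylow 5 K) := (Nat.card_eq_one_iff_unique.1 hone).1
    haveI hQn : (Q : Subgroup K).Normal := Q.normal_of_subsingleton
    obtain ⟨f, hf⟩ := exists_prime_orderOf_dvd_card' (G := Q) 5 (by rw [hS5 Q])
    have hfK : orderOf (f : K) = 5 := by rw [Subgroup.orderOf_coe, hf]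
    have hfG : orderOf (((f : K) : Cy) : G) = 5 := by rw [Subgroup.orderOf_coe, Subgroup.orderOf_coe, hfK]
    have hQf : (Q : Subgroup K) = zpowers (f : K) := (eq_of_le_of_card_ge (zpowers_le.2 f.2) (by
      rw [Nat.card_zpowers, hfK, hS5 Q])).symm
    have hle : (K.map Cy.subtype) ≤ normalizer ((zpowers (((f : K) : Cy) : G) : Subgroup G) : Set G) := by
      rintro _ ⟨k, hk, rfl⟩
      refine mem_normalizer_zpowers ?_
      obtain ⟨i, hi⟩ := hQf.le (hQn.conj_mem _ f.2 ⟨k, hk⟩)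
      refine ⟨i, ?_⟩
      have := congrArg (fun q : K => ((q : Cy) : G)) hi
      simpa using this
    have := card_dvd_of_le hle
    rw [card_map_of_injective Cy.subtype_injective, hK45, (hL.five _ hfG).2] at this
    norm_num at this
  obtain ⟨c, hcN, hcZ⟩ := SetLike.not_le_iff_exists.1 hNC
  rw [hPW] at hcN hcZ
  obtain ⟨k, r, hr, hkr⟩ := Nat.exists_eq_two_pow_mul_odd (n := orderOf c) (orderOf_pos c).ne'
  have hur : c ^ r ∈ W := by
    have hu : (c ^ r) ^ 2 ^ k = 1 := by rw [← pow_mul, mul_comm, ← hkr, pow_orderOf_eq_one]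
    have hu2 : IsPGroup 2 (zpowers (c ^ r)) := by
      obtain ⟨i, -, hi⟩ := (Nat.dvd_prime_pow Nat.prime_two).1 (orderOf_dvd_of_pow_eq_one hu)
      exact IsPGroup.of_card (n := i) (by rw [Nat.card_zpowers, hi])
    have := hmax _ (hu2.to_sup_of_normal_right' hW2 (zpowers_le.2 (pow_mem hcN r))) le_sup_right
    exact this.le (le_sup_left (a := zpowers (c ^ r)) (mem_zpowers _))
  set w : G := (c : G) with hw
  have hwy : Commute w y := mem_centralizer_singleton_iff.1 c.2
  have hwV : ∀ v ∈ V, w * v * w⁻¹ ∈ V := fun v hv => (hcN ⟨v, hVC hv⟩).1 hv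
  have hab : ∀ a ∈ V, ∀ b ∈ V, a * b = b * a := fun a ha b hb => by
    have hi : ∀ c ∈ V, c⁻¹ = c := fun c hc => inv_eq_of_mul_eq_one_right (hsq c hc)
    calc a * b = (a * b)⁻¹ := (hi _ (mul_mem ha hb)).symm
      _ = b * a := by rw [mul_inv_rev, hi a ha, hi b hb]
  have hodd : ∀ v ∈ V, (w * w) * v * (w * w)⁻¹ = v → w * v * w⁻¹ = v := by
    intro v hv h2
    have hH : w * w ∈ centralizer ({v} : Set G) := mem_centralizer_singleton_iff.2 (mul_inv_eq_iff_eq_mul.1 h2)
    have hwr : w ^ r ∈ centralizer ({v} : Set G) := mem_centralizer_singleton_iff.2 (hab _ hur v hv)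
    obtain ⟨l, hl⟩ := hr
    rw [hl, pow_succ, pow_mul, sq] at hwr
    exact mul_inv_eq_iff_eq_mul.2 (mem_centralizer_singleton_iff.1
      ((Subgroup.mul_mem_cancel_left _ (pow_mem hH l)).1 hwr))
  obtain ⟨g, hg, hgw⟩ : ∃ g ∈ V, w * g * w⁻¹ ≠ g := by
    by_contra hne
    push Not at hne
    refine hcZ (mem_centralizer_iff.2 fun v hv => Subtype.ext ?_)
    rw [Subgroup.coe_mul, Subgroup.coe_mul]
    exact (mul_inv_eq_iff_eq_mul.1 (hne v hv)).symm
  have hfix : ∀ v ∈ V, v ≠ 1 → w * v * w⁻¹ ≠ v := by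
    intro v hv hv1 hvw
    have hg1 : g ≠ 1 := by rintro rfl; simp at hgw
    have hgv : g ≠ v := by rintro rfl; exact hgw hvw
    have hgv1 : g * v ≠ 1 := fun e => hgv (by
      rw [mul_eq_one_iff_eq_inv] at e; rw [e, inv_eq_of_mul_eq_one_right (hsq v hv)])
    have hgvg : g * v ≠ g := fun e => hv1 (mul_eq_left.1 e)
    have hgvv : g * v ≠ v := fun e => hg1 (mul_eq_right.1 e)
    have hg' := hwV g hg
    have hn1 : w * g * w⁻¹ ≠ 1 := fun e => hg1 (conj_eq_one_iff.1 e)
    have hnv : w * g * w⁻¹ ≠ v := fun e => hgv (mul_left_cancel (mul_right_cancel (e.trans hvw.symm)))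
    have hall : w * g * w⁻¹ = g * v := by
      by_contra hne
      have hs : ({1, v, g, g * v, w * g * w⁻¹} : Finset G).card = 5 := by
        simp [hv1.symm, hg1.symm, hgv1.symm, hgv.symm, hgvg.symm, hgvv.symm, hn1.symm, hnv.symm, Ne.symm hgw,
          Ne.symm hne]
      have hsub : (({1, v, g, g * v, w * g * w⁻¹} : Finset G) : Set G) ⊆ (V : Set G) := by
        intro a ha
        simp only [Finset.coe_insert, Finset.coe_singleton, Set.mem_insert_iff, Set.mem_singleton_iff] at ha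
        rcases ha with rfl | rfl | rfl | rfl | rfl
        exacts [one_mem V, hv, hg, mul_mem hg hv, hg']
      have h := Set.ncard_le_ncard hsub (Set.toFinite _)
      rw [Set.ncard_coe_finset, hs, ← Nat.card_coe_set_eq] at h
      change 5 ≤ Nat.card V at h
      omega
    refine hgw (hodd g hg ?_)
    calc (w * w) * g * (w * w)⁻¹ = w * (w * g * w⁻¹) * w⁻¹ := by group
      _ = (w * g * w⁻¹) * (w * v * w⁻¹) := by
        conv_lhs => rw [hall]
        group
      _ = g := by rw [hvw, hall, mul_assoc, hsq v hv, mul_one]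
  exact ⟨w, hwy, hwV, hfix, fun v hv hv1 h => hfix v hv hv1 (hodd v hv h)⟩

set_option maxHeartbeats 800000 in
/-- The normalizer of the group of order sixteen moves the involution. -/
theorem exists_moving (S : Sixteen G) : ∃ g ∈ normalizer (S.E : Set G), g * S.t * g⁻¹ ≠ S.t := by
  classical
  haveI : Fact (Nat.Prime 2) := ⟨Nat.prime_two⟩
  haveI : Fact (Nat.Prime 3) := ⟨by norm_num⟩
  set E := S.E with hEdef
  set t := S.t with htdef
  set y := S.y with hydef
  set V := E ⊓ centralizer ({y} : Set G) with hV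
  have hV4 : Nat.card V = 4 := S.fix_y
  have ht1 : t ≠ 1 := fun e => by
    have h := S.order_t
    rw [← htdef, e, orderOf_one] at h
    norm_num at h
  have htV : t ∈ V := ⟨S.t_mem, mem_centralizer_singleton_iff.2 S.comm_yt.eq.symm⟩
  obtain ⟨w, hwy, hwV, hf1, hf2⟩ := exists_mover hL S.order_y inf_le_right hV4 (fun v hv => S.sq_E v hv.1)
  set E₁ := E.map (MulAut.conj w).toMonoidHom with hE₁
  set E₂ := E₁.map (MulAut.conj w).toMonoidHom with hE₂
  by_cases h01 : E₁ = E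
  · refine ⟨w, mem_normalizer_of_conj fun f hf => ?_, hf1 t htV ht1⟩
    exact h01.le ⟨f, hf, rfl⟩
  by_cases h02 : E₂ = E
  · refine ⟨w * w, mem_normalizer_of_conj fun f hf => ?_, hf2 t htV ht1⟩
    rw [show (w * w) * f * (w * w)⁻¹ = w * (w * f * w⁻¹) * w⁻¹ by group]
    exact h02.le ⟨_, ⟨f, hf, rfl⟩, rfl⟩
  exfalso
  have hVw : ∀ v ∈ V, w⁻¹ * v * w ∈ V := fun v hv => inv_conj_mem hwV hv
  set D := centralizer (V : Set G) with hD
  have hDw : ∀ d ∈ D, w⁻¹ * d * w ∈ D := fun d hd => mem_centralizer_iff.2 fun v hv => by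
    have h := mem_centralizer_iff.1 hd _ (hwV v hv)
    calc v * (w⁻¹ * d * w) = w⁻¹ * ((w * v * w⁻¹) * d) * w := by group
      _ = w⁻¹ * (d * (w * v * w⁻¹)) * w := by rw [h]
      _ = w⁻¹ * d * w * v := by group
  have hDt : D ≤ centralizer ({t} : Set G) := fun d hd =>
    mem_centralizer_singleton_iff.2 (mem_centralizer_iff.1 hd t htV).symm
  have hDD : ∀ d ∈ D, w * d * w⁻¹ ∈ D := fun d hd => by
    have := inv_conj_mem (g := w⁻¹) (F := D) (fun f hf => by rw [inv_inv]; exact hDw f hf) hd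
    rwa [inv_inv] at this
  have hwyi : ∀ a : G, y * (w * a * w⁻¹) * y⁻¹ = w * (y * a * y⁻¹) * w⁻¹ := fun a => by
    calc y * (w * a * w⁻¹) * y⁻¹ = (y * w) * a * (y * w)⁻¹ := by group
      _ = (w * y) * a * (w * y)⁻¹ := by rw [hwy.eq]
      _ = w * (y * a * y⁻¹) * w⁻¹ := by group
  have hyE : ∀ a ∈ E, y * a * y⁻¹ ∈ E := fun a ha =>
    S.conj_E y (mem_centralizer_singleton_iff.2 S.comm_yt.eq) a ha
  -- the properties shared by the three conjugates
  let Good : Subgroup G → Prop := fun F => Nat.card F = 16 ∧ (∀ a ∈ F, a * a = 1) ∧ V ≤ F ∧ F ≤ D ∧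
    (∀ c ∈ D, ∀ a ∈ F, c * a * c⁻¹ ∈ F) ∧ (∀ a ∈ F, y * a * y⁻¹ ∈ F)
  have hG0 : Good E := by
    refine ⟨S.card_E, S.sq_E, inf_le_left, fun a ha => mem_centralizer_iff.2 fun v hv => ?_,
      fun c hc => S.conj_E c (hDt hc), hyE⟩
    exact (S.comm_E v (inf_le_left (b := centralizer ({y} : Set G)) hv) a ha).eq
  have hstep : ∀ F, Good F → Good (F.map (MulAut.conj w).toMonoidHom) := by
    rintro F ⟨h16, hsq, hVF, hFD, hn, hyF⟩
    refine ⟨by rw [card_map_of_injective (MulAut.conj w).injective, h16], ?_, ?_, ?_, ?_, ?_⟩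
    · rintro _ ⟨a, ha, rfl⟩
      rw [← map_mul, hsq a ha, map_one]
    · intro v hv
      exact ⟨w⁻¹ * v * w, hVF (hVw v hv), by simp [mul_assoc]⟩
    · rintro _ ⟨a, ha, rfl⟩
      exact hDD a (hFD ha)
    · rintro c hc _ ⟨a, ha, rfl⟩
      refine ⟨(w⁻¹ * c * w) * a * (w⁻¹ * c * w)⁻¹, hn _ (hDw c hc) a ha, ?_⟩
      simp [mul_assoc]
    · rintro _ ⟨a, ha, rfl⟩
      exact ⟨y * a * y⁻¹, hyF a ha, (hwyi a).symm⟩
  have hG1 : Good E₁ := hstep E hG0
  have hG2 : Good E₂ := hstep E₁ hG1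
  have hy3 : y ^ 3 = 1 := S.order_y ▸ pow_orderOf_eq_one y
  have hcy : V ≤ centralizer ({y} : Set G) := inf_le_right
  have hinter : ∀ F, Good F → F ≠ E → E ⊓ F = V := by
    rintro F ⟨h16, -, hVF, -, -, hyF⟩ hne
    have hm := card_modEq_fixed hy3 (H := E ⊓ F) (fun a ha => ⟨hyE a ha.1, hyF a ha.2⟩)
    have e : E ⊓ F ⊓ centralizer ({y} : Set G) = V :=
      le_antisymm (inf_le_inf_right _ inf_le_left) (le_inf (le_inf inf_le_left hVF) inf_le_right)
    rw [e, hV4] at hm
    have hd : Nat.card (E ⊓ F : Subgroup G) ∣ 2 ^ 4 := by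
      have := card_dvd_of_le (inf_le_left : E ⊓ F ≤ E)
      rw [S.card_E] at this
      exact this
    have h16' : Nat.card (E ⊓ F : Subgroup G) ≠ 16 := fun h => hne (by
      have e1 : E ⊓ F = E := eq_of_le_of_card_ge inf_le_left (by rw [h, S.card_E])
      exact (eq_of_le_of_card_ge (inf_eq_left.1 e1) (by rw [h16, S.card_E])).symm)
    obtain ⟨i, hi, hc⟩ := (Nat.dvd_prime_pow Nat.prime_two).1 hd
    refine (eq_of_le_of_card_ge (le_inf inf_le_left hVF) ?_).symm
    rw [hV4]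
    rw [hc] at hm h16' ⊢
    interval_cases i <;> omega
  have i01 : E ⊓ E₁ = V := hinter _ hG1 h01
  have i02 : E ⊓ E₂ = V := hinter _ hG2 h02
  have i12 : E₁ ⊓ E₂ = V := by
    have e : E₁ ⊓ E₂ = (E ⊓ E₁).map (MulAut.conj w).toMonoidHom :=
      (Subgroup.map_inf _ _ _ (MulAut.conj w).injective).symm
    rw [e, i01]
    refine eq_of_le_of_card_ge ?_ (card_map_of_injective (MulAut.conj w).injective).ge
    rintro _ ⟨v, hv, rfl⟩
    exact hwV v hv
  obtain ⟨-, hsq0, hV0, hD0, hn0, hy0⟩ := hG0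
  obtain ⟨h161, hsq1, hV1, hD1, hn1, hy1⟩ := hG1
  obtain ⟨h162, hsq2, hV2, hD2, hn2, hy2⟩ := hG2
  have hp : ∀ F : Subgroup G, Nat.card F = 16 → IsPGroup 2 F := fun F h =>
    IsPGroup.of_card (n := 4) (by rw [h]; norm_num)
  have hN1 : E ≤ normalizer (E₁ : Set G) := fun a ha => mem_normalizer_of_conj (hn1 a (hD0 ha))
  have hN2 : E ⊔ E₁ ≤ normalizer (E₂ : Set G) := fun a ha =>
    mem_normalizer_of_conj (hn2 a (sup_le hD0 hD1 ha))
  have hP1 : IsPGroup 2 (E ⊔ E₁ : Subgroup G) := (hp E S.card_E).to_sup_of_normal_right' (hp E₁ h161) hN1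
  have hP2 : IsPGroup 2 (E ⊔ E₁ ⊔ E₂ : Subgroup G) := hP1.to_sup_of_normal_right' (hp E₂ h162) hN2
  have hsize : ∀ H : Subgroup G, IsPGroup 2 H → E ≤ H → H ≠ E → (∀ a ∈ H, y * a * y⁻¹ ∈ H) →
      Nat.card H = 64 := by
    intro H hH hEH hne hyH
    obtain ⟨n, hn⟩ := hH.exists_card_eq
    obtain ⟨m, hm⟩ := (hH.to_le (inf_le_left : H ⊓ centralizer ({y} : Set G) ≤ H)).exists_card_eq
    have h8 : ¬ 8 ∣ 2 ^ m := fun h =>
      not_eight_cent_three hL S.order_y ((hm.symm ▸ h).trans (card_dvd_of_le inf_le_right))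
    have h4 : 4 ∣ 2 ^ m := hm ▸ hV4 ▸ card_dvd_of_le (inf_le_inf_right _ hEH)
    have hm2 : m = 2 := by
      rcases Nat.lt_or_ge m 3 with h | h
      · interval_cases m <;> omega
      · exact absurd (Nat.pow_dvd_pow 2 h) h8
    have hmod := card_modEq_fixed hy3 hyH
    rw [hn, hm, hm2] at hmod
    have hd : 2 ^ n ∣ 10200960 := by rw [← hn, ← hL.card]; exact H.card_subgroup_dvd_card
    have hn7 : n ≤ 7 := by
      by_contra hc
      exact absurd ((Nat.pow_dvd_pow 2 (show 8 ≤ n by omega)).trans hd) (by norm_num)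
    have h16 : 16 < 2 ^ n := by
      rw [← hn, ← S.card_E]
      exact lt_of_le_of_ne (Nat.le_of_dvd Nat.card_pos (card_dvd_of_le hEH)) fun e =>
        hne (eq_of_le_of_card_ge hEH e.ge).symm
    rw [hn]
    interval_cases n <;> omega
  have hyP1 : ∀ a ∈ E ⊔ E₁, y * a * y⁻¹ ∈ E ⊔ E₁ := by
    intro a ha
    have : E ⊔ E₁ ≤ (E ⊔ E₁).comap (MulAut.conj y).toMonoidHom :=
      sup_le (fun b hb => mem_sup_left (hy0 b hb)) (fun b hb => mem_sup_right (hy1 b hb))
    exact this ha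
  have hyP2 : ∀ a ∈ E ⊔ E₁ ⊔ E₂, y * a * y⁻¹ ∈ E ⊔ E₁ ⊔ E₂ := by
    intro a ha
    have : E ⊔ E₁ ⊔ E₂ ≤ (E ⊔ E₁ ⊔ E₂).comap (MulAut.conj y).toMonoidHom :=
      sup_le (fun b hb => mem_sup_left (hyP1 b hb)) (fun b hb => mem_sup_right (hy2 b hb))
    exact this ha
  have hne1 : E ⊔ E₁ ≠ E := fun e => h01
    (eq_of_le_of_card_ge (e ▸ le_sup_right) (by rw [h161, S.card_E]))
  have hne2 : E ⊔ E₁ ⊔ E₂ ≠ E := fun e => h02
    (eq_of_le_of_card_ge (e ▸ le_sup_right) (by rw [h162, S.card_E]))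
  have heq : E ⊔ E₁ = E ⊔ E₁ ⊔ E₂ := eq_of_le_of_card_ge le_sup_left (by
    rw [hsize _ hP2 (le_sup_left.trans le_sup_left) hne2 hyP2, hsize _ hP1 le_sup_left hne1 hyP1])
  have hprod : ∀ e ∈ E₂, ∃ a ∈ E, ∃ b ∈ E₁, e = a * b := by
    intro e he
    have h : e ∈ ((E ⊔ E₁ : Subgroup G) : Set G) := heq.ge (mem_sup_right he)
    rw [coe_mul_of_left_le_normalizer_right _ _ hN1] at h
    obtain ⟨a, ha, b, hb, rfl⟩ := h
    exact ⟨a, ha, b, hb, rfl⟩
  have hi : ∀ F : Subgroup G, (∀ a ∈ F, a * a = 1) → ∀ a ∈ F, a⁻¹ = a := fun F h a ha =>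
    inv_eq_of_mul_eq_one_right (h a ha)
  have hcv : ∀ a ∈ E, ∀ b ∈ E₁, a * b * a * b ∈ V := by
    intro a ha b hb
    rw [← i01]
    refine ⟨?_, ?_⟩
    · have h := hn0 b (hD1 hb) a ha
      rw [hi E₁ hsq1 b hb] at h
      rw [mul_assoc a b a, mul_assoc a]
      exact mul_mem ha h
    · have h := hn1 a (hD0 ha) b hb
      rw [hi E hsq0 a ha] at h
      exact mul_mem h hb
  obtain ⟨v, hvV, hval, b, hb, e, he, hbe⟩ :=
    comm_values S.card_E h161 h162 hV4 hsq0 hsq1 hsq2 i01 i02 i12 hcv hprod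
  have hv1 : v = 1 := by
    obtain ⟨a', ha', rfl⟩ := hb
    obtain ⟨b', hb', rfl⟩ := he
    by_contra hne
    have hmap : w * (a' * b' * a' * b') * w⁻¹ = v := by
      rw [← hbe]
      simp [mul_assoc]
    rcases hval a' ha' b' hb' with h | h
    · rw [h, mul_one, mul_inv_cancel] at hmap
      exact hne hmap.symm
    · rw [h] at hmap
      exact hf1 v hvV hne hmap
  have hcomm : E₁ ≤ E := fun b hb => S.cent (mem_centralizer_iff.2 fun a ha => by
    have h1 : a * b * a * b = 1 := (hval a ha b hb).elim id (fun h => h.trans hv1)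
    have h2 : a * b = (a * b)⁻¹ := eq_inv_of_mul_eq_one_left (by rw [← mul_assoc]; exact h1)
    rw [h2, mul_inv_rev, hi E hsq0 a ha, hi E₁ hsq1 b hb])
  exact h01 (eq_of_le_of_card_ge hcomm (by rw [h161, S.card_E]))

omit hL [Fintype G] in
theorem cent_le_normalizer [Finite G] (S : Sixteen G) :
    centralizer ({S.t} : Set G) ≤ normalizer (S.E : Set G) := fun c hc => mem_normalizer_of_conj (S.conj_E c hc)

set_option maxHeartbeats 800000 in
/-- The normalizer of the group of order sixteen has order 40320 and fuses all its involutions. -/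
theorem normalizer_card (S : Sixteen G) : Nat.card (normalizer (S.E : Set G)) = 40320 ∧
    ∀ e ∈ S.E, e ≠ 1 → ∃ g ∈ normalizer (S.E : Set G), g * S.t * g⁻¹ = e := by
  classical
  haveI : Fact (Nat.Prime 7) := ⟨by norm_num⟩
  set N := normalizer (S.E : Set G) with hN
  set H : Subgroup (ConjAct G) := N.map ConjAct.toConjAct.toMonoidHom with hH
  set O := MulAction.orbit H S.t with hO
  have hOmem : ∀ e, e ∈ O ↔ ∃ g ∈ N, g * S.t * g⁻¹ = e := by
    intro e
    constructor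
    · rintro ⟨⟨_, g, hg, rfl⟩, rfl⟩
      exact ⟨g, hg, rfl⟩
    · rintro ⟨g, hg, rfl⟩
      exact ⟨⟨_, g, hg, rfl⟩, rfl⟩
  have hstab : Nat.card (MulAction.stabilizer H S.t) = 2688 := by
    rw [← cent_eq hL S.order_t]
    refine Nat.card_congr
      { toFun := fun h => ⟨ConjAct.ofConjAct ((h : H) : ConjAct G), mem_centralizer_singleton_iff.2 ?_⟩
        invFun := fun c => ⟨⟨ConjAct.toConjAct (c : G), (c : G), cent_le_normalizer S c.2, rfl⟩, ?_⟩
        left_inv := fun _ => rfl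
        right_inv := fun _ => rfl }
    · exact mul_inv_eq_iff_eq_mul.1 h.2
    · exact mul_inv_eq_iff_eq_mul.2 (mem_centralizer_singleton_iff.1 c.2)
  have hcard : Nat.card N = Nat.card O * 2688 := by
    have h1 := (MulAction.stabilizer H S.t).card_mul_index
    rw [MulAction.index_stabilizer, hstab, hH, card_map_of_injective ConjAct.toConjAct.injective,
      ← Nat.card_coe_set_eq, ← hH] at h1
    rw [← h1, mul_comm]
  have hOE : ∀ e ∈ O, e ∈ S.E ∧ e ≠ 1 := by
    intro e he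
    obtain ⟨g, hg, rfl⟩ := (hOmem e).1 he
    refine ⟨(hg S.t).1 S.t_mem, fun e1 => ?_⟩
    have h := S.order_t
    rw [conj_eq_one_iff.1 e1, orderOf_one] at h
    norm_num at h
  have hle : Nat.card O ≤ 15 := by
    have hsub : O ⊆ (S.E : Set G) \ {1} := fun e he => ⟨(hOE e he).1, (hOE e he).2⟩
    have h := Set.ncard_le_ncard hsub (Set.toFinite _)
    rw [Set.ncard_diff_singleton_of_mem (one_mem S.E), ← Nat.card_coe_set_eq, ← Nat.card_coe_set_eq] at h
    have h' : Nat.card O ≤ Nat.card S.E - 1 := h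
    rw [S.card_E] at h'
    exact h'
  have hdvd : Nat.card O * 2688 ∣ 10200960 := by rw [← hcard, ← hL.card]; exact N.card_subgroup_dvd_card
  have hxN : S.x ∈ N := cent_le_normalizer S (mem_centralizer_singleton_iff.2 S.comm_xt.eq)
  have hx7 : S.x ^ 7 = 1 := S.order_x ▸ pow_orderOf_eq_one S.x
  have hxO : ∀ e ∈ O, S.x * e * S.x⁻¹ ∈ O := fun e he => by
    obtain ⟨g, hg, rfl⟩ := (hOmem e).1 he
    exact (hOmem _).2 ⟨S.x * g, mul_mem hxN hg, by group⟩
  have htO : S.t ∈ O := MulAction.mem_orbit_self _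
  let σ : Equiv.Perm O := Equiv.ofBijective (fun e => (⟨S.x * e * S.x⁻¹, hxO e e.2⟩ : O))
    (Finite.injective_iff_bijective.1 fun a b h =>
      Subtype.ext (mul_left_cancel (mul_right_cancel (congrArg Subtype.val h))))
  have hit : ∀ (n : ℕ) (e : O), ((σ ^ n) e : G) = S.x ^ n * e * (S.x ^ n)⁻¹ := by
    intro n
    induction n with
    | zero => simp
    | succ n ih =>
      intro e
      rw [pow_succ', Equiv.Perm.mul_apply]
      show S.x * ((σ ^ n) e : G) * S.x⁻¹ = _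
      rw [ih, pow_succ']
      group
  have hmod := CfsgLib.KnownSimple.Order7920.perm_fixed_modEq σ
    (Equiv.ext fun e => Subtype.ext (by rw [hit, hx7]; simp) : σ ^ 7 = 1)
  have hone : Nat.card {e : O // σ e = e} = 1 := by
    rw [Nat.card_eq_one_iff_exists]
    refine ⟨⟨⟨S.t, htO⟩, Subtype.ext (mul_inv_eq_iff_eq_mul.2 S.comm_xt.eq)⟩, ?_⟩
    rintro ⟨⟨e, he⟩, hfix⟩
    obtain ⟨t', -, -, huniq⟩ := exists_seven_two hL S.order_x
    refine Subtype.ext (Subtype.ext ?_)
    show e = S.t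
    rw [huniq S.t S.order_t S.comm_xt.eq, huniq e (orderOf_eq_prime (by rw [sq]; exact S.sq_E e (hOE e he).1)
      (hOE e he).2) (mul_inv_eq_iff_eq_mul.1 (congrArg Subtype.val hfix))]
  rw [hone] at hmod
  have hne1 : Nat.card O ≠ 1 := fun e => by
    obtain ⟨g, hg, hgt⟩ := exists_moving hL S
    haveI := (Nat.card_eq_one_iff_unique.1 e).1
    exact hgt (congrArg Subtype.val (Subsingleton.elim
      (⟨_, (hOmem _).2 ⟨g, hg, rfl⟩⟩ : O) ⟨S.t, htO⟩))
  have h15 : Nat.card O = 15 := by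
    unfold Nat.ModEq at hmod
    interval_cases hh : Nat.card O <;> omega
  refine ⟨by rw [hcard, h15], fun e he he1 => (hOmem e).1 ?_⟩
  have hsub : O ⊆ (S.E : Set G) \ {1} := fun a ha => ⟨(hOE a ha).1, (hOE a ha).2⟩
  have heq : O = (S.E : Set G) \ {1} := Set.eq_of_subset_of_ncard_le hsub (by
    rw [Set.ncard_diff_singleton_of_mem (one_mem S.E), ← Nat.card_coe_set_eq, ← Nat.card_coe_set_eq, h15]
    change Nat.card S.E - 1 ≤ 15
    rw [S.card_E]) (Set.toFinite _)
  rw [heq]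
  exact ⟨he, he1⟩

end CfsgLib.MTwentyThreeUnique
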