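import Cfsg.Agent.Lib.MTwentyThreeUnique.Params
import Mathlib

/-!
An integral positive semidefinite form on the 253 points.
-/

set_option autoImplicit false
set_option linter.style.haveILetI false

noncomputable section

namespace CfsgLib.MTwentyThreeUnique

open Subgroup Cfsg
attribute [local instance] Classical.propDecidable

universe w

variable {G : Type w} [Group G] [Fintype G]

namespace Geo

variable (Γ : Geo G)

/-- The form: 56, -13, 10. -/
def F (x y : Γ.R.S.Pts) : ℤ := if x = y then 56 else if Γ.A x y then -13 else 10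

theorem F_self (x : Γ.R.S.Pts) : Γ.F x x = 56 := if_pos rfl

theorem F_adj {x y : Γ.R.S.Pts} (h : Γ.A x y) : Γ.F x y = -13 := by
  have hne : x ≠ y := fun e => Γ.A_irrefl y (e ▸ h)
  rw [F, if_neg hne, if_pos h]

theorem F_far {x y : Γ.R.S.Pts} (hne : x ≠ y) (h : ¬ Γ.A x y) : Γ.F x y = 10 := by
  rw [F, if_neg hne, if_neg h]

theorem F_smul (g : G) (x y : Γ.R.S.Pts) : Γ.F (g • x) (g • y) = Γ.F x y := by
  simp only [F, smul_left_cancel_iff, Γ.A_smul]

theorem F_symm (x y : Γ.R.S.Pts) : Γ.F x y = Γ.F y x := by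
  simp only [F]
  refine if_congr eq_comm rfl (if_congr ⟨Γ.A_symm, Γ.A_symm⟩ rfl rfl)

theorem F_eq (x y : Γ.R.S.Pts) :
    Γ.F x y = 46 * (if x = y then 1 else 0) - 23 * (if Γ.A x y then 1 else 0) + 10 := by
  by_cases h : x = y
  · subst h
    rw [F_self, if_pos rfl, if_neg (Γ.A_irrefl x)]
    norm_num
  · rw [F, if_neg h, if_neg h]
    split_ifs <;> norm_num

variable [Fintype Γ.R.S.Pts]

theorem sum_A (x : Γ.R.S.Pts) : ∑ y, (if Γ.A x y then (1 : ℤ) else 0) = 112 := by
  rw [Finset.sum_boole, ← Fintype.card_subtype, ← Nat.card_eq_fintype_card, Γ.A_out]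
  norm_num

theorem row_sum (x : Γ.R.S.Pts) : ∑ y, Γ.F x y = 0 := by
  simp only [F_eq, Finset.sum_add_distrib, Finset.sum_sub_distrib, ← Finset.mul_sum, Finset.sum_ite_eq,
    Finset.mem_univ, if_true, sum_A, Finset.sum_const, Finset.card_univ, ← Nat.card_eq_fintype_card, Γ.R.card_pts]
  norm_num

variable (hL : Local G)
include hL

theorem F_sq (x y : Γ.R.S.Pts) : ∑ z, Γ.F z x * Γ.F z y = 644 * Γ.F x y := by
  obtain ⟨h36, h60⟩ := Γ.srg hL
  have hAA : ∑ z, (if Γ.A x z then (1 : ℤ) else 0) * (if Γ.A y z then 1 else 0) = (Γ.common x y : ℤ) := by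
    simp only [ite_mul, one_mul, zero_mul, ← ite_and]
    rw [Finset.sum_boole, ← Fintype.card_subtype, ← Nat.card_eq_fintype_card]
    rfl
  have e : ∀ z, Γ.F z x * Γ.F z y = 46 * (if x = z then Γ.F z y else 0) + 10 * Γ.F y z -
      23 * (46 * (if y = z then (if Γ.A x z then (1 : ℤ) else 0) else 0)) +
      23 * (23 * ((if Γ.A x z then (1 : ℤ) else 0) * (if Γ.A y z then 1 else 0))) -
      230 * (if Γ.A x z then (1 : ℤ) else 0) := fun z => by
    rw [Γ.F_symm z x, Γ.F_symm z y, F_eq, F_eq]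
    split_ifs <;> ring
  rw [Finset.sum_congr rfl fun z _ => e z]
  simp only [Finset.sum_sub_distrib, Finset.sum_add_distrib, ← Finset.mul_sum, Finset.sum_ite_eq,
    Finset.mem_univ, if_true, row_sum, sum_A, hAA]
  by_cases hxy : x = y
  · subst hxy
    rw [F_self, if_neg (Γ.A_irrefl x), Γ.common_self]
    norm_num
  by_cases h : Γ.A x y
  · rw [F_adj Γ h, if_pos h, h36 x y h]
    norm_num
  · rw [F_far Γ hxy h, if_neg h, h60 x y hxy h]
    norm_num

/-- A combination of points has non-negative value, and value zero only if it is killed by the form. -/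
theorem quad {ι : Type*} [Fintype ι] (p : ι → Γ.R.S.Pts) (w : ι → ℤ) :
    0 ≤ ∑ i, ∑ j, w i * w j * Γ.F (p i) (p j) ∧
      (∑ i, ∑ j, w i * w j * Γ.F (p i) (p j) = 0 → ∀ z, ∑ i, w i * Γ.F z (p i) = 0) := by
  have h : ∑ z, (∑ i, w i * Γ.F z (p i)) * (∑ j, w j * Γ.F z (p j)) =
      644 * ∑ i, ∑ j, w i * w j * Γ.F (p i) (p j) := by
    simp only [Finset.sum_mul_sum]
    simp only [Finset.mul_sum]
    rw [Finset.sum_comm]
    refine Finset.sum_congr rfl fun i _ => ?_
    rw [Finset.sum_comm]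
    refine Finset.sum_congr rfl fun j _ => ?_
    rw [mul_left_comm (644 : ℤ), ← Γ.F_sq hL, Finset.mul_sum]
    exact Finset.sum_congr rfl fun z _ => by ring
  have hnn : 0 ≤ ∑ z, (∑ i, w i * Γ.F z (p i)) * (∑ j, w j * Γ.F z (p j)) :=
    Finset.sum_nonneg fun z _ => mul_self_nonneg _
  refine ⟨by rw [h] at hnn; omega, fun h0 z => ?_⟩
  rw [h0, mul_zero] at h
  exact mul_self_eq_zero.1
    ((Finset.sum_eq_zero_iff_of_nonneg fun z _ => mul_self_nonneg _).1 h z (Finset.mem_univ z))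

end Geo

end CfsgLib.MTwentyThreeUnique
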