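import Cfsg.Agent.Lib.MTwentyThreeUnique.Triples
import Mathlib

/-!
A subgroup of index 23: the stabiliser of a vector attached to two neighbouring points.
-/

set_option autoImplicit false
set_option linter.style.haveILetI false

noncomputable section

namespace CfsgLib.MTwentyThreeUnique

open Subgroup Cfsg
attribute [local instance] Classical.propDecidable

universe w

variable {G : Type w} [Group G] [Fintype G]

namespace Geo

variable (Γ : Geo G) [Fintype Γ.R.S.Pts]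

/-- The vector of the pair. -/
def vec (z : Γ.R.S.Pts) : ℤ := 6 * Γ.F z Γ.R.base + ∑ e : Γ.R.S.E, Γ.F z ((e : G) • Γ.b)

theorem vec_base : Γ.vec Γ.R.base = 128 := by
  rw [vec, F_self, Finset.sum_congr rfl (g := fun _ => (-13 : ℤ)) fun (e : Γ.R.S.E) _ => Γ.F_adj ((Γ.A_base _).2
      ⟨(e : G), Subgroup.le_normalizer e.2, rfl⟩), Finset.sum_const, Finset.card_univ, ← Nat.card_eq_fintype_card,
    Γ.R.S.card_E]
  norm_num

theorem vec_sum : ∑ z, Γ.vec z = 0 := by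
  have h : ∀ y, ∑ z, Γ.F z y = 0 := fun y => by
    rw [← Γ.row_sum y]
    exact Finset.sum_congr rfl fun z _ => Γ.F_symm z y
  simp only [vec]
  rw [Finset.sum_add_distrib, ← Finset.mul_sum, h, Finset.sum_comm, Finset.sum_eq_zero fun e _ => h _]
  norm_num

theorem vec_E {a : G} (ha : a ∈ Γ.R.S.E) (z : Γ.R.S.Pts) : Γ.vec (a • z) = Γ.vec z := by
  rw [vec, vec]
  congr 1
  · conv_lhs => rw [← Γ.R.smul_base.2 (Subgroup.le_normalizer (H := Γ.R.S.E) ha), F_smul]
  · refine Fintype.sum_equiv (Equiv.mulLeft (⟨a, ha⟩ : Γ.R.S.E)) _ _ fun e => ?_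
    show Γ.F (a • z) ((e : G) • Γ.b) = Γ.F z ((a * (e : G)) • Γ.b)
    rw [← Γ.F_smul a z, mul_smul, ← mul_smul a a, Γ.R.S.sq_E a ha, one_smul]

theorem vec_L {l : G} (hl : l ∈ Γ.L) (z : Γ.R.S.Pts) : Γ.vec (l • z) = Γ.vec z := by
  rw [vec, vec]
  congr 1
  · conv_lhs => rw [← hl.1, F_smul]
  · refine (Fintype.sum_equiv
      { toFun := fun e : Γ.R.S.E => (⟨l * e * l⁻¹, Γ.R.normal (Γ.L_le_N hl) e.2⟩ : Γ.R.S.E)
        invFun := fun e : Γ.R.S.E => ⟨l⁻¹ * e * l, by simpa using Γ.R.normal (inv_mem (Γ.L_le_N hl)) e.2⟩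
        left_inv := fun e => Subtype.ext (by show l⁻¹ * (l * (e : G) * l⁻¹) * l = e; group)
        right_inv := fun e => Subtype.ext (by show l * (l⁻¹ * (e : G) * l) * l⁻¹ = e; group) } _ _ fun e => ?_).symm
    show Γ.F z ((e : G) • Γ.b) = Γ.F (l • z) ((l * e * l⁻¹) • Γ.b)
    conv_rhs => arg 3; rw [← hl.2]
    rw [← mul_smul, inv_mul_cancel_right, mul_smul, F_smul]

/-- The stabiliser of the vector. -/
def H : Subgroup G where
  carrier := {g | ∀ z, Γ.vec (g • z) = Γ.vec z}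
  one_mem' := fun z => by rw [one_smul]
  mul_mem' := fun {a b} ha hb z => by rw [mul_smul, ha, hb]
  inv_mem' := fun {a} ha z => by
    have := ha (a⁻¹ • z)
    rwa [smul_inv_smul, eq_comm] at this

variable (hL : Local G)
include hL

theorem sum_F_class (f : Γ.R.S.E) : ∑ e : Γ.R.S.E, Γ.F ((f : G) • Γ.b) ((e : G) • Γ.b) = 206 := by
  rw [← Finset.add_sum_erase _ _ (Finset.mem_univ f), F_self,
    Finset.sum_congr rfl (g := fun _ => (10 : ℤ)) fun e he => ?_, Finset.sum_const,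
    Finset.card_erase_of_mem (Finset.mem_univ _), Finset.card_univ, ← Nat.card_eq_fintype_card, Γ.R.S.card_E]
  · norm_num
  have hfe : (f : G) * e ≠ 1 := fun h => Finset.ne_of_mem_erase he (Subtype.ext (by
    rw [← one_mul (e : G), ← Γ.R.S.sq_E _ f.2, mul_assoc, h, mul_one]))
  refine Γ.F_far (fun h => hfe ?_) fun h => Γ.no_adj_class hL (mul_mem f.2 e.2) hfe ?_
  · refine Γ.free_b (mul_mem f.2 e.2) ?_
    rw [mul_smul, ← h, ← mul_smul, Γ.R.S.sq_E _ f.2, one_smul]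
  · have h' := (Γ.A_smul (f : G) _ _).2 h
    rwa [← mul_smul, ← mul_smul, Γ.R.S.sq_E _ f.2, one_smul] at h'

theorem sum_cross {h : G} (hb : h • Γ.R.base = Γ.b) (hc : h • Γ.b = Γ.R.base) :
    ∑ e : Γ.R.S.E, ∑ f : Γ.R.S.E, Γ.F ((e : G) • Γ.b) (h • (f : G) • Γ.b) = 812 := by
  classical
  rw [Finset.sum_comm, ← Finset.add_sum_erase _ _ (Finset.mem_univ (1 : Γ.R.S.E))]
  have h1 : ∑ e : Γ.R.S.E, Γ.F ((e : G) • Γ.b) (h • ((1 : Γ.R.S.E) : G) • Γ.b) = -208 := by
    rw [Finset.sum_congr rfl (g := fun _ => (-13 : ℤ)) fun e _ => ?_, Finset.sum_const, Finset.card_univ,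
      ← Nat.card_eq_fintype_card, Γ.R.S.card_E]
    · norm_num
    rw [Subgroup.coe_one, one_smul, hc, F_symm]
    exact Γ.F_adj ((Γ.A_base _).2 ⟨(e : G), Subgroup.le_normalizer e.2, rfl⟩)
  have h2 : ∀ f ∈ (Finset.univ : Finset Γ.R.S.E).erase 1,
      ∑ e : Γ.R.S.E, Γ.F ((e : G) • Γ.b) (h • (f : G) • Γ.b) = 68 := by
    intro f hf
    obtain ⟨r1, r2, r3⟩ := Γ.nadj_swap hL hb hc f.2 (fun e => Finset.ne_of_mem_erase hf (Subtype.ext (by rw [e, Subgroup.coe_one])))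
    set d := h • (f : G) • Γ.b with hd
    rw [Γ.nadj_q₀, Nat.card_eq_fintype_card, Fintype.card_subtype] at r3
    have hval : ∀ e : Γ.R.S.E, Γ.F ((e : G) • Γ.b) d = if Γ.A d ((e : G) • Γ.b) then -13 else 10 := fun e => by
      have hne : (e : G) • Γ.b ≠ d := fun h' => r2 ⟨e, Subgroup.le_normalizer e.2, h'⟩
      split_ifs with hA
      · exact Γ.F_adj (Γ.A_symm hA)
      · exact Γ.F_far hne fun h' => hA (Γ.A_symm h')
    rw [Finset.sum_congr rfl fun e _ => hval e, Finset.sum_ite, Finset.sum_const, Finset.sum_const, r3,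
      Finset.filter_not, Finset.card_sdiff, Finset.inter_univ, r3, Finset.card_univ, ← Nat.card_eq_fintype_card,
      Γ.R.S.card_E]
    norm_num
  rw [h1, Finset.sum_congr rfl h2, Finset.sum_const, Finset.card_erase_of_mem (Finset.mem_univ _), Finset.card_univ,
    ← Nat.card_eq_fintype_card, Γ.R.S.card_E]
  norm_num

theorem mem_H_swap {h : G} (hb : h • Γ.R.base = Γ.b) (hc : h • Γ.b = Γ.R.base) : h ∈ Γ.H := by
  classical
  let ι := (Unit ⊕ Γ.R.S.E) ⊕ (Unit ⊕ Γ.R.S.E)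
  let p : ι → Γ.R.S.Pts := Sum.elim (Sum.elim (fun _ => Γ.R.base) fun e => (e : G) • Γ.b)
    (Sum.elim (fun _ => Γ.b) fun e => h • (e : G) • Γ.b)
  let w : ι → ℤ := Sum.elim (Sum.elim (fun _ => 6) fun _ => 1) (Sum.elim (fun _ => -6) fun _ => -1)
  have e00 : Γ.F Γ.R.base Γ.b = -13 := Γ.F_adj ((Γ.A_base _).2 (RankData.Orb.refl Γ.R Γ.b))
  have e01 : ∀ e : Γ.R.S.E, Γ.F Γ.R.base ((e : G) • Γ.b) = -13 := fun e =>
    Γ.F_adj ((Γ.A_base _).2 ⟨e, Subgroup.le_normalizer e.2, rfl⟩)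
  have e01' : ∀ e : Γ.R.S.E, Γ.F ((e : G) • Γ.b) Γ.R.base = -13 := fun e => by rw [F_symm, e01]
  have e11 : ∀ e : Γ.R.S.E, ∑ f : Γ.R.S.E, Γ.F ((e : G) • Γ.b) ((f : G) • Γ.b) = 206 := Γ.sum_F_class hL
  have e1b : ∑ e : Γ.R.S.E, Γ.F ((e : G) • Γ.b) Γ.b = 206 := by
    have h1 := e11 1
    rw [Subgroup.coe_one, one_smul] at h1
    rw [← h1]
    exact Finset.sum_congr rfl fun e _ => Γ.F_symm _ _
  have e1b' : ∑ e : Γ.R.S.E, Γ.F Γ.b ((e : G) • Γ.b) = 206 := by
    rw [← e1b]; exact Finset.sum_congr rfl fun e _ => Γ.F_symm _ _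
  have f01 : ∀ e : Γ.R.S.E, Γ.F Γ.b (h • (e : G) • Γ.b) = -13 := fun e => by
    conv_lhs => arg 2; rw [← hb]
    rw [F_smul, e01]
  have f01' : ∀ e : Γ.R.S.E, Γ.F (h • (e : G) • Γ.b) Γ.b = -13 := fun e => by rw [F_symm, f01]
  have g01 : ∑ e : Γ.R.S.E, Γ.F Γ.R.base (h • (e : G) • Γ.b) = 206 := by
    rw [← e1b']
    refine Finset.sum_congr rfl fun e _ => ?_
    conv_lhs => arg 2; rw [← hc]
    rw [F_smul]
  have g01' : ∑ e : Γ.R.S.E, Γ.F (h • (e : G) • Γ.b) Γ.R.base = 206 := by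
    rw [← g01]; exact Finset.sum_congr rfl fun e _ => Γ.F_symm _ _
  have f11 : ∀ e : Γ.R.S.E, ∑ f : Γ.R.S.E, Γ.F (h • (e : G) • Γ.b) (h • (f : G) • Γ.b) = 206 := fun e => by
    rw [← e11 e]; exact Finset.sum_congr rfl fun f _ => Γ.F_smul _ _ _
  have g11 := Γ.sum_cross hL hb hc
  have g11' : ∑ e : Γ.R.S.E, ∑ f : Γ.R.S.E, Γ.F (h • (e : G) • Γ.b) ((f : G) • Γ.b) = 812 := by
    rw [← g11, Finset.sum_comm]
    exact Finset.sum_congr rfl fun e _ => Finset.sum_congr rfl fun f _ => Γ.F_symm _ _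
  have hQ : ∑ i, ∑ j, w i * w j * Γ.F (p i) (p j) = 0 := by
    simp only [ι, p, w, Fintype.sum_sum_type, Sum.elim_inl, Sum.elim_inr, Finset.univ_unique, Finset.sum_singleton,
      Finset.sum_add_distrib, ← Finset.mul_sum, F_self, Γ.F_symm Γ.b Γ.R.base, e00, e01, e01', e11, e1b, e1b',
      f01, f01', g01, g01', f11, g11, g11', Finset.sum_const, Finset.card_univ, ← Nat.card_eq_fintype_card,
      Γ.R.S.card_E]
    norm_num
    simp only [g01', e1b]
    norm_num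
  have hv := (Γ.quad hL p w).2 hQ
  intro z
  have h2 := hv (h • z)
  simp only [ι, p, w, Fintype.sum_sum_type, Sum.elim_inl, Sum.elim_inr, Finset.univ_unique, Finset.sum_singleton,
    ← Finset.mul_sum, F_smul] at h2
  have eb : Γ.F (h • z) Γ.b = Γ.F z Γ.R.base := by rw [← hb, F_smul]
  rw [eb] at h2
  rw [vec, vec]
  linarith

set_option maxHeartbeats 800000 in
/-- The stabiliser has index 23, meets the point stabiliser in the class stabiliser. -/
theorem index_H : Γ.H.index = 23 ∧ Γ.H ⊓ Γ.R.S.N = Γ.K := by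
  classical
  haveI := Γ.R.simple
  obtain ⟨h, hb, hc⟩ := Γ.exists_swap
  have hh := Γ.mem_H_swap hL hb hc
  have hEH : Γ.R.S.E ≤ Γ.H := fun a ha z => Γ.vec_E ha z
  have hKH : Γ.K ≤ Γ.H := sup_le hEH fun l hl z => Γ.vec_L hl z
  have hne : Γ.H ≠ ⊤ := by
    intro htop
    have hconst : ∀ z, Γ.vec z = 128 := fun z => by
      obtain ⟨g, rfl⟩ := Γ.R.exists_smul z
      rw [(show g ∈ Γ.H from htop ▸ mem_top g) Γ.R.base, Γ.vec_base]
    have := Γ.vec_sum
    simp only [hconst, Finset.sum_const, Finset.card_univ, ← Nat.card_eq_fintype_card, Γ.R.card_pts] at this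
    norm_num at this
  set O := MulAction.orbit Γ.H Γ.R.base with hO
  have hmemO : ∀ g ∈ Γ.H, g • Γ.R.base ∈ O := fun g hg => ⟨⟨g, hg⟩, rfl⟩
  have hswapO : ∀ e : Γ.R.S.E, (e : G) • Γ.b ∈ O ∧ h • (e : G) • Γ.b ∈ O := fun e => by
    constructor
    · rw [← hb, ← mul_smul]; exact hmemO _ (mul_mem (hEH e.2) hh)
    · rw [← hb, ← mul_smul, ← mul_smul]; exact hmemO _ (mul_mem (mul_mem hh (hEH e.2)) hh)
  have hst : Nat.card (MulAction.stabilizer Γ.H Γ.R.base) = Nat.card (Γ.H ⊓ Γ.R.S.N : Subgroup G) :=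
    Nat.card_congr
      { toFun := fun g => ⟨((g : Γ.H) : G), (g : Γ.H).2, Γ.R.smul_base.1 g.2⟩
        invFun := fun g => ⟨⟨g, g.2.1⟩, Γ.R.smul_base.2 g.2.2⟩
        left_inv := fun _ => rfl
        right_inv := fun _ => rfl }
  have hcard : Nat.card Γ.H = Nat.card (Γ.H ⊓ Γ.R.S.N : Subgroup G) * O.ncard := by
    have h1 := (MulAction.stabilizer Γ.H Γ.R.base).card_mul_index
    rw [MulAction.index_stabilizer, hst, ← hO] at h1
    exact h1.symm
  have hidx := Γ.H.card_mul_index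
  rw [hL.card] at hidx
  have hO253 : O.ncard ≤ 253 := by
    rw [← Γ.R.card_pts, ← Set.ncard_univ]
    exact Set.ncard_le_ncard (Set.subset_univ _) (Set.toFinite _)
  have hKN : Γ.K ≤ Γ.H ⊓ Γ.R.S.N := le_inf hKH Γ.K_le_N
  have hinf : Γ.H ⊓ Γ.R.S.N = Γ.K := by
    obtain ⟨i, hi⟩ := card_dvd_of_le hKN
    rw [Γ.card_K] at hi
    have hd : Nat.card (Γ.H ⊓ Γ.R.S.N : Subgroup G) ∣ 40320 := Γ.R.card_N ▸ card_dvd_of_le inf_le_right
    rw [hi] at hd
    have h7 : i ∣ 7 := (Nat.mul_dvd_mul_iff_left (by norm_num)).1 (show 5760 * i ∣ 5760 * 7 by simpa using hd)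
    rcases (Nat.dvd_prime (by norm_num)).1 h7 with rfl | rfl
    · exact (eq_of_le_of_card_ge hKN (by rw [hi, Γ.card_K])).symm
    exfalso
    have hN : Γ.R.S.N ≤ Γ.H := by
      have e : Γ.H ⊓ Γ.R.S.N = Γ.R.S.N := eq_of_le_of_card_ge inf_le_right (by rw [hi, Γ.R.card_N])
      exact inf_eq_right.1 e
    refine hne ?_
    obtain ⟨f, hf, hf1⟩ : ∃ f ∈ Γ.R.S.E, f ≠ 1 := ⟨Γ.R.S.t, Γ.R.S.t_mem, fun e => by
      have := Γ.R.S.order_t; rw [e, orderOf_one] at this; norm_num at this⟩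
    obtain ⟨r1, r2, -⟩ := Γ.nadj_swap hL hb hc hf hf1
    have hall : ∀ z, z ∈ O := by
      intro z
      by_cases hz : z = Γ.R.base
      · rw [hz]; exact MulAction.mem_orbit_self _
      by_cases hz2 : Γ.R.Orb Γ.b z
      · obtain ⟨n, hn, rfl⟩ := hz2
        rw [← hb, ← mul_smul]
        exact hmemO _ (mul_mem (show n ∈ Γ.H from hN hn) hh)
      · obtain ⟨n, hn, rfl⟩ := Γ.rest_trans _ z r1 r2 hz hz2
        rw [← hb, ← mul_smul, ← mul_smul, ← mul_smul]
        exact hmemO _ (mul_mem (mul_mem (mul_mem (show n ∈ Γ.H from hN hn) hh) (hEH hf)) hh)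
    have hOc : O.ncard = 253 := by
      rw [Set.eq_univ_of_forall hall, Set.ncard_univ, Γ.R.card_pts]
    rw [hcard, hi, hOc] at hidx
    exact Subgroup.index_eq_one.1 (by omega)
  refine ⟨?_, hinf⟩
  rw [hinf, Γ.card_K] at hcard
  rw [hcard] at hidx
  have h16 : 16 ≤ O.ncard := by
    let φ : Γ.R.S.E → Γ.R.S.Pts := fun e => h • (e : G) • Γ.b
    have hφ : Function.Injective φ := fun a c e => by
      have h1 := congrArg (fun v => (c : G) • v) (smul_left_cancel h e)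
      simp only [← mul_smul, Γ.R.S.sq_E _ c.2, one_smul] at h1
      have h2 := Γ.free_b (mul_mem c.2 a.2) h1
      exact Subtype.ext (by rw [← one_mul (a : G), ← Γ.R.S.sq_E _ c.2, mul_assoc, h2, mul_one] : (a : G) = c)
    have h1 : (Set.range φ).ncard = 16 := by
      rw [Set.ncard_range_of_injective hφ, Γ.R.S.card_E]
    rw [← h1]
    exact Set.ncard_le_ncard (by rintro _ ⟨e, rfl⟩; exact (hswapO e).2) (Set.toFinite _)
  have h4 : O.ncard % 4 = 1 := by
    let Z : Set Γ.R.S.Pts := O \ {Γ.R.base}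
    have hbase : ∀ a : Γ.R.S.E, (a : G) • Γ.R.base = Γ.R.base := fun a =>
      Γ.R.smul_base.2 (Subgroup.le_normalizer a.2)
    letI : MulAction Γ.R.S.E Z :=
      { smul := fun a z => ⟨(a : G) • (z : Γ.R.S.Pts), by
          obtain ⟨g, hg⟩ := z.2.1
          rw [← hg]
          show (a : G) • (g : G) • Γ.R.base ∈ O
          rw [← mul_smul]
          exact hmemO _ (mul_mem (hEH a.2) g.2), fun e => z.2.2 (by
            rw [Set.mem_singleton_iff] at e ⊢
            exact smul_left_cancel (a : G) (e.trans (hbase a).symm))⟩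
        one_smul := fun z => Subtype.ext (by show ((1 : Γ.R.S.E) : G) • (z : Γ.R.S.Pts) = z; simp)
        mul_smul := fun a c z => Subtype.ext (by
          show ((a * c : Γ.R.S.E) : G) • (z : Γ.R.S.Pts) = (a : G) • (c : G) • (z : Γ.R.S.Pts)
          rw [Subgroup.coe_mul, mul_smul]) }
    have horb : ∀ z : Z, 4 ∣ Nat.card (MulAction.orbit Γ.R.S.E z) := fun z => by
      have h1 := (MulAction.stabilizer Γ.R.S.E z).card_mul_index
      rw [MulAction.index_stabilizer, ← Nat.card_coe_set_eq, Γ.R.S.card_E] at h1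
      have hs : Nat.card (MulAction.stabilizer Γ.R.S.E z) = Γ.R.fixE z :=
        Nat.card_congr (Equiv.subtypeEquivRight fun a => ⟨fun e => congrArg Subtype.val e, fun e => Subtype.ext e⟩)
      rw [hs] at h1
      by_cases hz2 : Γ.R.Orb Γ.b z
      · obtain ⟨n, hn, e⟩ := hz2
        rw [← e, Γ.R.fixE_smul hn, Γ.fix_b, one_mul] at h1
        rw [h1]; norm_num
      · rw [Γ.fix_rest _ (fun e => z.2.2 e) hz2] at h1
        exact ⟨1, by omega⟩
    haveI : Fintype (MulAction.orbitRel.Quotient Γ.R.S.E Z) := Fintype.ofFinite _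
    have h4Z : 4 ∣ Nat.card Z := by
      rw [Nat.card_congr (MulAction.selfEquivSigmaOrbits Γ.R.S.E Z), Nat.card_sigma]
      exact Finset.dvd_sum fun q _ => horb _
    rw [Nat.card_coe_set_eq, Set.ncard_sdiff_singleton_of_mem (MulAction.mem_orbit_self _)] at h4Z
    rw [← hO] at h4Z
    have hpos : 0 < O.ncard := (Set.ncard_pos (Set.toFinite _)).2 ⟨_, MulAction.mem_orbit_self _⟩
    omega
  have hd : O.ncard ∣ 1771 := by
    refine ⟨Γ.H.index, ?_⟩
    have e : 5760 * (O.ncard * Γ.H.index) = 5760 * 1771 := by rw [← mul_assoc, hidx]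
    exact (Nat.eq_of_mul_eq_mul_left (by norm_num) e).symm
  have key : ∀ k ∈ List.range 254, 16 ≤ k → k % 4 = 1 → 1771 % k = 0 → k = 77 ∨ k = 161 ∨ k = 253 := by
    decide +kernel
  have hsmall : Γ.H.index ≠ 7 ∧ Γ.H.index ≠ 11 := by
    have hinj : Function.Injective (MulAction.toPermHom G (G ⧸ Γ.H)) := by
      rw [← MonoidHom.ker_eq_bot_iff, ← Subgroup.normalCore_eq_ker]
      refine (Subgroup.Normal.eq_bot_or_eq_top (H := Γ.H.normalCore) inferInstance).resolve_right fun ht => hne ?_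
      exact eq_top_iff.2 (ht ▸ Γ.H.normalCore_le)
    have h := Subgroup.card_dvd_of_injective _ hinj
    rw [Nat.card_perm, hL.card, ← Subgroup.index] at h
    constructor <;> intro e <;> rw [e] at h <;> norm_num [Nat.factorial] at h
  obtain ⟨q, hq⟩ := hd
  rcases key O.ncard (List.mem_range.2 (by omega)) h16 h4 (Nat.mod_eq_zero_of_dvd ⟨q, hq⟩) with e | e | e <;>
    rw [e] at hidx <;> omega

end Geo

end CfsgLib.MTwentyThreeUnique
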