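import Mathlib

/-!
The values at an involution: the finite search.
-/

set_option autoImplicit false

namespace CfsgLib.MTwentyThreeUnique

/-- The conditions on the value at an involution of a non-trivial character. -/
def validInv (d : ℕ) (v : ℤ) : Bool :=
  decide (v * v < 2688 ∧ v * v < (d : ℤ) * d ∧ ((d : ℤ) - v) % 4 = 0 ∧ ((3795 : ℤ) * v) % (d : ℤ) = 0)

/-- The possible values at an involution. -/
def invList (d : ℕ) : List ℤ :=
  ((List.range 103).map fun i : ℕ => (i : ℤ) - 51).filter (validInv d)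

theorem mem_invList {d : ℕ} {v : ℤ} (h : validInv d v = true) : v ∈ invList d := by
  have h' : v * v < 2688 := by
    simp only [validInv, decide_eq_true_eq] at h; exact h.1
  have h1 : -51 ≤ v ∧ v ≤ 51 := ⟨by nlinarith, by nlinarith⟩
  refine List.mem_filter.mpr ⟨List.mem_map.mpr ⟨(v + 51).toNat, List.mem_range.mpr ?_, ?_⟩, h⟩
  · omega
  · omega

/-- The conditions on all the values. -/
def validInvAll (a b e k g c₁ c₂ c₃ h : ℤ) : Bool :=
  let u := 1 - a - 2 * b + c₁ + c₂ + c₃ + 2 * g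
  let S := 1 + 22 * a + 90 * b + 230 * e + 231 * (c₁ + c₂ + c₃) + 253 * h + 1540 * u + 1980 * g + 1035 * k
  let z := -S / 2024
  validInv 770 u && validInv 2024 z && decide (S % 2024 = 0 ∧
    443520 - 20160 * a * a - 19712 * b * b + 1920 * (c₁ * c₁ + c₂ * c₂ + c₃ * c₃) + 896 * g * g -
      576 * u * u = 0 ∧
    1 + a * a + 2 * (b * b) + e * e + k * k + 2 * (g * g) + c₁ * c₁ + c₂ * c₂ + c₃ * c₃ + h * h + 2 * (u * u) +
      z * z = 2688)

set_option synthInstance.maxSize 8192 in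
set_option synthInstance.maxHeartbeats 400000 in
set_option maxRecDepth 8000 in
theorem search_invol : ∀ b ∈ invList 45, ∀ k ∈ invList 1035, validInv 230 (1 + 2 * b + k) = true →
    927360 + 41216 * b * b - 4032 * (1 + 2 * b + k) * (1 + 2 * b + k) + 896 * k * k = 0 →
    ∀ a ∈ invList 22, ∀ g ∈ invList 990,
    1 + a * a + 2 * (b * b) + k * k + 2 * (g * g) < 2688 →
    ∀ c₁ ∈ invList 231, ∀ c₂ ∈ invList 231, ∀ c₃ ∈ invList 231,
    validInv 770 (1 - a - 2 * b + c₁ + c₂ + c₃ + 2 * g) = true →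
    ∀ h ∈ invList 253, validInvAll a b (1 + 2 * b + k) k g c₁ c₂ c₃ h = true →
      a = 6 ∧ b = -3 ∧ k = 27 ∧ g = -18 ∧ c₁ = 7 ∧ c₂ = 7 ∧ c₃ = 7 ∧ h = 13 := by
  decide +kernel

end CfsgLib.MTwentyThreeUnique
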