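import Cfsg.Agent.Lib.MTwentyThreeUnique.Table
import Cfsg.Agent.Lib.MTwentyThreeUnique.InvSearch
import Mathlib

/-!
One class of involutions, with centraliser of order 2688, and the values there.
-/

set_option autoImplicit false
set_option linter.style.haveILetI false

noncomputable section

namespace CfsgLib.MTwentyThreeUnique

open Subgroup CfsgLib.InvolChar Cfsg
open CfsgLib.MTwelveUnique (nu nu_eq_zero nu_cases card_sq_roots)
open scoped ComplexConjugate
attribute [local instance] Classical.propDecidable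

variable {G : Type*} [Group G] [Fintype G]

/-- The values of the seventeen characters at an involution. -/
structure InvVals (T : Table G) (t : G) : Prop where
  cent : Nat.card (centralizer ({t} : Set G)) = 2688
  va : (T.a : G → ℂ) t = 6
  vθ : (T.θ : G → ℂ) t = -3
  vθ' : (T.θ' : G → ℂ) t = -3
  ve : (T.e : G → ℂ) t = 22
  vc : (T.c : G → ℂ) t = 7
  vc' : (T.c' : G → ℂ) t = 7
  vc'' : (T.c'' : G → ℂ) t = 7
  vh : (T.h : G → ℂ) t = 13
  vu : (T.u : G → ℂ) t = -14
  vu' : (T.u' : G → ℂ) t = -14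
  vq : (T.q : G → ℂ) t = 0
  vq' : (T.q' : G → ℂ) t = 0
  vg : (T.g : G → ℂ) t = -18
  vg' : (T.g' : G → ℂ) t = -18
  vk : (T.k : G → ℂ) t = 27
  vz : (T.z : G → ℂ) t = 8

variable (hL : Local G)
include hL

/-- A prime with a small centraliser does not divide the centraliser of an involution. -/
theorem not_dvd_cent {p c : ℕ} [Fact p.Prime] (hc : ¬ 2 ∣ c)
    (hloc : ∀ x : G, orderOf x = p → Nat.card (centralizer ({x} : Set G)) = c) {t : G} (ht : orderOf t = 2) :
    ¬ p ∣ Nat.card (centralizer ({t} : Set G)) := by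
  intro h
  obtain ⟨x, hx⟩ := exists_prime_orderOf_dvd_card' (G := centralizer ({t} : Set G)) p h
  have hxG : orderOf (x : G) = p := by rw [Subgroup.orderOf_coe, hx]
  have hmem : t ∈ centralizer ({(x : G)} : Set G) :=
    mem_centralizer_singleton_iff.mpr (mem_centralizer_singleton_iff.mp x.2).symm
  have hd := Subgroup.orderOf_dvd_natCard (s := centralizer ({(x : G)} : Set G)) hmem
  rw [hloc _ hxG, ht] at hd
  exact hc hd

/-- The order of the centraliser of an involution avoids 5, 11 and 23. -/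
theorem cent_dvd {t : G} (ht : orderOf t = 2) : Nat.card (centralizer ({t} : Set G)) ∣ 8064 := by
  haveI : Fact (Nat.Prime 5) := ⟨by norm_num⟩
  haveI : Fact (Nat.Prime 11) := ⟨by norm_num⟩
  haveI : Fact (Nat.Prime 23) := ⟨by norm_num⟩
  have h5 := not_dvd_cent hL (p := 5) (c := 15) (by norm_num) (fun x hx => (hL.five x hx).1) ht
  have h11 := not_dvd_cent hL (p := 11) (c := 11) (by norm_num) (fun x hx => (hL.eleven x hx).1) ht
  have h23 := not_dvd_cent hL (p := 23) (c := 23) (by norm_num) (fun x hx => (hL.twentyThree x hx).1) ht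
  have hd : Nat.card (centralizer ({t} : Set G)) ∣ 8064 * 5 * 11 * 23 := by
    have := Subgroup.card_subgroup_dvd_card (centralizer ({t} : Set G))
    rwa [hL.card] at this
  have e1 := (((Nat.Prime.coprime_iff_not_dvd (by norm_num : Nat.Prime 23)).mpr h23).symm).dvd_of_dvd_mul_right hd
  have e2 := (((Nat.Prime.coprime_iff_not_dvd (by norm_num : Nat.Prime 11)).mpr h11).symm).dvd_of_dvd_mul_right e1
  exact (((Nat.Prime.coprime_iff_not_dvd (by norm_num : Nat.Prime 5)).mpr h5).symm).dvd_of_dvd_mul_right e2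

/-- An element of order seven and its commuting involution. -/
theorem exists_seven_two {x : G} (hx : orderOf x = 7) : ∃ t : G, orderOf t = 2 ∧ x * t = t * x ∧
    ∀ s : G, orderOf s = 2 → x * s = s * x → s = t := by
  haveI : Fact (Nat.Prime 2) := ⟨Nat.prime_two⟩
  set C := centralizer ({x} : Set G) with hC
  have hCc : Nat.card C = 14 := (hL.seven x hx).1
  obtain ⟨t, ht⟩ := exists_prime_orderOf_dvd_card' (G := C) 2 (by rw [hCc]; norm_num)
  have htG : orderOf (t : G) = 2 := by rw [Subgroup.orderOf_coe, ht]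
  refine ⟨t, htG, (mem_centralizer_singleton_iff.1 t.2).symm, fun s hs hsx => ?_⟩
  have hxC : x ∈ C := mem_centralizer_singleton_iff.2 rfl
  have hcyc : IsCyclic C := by
    refine isCyclic_of_orderOf_eq_card (⟨x, hxC⟩ * t) ?_
    have hc : Commute (⟨x, hxC⟩ : C) t := Subtype.ext (mem_centralizer_singleton_iff.1 t.2).symm
    rw [hc.orderOf_mul_eq_mul_orderOf_of_coprime (by rw [Subgroup.orderOf_mk, hx, ht]; norm_num),
      Subgroup.orderOf_mk, hx, ht, hCc]
  haveI := hcyc
  have hsC : s ∈ C := mem_centralizer_singleton_iff.2 hsx.symm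
  haveI : Fintype C := Fintype.ofFinite C
  have h2 : (Finset.univ.filter fun a : C => orderOf a = 2).card = Nat.totient 2 :=
    IsCyclic.card_orderOf_eq_totient (by rw [← Nat.card_eq_fintype_card, hCc]; norm_num)
  have := Finset.card_le_one.1 (le_of_eq h2) ⟨s, hsC⟩ (by simp [Subgroup.orderOf_mk, hs]) t (by simp [ht])
  exact congrArg Subtype.val this

/-- At most 4258 elements square to one. -/
theorem roots_le : Nat.card {s : G // s * s = 1} ≤ 4258 := by
  classical
  obtain ⟨T⟩ := exists_table hL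
  have hnu : ∀ χ : IrrCharacter G, ∃ n : ℤ, nu χ = (n : ℂ) ∧ n ≤ 1 := fun χ => by
    rcases nu_cases χ with (h | h) | ⟨h, -⟩
    · exact ⟨1, by rw [h]; norm_num, le_rfl⟩
    · exact ⟨-1, by rw [h]; norm_num, by norm_num⟩
    · exact ⟨0, by rw [h]; norm_num, by norm_num⟩
  choose n hn hn1 using hnu
  obtain ⟨da, dθ, dθ', de, dc, dc', dc'', dh, du, du', dq, dq', dg, dg', dk, dz⟩ := T.deg_all
  obtain ⟨z1, z2, z3, z4, z5, z6, z7, z8⟩ := T.nu_zero
  simp only [hn, Int.cast_eq_zero] at z1 z2 z3 z4 z5 z6 z7 z8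
  have hroots : (Nat.card {s : G // s * s = 1} : ℤ) = ∑ χ, n χ * (deg χ : ℤ) := by
    have h := card_sq_roots (1 : G)
    simp only [hn, deg_spec, map_natCast] at h
    exact_mod_cast h
  rw [T.sum_all] at hroots
  simp only [z1, z2, z3, z4, z5, z6, z7, z8, deg_irrOne, da, dθ, dθ', de, dc, dc', dc'', dh, du, du', dq, dq',
    dg, dg', dk, dz] at hroots
  have := hn1 CfsgLib.Char.irrOne
  have := hn1 T.a
  have := hn1 T.e
  have := hn1 T.c
  have := hn1 T.c'
  have := hn1 T.c''
  have := hn1 T.h
  have := hn1 T.k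
  have := hn1 T.z
  push_cast at hroots
  omega

omit hL in
theorem class_lt_roots {t : G} (ht : t * t = 1) (ht1 : t ≠ 1) :
    Nat.card {x : G // IsConj t x} + 1 ≤ Nat.card {s : G // s * s = 1} := by
  classical
  let f : Option {x : G // IsConj t x} → {s : G // s * s = 1} := fun o => o.elim ⟨1, mul_one 1⟩
    fun x => ⟨x.1, by obtain ⟨k, hk⟩ := isConj_iff.mp x.2; rw [← hk, conj_mul, ht, mul_one, mul_inv_cancel]⟩
  have hx1 : ∀ x : {x : G // IsConj t x}, x.1 ≠ 1 := fun x h => ht1 (isConj_one_left.mp (h ▸ x.2))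
  have hfinj : Function.Injective f := by
    intro o o' h
    cases o <;> cases o' <;> simp [f, Subtype.ext_iff] at h ⊢
    · exact absurd h.symm (hx1 _)
    · exact absurd h (hx1 _)
    · exact h
  have := Nat.card_le_card_of_injective f hfinj
  rwa [Finite.card_option] at this

/-- Every involution has centraliser of order 2688. -/
theorem cent_eq {t : G} (ht : orderOf t = 2) : Nat.card (centralizer ({t} : Set G)) = 2688 := by
  classical
  haveI : Fact (Nat.Prime 7) := ⟨by norm_num⟩
  have htt : t * t = 1 := by have := pow_orderOf_eq_one t; rwa [ht, sq] at this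
  have ht1 : t ≠ 1 := fun e => by rw [e, orderOf_one] at ht; norm_num at ht
  set C := centralizer ({t} : Set G) with hC
  set m := Nat.card C with hm
  have hd := cent_dvd hL ht
  rw [← hC, ← hm] at hd
  have hmul := CfsgLib.Invol.card_conjugates_mul t
  rw [hL.card, ← hC, ← hm] at hmul
  have hle := (class_lt_roots htt ht1).trans (roots_le hL)
  have hbig : 2397 ≤ m := by
    by_contra hlt
    have : Nat.card {x : G // IsConj t x} * m ≤ 4257 * 2396 := Nat.mul_le_mul (by omega) (by omega)
    omega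
  obtain ⟨k, hk⟩ := hd
  have hkpos : 0 < k := Nat.pos_of_ne_zero fun e => by rw [e, mul_zero] at hk; norm_num at hk
  have hk3 : k ≤ 3 := by
    by_contra hgt
    have : m * 4 ≤ m * k := Nat.mul_le_mul_left _ (by omega)
    omega
  interval_cases k <;> try (exfalso; omega)
  all_goals try omega
  all_goals exfalso
  all_goals
    obtain ⟨P⟩ : Nonempty (Sylow 7 C) := inferInstance
    have hP : Nat.card (P : Subgroup C) = 7 := by
      simpa using CfsgLib.SmallGroups.card_sylow_eq (p := 7) (a := 1) (m := m / 7)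
        (show Nat.card C = 7 ^ 1 * (m / 7) by rw [← hm]; omega) (by omega) P
    obtain ⟨x, hx⟩ := exists_prime_orderOf_dvd_card' (G := (P : Subgroup C)) 7 (by rw [hP])
    have hxG : orderOf ((x : C) : G) = 7 := by rw [Subgroup.orderOf_coe, Subgroup.orderOf_coe, hx]
    set y : G := ((x : C) : G) with hy
    have hPe : (P : Subgroup C) = zpowers (x : C) := (eq_of_le_of_card_ge (zpowers_le.2 x.2) (by
      rw [hP, Nat.card_zpowers, Subgroup.orderOf_coe, hx])).symm
    have hN : Nat.card (normalizer ((P : Subgroup C) : Set C)) = 42 := by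
      rw [hPe]
      obtain ⟨t', -, -, huniq⟩ := exists_seven_two hL hxG
      have htx : y * t = t * y := mem_centralizer_singleton_iff.1 (x : C).2
      have hsub : normalizer ((zpowers y : Subgroup G) : Set G) ≤ C := by
        intro g hg
        refine mem_centralizer_singleton_iff.2 ?_
        have hgi : g⁻¹ ∈ normalizer ((zpowers y : Subgroup G) : Set G) := inv_mem hg
        obtain ⟨j, hj⟩ := (hgi y).1 (mem_zpowers y)
        have hcomm : Commute t (g⁻¹ * y * g⁻¹⁻¹) := by
          rw [← hj]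
          exact ((show Commute y t from htx).zpow_left j).symm
        have h2 : orderOf (g * t * g⁻¹) = 2 := by
          rw [← ht]
          exact MulEquiv.orderOf_eq (MulAut.conj g) t
        have hst : g * t * g⁻¹ = t := by
          rw [huniq _ h2 ?_, huniq t ht htx]
          calc y * (g * t * g⁻¹) = g * ((g⁻¹ * y * g⁻¹⁻¹) * t) * g⁻¹ := by group
            _ = g * t * g⁻¹ * y := by rw [← hcomm.eq]; group
        exact mul_inv_eq_iff_eq_mul.1 hst
      rw [← (hL.seven y hxG).2]
      have hmap : (zpowers (x : C)).map C.subtype = zpowers y := by rw [MonoidHom.map_zpowers]; rfl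
      have hzC : zpowers y ≤ C := zpowers_le.2 (x : C).2
      rw [show zpowers (x : C) = (zpowers y).subgroupOf C by
          rw [← hmap]; exact (comap_map_eq_self_of_injective C.subtype_injective _).symm,
        ← subgroupOf_normalizer_eq hzC, Nat.card_congr (subgroupOfEquivOfLe hsub).toEquiv]
    have h1 := CfsgLib.SmallGroups.card_sylow_mul_card_normalizer P
    have h2 := CfsgLib.SmallGroups.mod_eq_one_card_sylow (p := 7) (G := C)
    rw [hN, ← hm] at h1
    omega

/-- All involutions are conjugate. -/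
theorem invol_conj {s t : G} (hs : orderOf s = 2) (ht : orderOf t = 2) : IsConj s t := by
  haveI : Fact (Nat.Prime 7) := ⟨by norm_num⟩
  have get : ∀ r : G, orderOf r = 2 → ∃ x : G, orderOf x = 7 ∧ x * r = r * x := fun r hr => by
    obtain ⟨x, hx⟩ := exists_prime_orderOf_dvd_card' (G := centralizer ({r} : Set G)) 7
      (by rw [cent_eq hL hr]; norm_num)
    exact ⟨x, by rw [Subgroup.orderOf_coe, hx], mem_centralizer_singleton_iff.1 x.2⟩
  obtain ⟨x, hx, hxs⟩ := get s hs
  obtain ⟨y, hy, hyt⟩ := get t ht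
  have hP : ∀ P : Sylow 7 G, Nat.card (P : Subgroup G) = 7 := fun P => by
    simpa using CfsgLib.SmallGroups.card_sylow_eq (show Nat.card G = 7 ^ 1 * 1457280 by rw [hL.card]; norm_num)
      (by norm_num) P
  obtain ⟨P, hPx⟩ := (IsPGroup.of_card (p := 7) (n := 1) (by rw [Nat.card_zpowers, hx, pow_one]) :
    IsPGroup 7 (zpowers x)).exists_le_sylow
  obtain ⟨Q, hQy⟩ := (IsPGroup.of_card (p := 7) (n := 1) (by rw [Nat.card_zpowers, hy, pow_one]) :
    IsPGroup 7 (zpowers y)).exists_le_sylow
  obtain ⟨g, hg⟩ := MulAction.exists_smul_eq G P Q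
  have hQe : zpowers y = (Q : Subgroup G) := eq_of_le_of_card_ge hQy (by rw [hP, Nat.card_zpowers, hy])
  have hmem : g * x * g⁻¹ ∈ zpowers y := by
    rw [hQe, ← hg, Sylow.coe_subgroup_smul]
    exact ⟨x, hPx (mem_zpowers x), by simp⟩
  obtain ⟨j, hj⟩ := hmem
  obtain ⟨u, -, -, huniq⟩ := exists_seven_two hL (show orderOf (g * x * g⁻¹) = 7 by
    rw [← hx]; exact MulEquiv.orderOf_eq (MulAut.conj g) x)
  refine isConj_iff.2 ⟨g, ?_⟩
  rw [huniq (g * s * g⁻¹) (by rw [← hs]; exact MulEquiv.orderOf_eq (MulAut.conj g) s) ?_,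
    huniq t ht ?_]
  · rw [← hj]; exact ((show Commute y t from hyt).zpow_left j).eq
  · calc g * x * g⁻¹ * (g * s * g⁻¹) = g * (x * s) * g⁻¹ := by group
      _ = g * s * g⁻¹ * (g * x * g⁻¹) := by rw [hxs]; group

/-- The values at an involution. -/
theorem invol_vals (T : Table G) {t : G} (ht : orderOf t = 2) : InvVals T t := by
  classical
  have htt : t * t = 1 := by have := pow_orderOf_eq_one t; rwa [ht, sq] at this
  have ht1 : t ≠ 1 := fun e => by rw [e, orderOf_one] at ht; norm_num at ht
  have hC := cent_eq hL ht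
  obtain ⟨da, dθ, dθ', de, dc, dc', dc'', dh, du, du', dq, dq', dg, dg', dk, dz⟩ := T.deg_all
  obtain ⟨z1, z2, z3, z4, z5, z6, z7, z8⟩ := T.nu_zero
  set v : IrrCharacter G → ℤ := fun χ => intVal χ htt with hv
  have hvs : ∀ χ : IrrCharacter G, (χ : G → ℂ) t = (v χ : ℂ) := fun χ => intVal_spec χ htt
  have hv1 : v CfsgLib.Char.irrOne = 1 := intVal_irrOne htt
  have hQ := CfsgLib.MTwelveUnique.sum_sq_val v hvs
  rw [hC, T.sum_all] at hQ
  simp only [hv1] at hQ
  push_cast at hQ
  have hval : ∀ (χ : IrrCharacter G) (d : ℕ), deg χ = d → d ≠ 1 → v χ * v χ < 2688 → validInv d (v χ) = true := by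
    intro χ d hd hd1 hlt
    haveI := hL.simple
    have hne : χ ≠ CfsgLib.Char.irrOne := fun e => hd1 (by rw [← hd, e, deg_irrOne])
    simp only [validInv, decide_eq_true_eq]
    refine ⟨hlt, hd ▸ CfsgLib.MTwelveUnique.sq_lt_deg_sq (not_comm hL) χ hne ht1 (hvs χ), ?_, ?_⟩
    · exact Int.emod_eq_zero_of_dvd (hd ▸ CfsgLib.SmallGroups.PrimeRational.four_dvd_deg_sub (linear_trivial hL) χ htt)
    · have := CfsgLib.MTwelveUnique.deg_dvd_index_mul χ (hvs χ) hC
      rw [hL.card, hd] at this
      exact this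
  -- conjugate pairs
  have hzero : ∀ χ : IrrCharacter G, deg χ = 896 → v χ = 0 := fun χ hd => by
    have h := CfsgLib.Char.vanish_of_defect_zero χ.2 Nat.prime_two (n := 7)
      (by rw [hL.card]; norm_num) (by rw [hL.card]; norm_num) (d := 896) (by rw [deg_spec, hd]) (by norm_num)
      (x := t) (by rw [ht])
    rw [hvs] at h
    exact_mod_cast h
  have hconj : ∀ χ : IrrCharacter G, deg (CfsgLib.Char.irrConj χ) = deg χ ∧ v (CfsgLib.Char.irrConj χ) = v χ := by
    intro χ
    constructor
    · have h := deg_spec (CfsgLib.Char.irrConj χ)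
      rw [CfsgLib.Char.irrConj_apply, deg_spec, map_natCast] at h
      exact_mod_cast h.symm
    · have h := hvs (CfsgLib.Char.irrConj χ)
      rw [CfsgLib.Char.irrConj_apply, hvs, map_intCast] at h
      exact_mod_cast h.symm
  have hpair : ∀ (χ χ' : IrrCharacter G), nu χ = 0 → (∀ η : IrrCharacter G, deg η = deg χ → η = χ ∨ η = χ') →
      v χ' = v χ := fun χ χ' h0 hun => by
    obtain ⟨e1, e2⟩ := hconj χ
    rcases hun _ e1 with h | h
    · exfalso
      rcases nu_cases χ with (h' | h') | ⟨-, hr⟩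
      · rw [h0] at h'; exact zero_ne_one h'
      · rw [h0] at h'; norm_num at h'
      · exact hr fun g => by
          conv_rhs => rw [← h]
          rw [CfsgLib.Char.irrConj_apply]
    · rw [← h, e2]
  have hmem : ∀ η : IrrCharacter G, (deg η = 45 → η = T.θ ∨ η = T.θ') ∧ (deg η = 990 → η = T.g ∨ η = T.g') := by
    intro η
    have h := T.sum_all fun χ : IrrCharacter G => if χ = η then 1 else 0
    rw [Finset.sum_ite_eq' Finset.univ η, if_pos (Finset.mem_univ η)] at h
    constructor <;> intro hd <;> by_contra hc <;> push Not at hc <;>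
      · have hn : ∀ (χ : IrrCharacter G) (d : ℕ), deg χ = d → d ≠ deg η → ¬ χ = η := fun χ d h1 h2 e =>
          h2 (by rw [← h1, e])
        simp [hn _ _ deg_irrOne (by omega), hn _ _ da (by omega), hn _ _ de (by omega), hn _ _ dc (by omega),
          hn _ _ dc' (by omega), hn _ _ dc'' (by omega), hn _ _ dh (by omega), hn _ _ du (by omega),
          hn _ _ du' (by omega), hn _ _ dq (by omega), hn _ _ dq' (by omega), hn _ _ dk (by omega),
          hn _ _ dz (by omega), hc.1.symm, hc.2.symm, dθ, dθ', dg, dg'] at h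
        first
          | simp [hn _ _ dg (by omega), hn _ _ dg' (by omega)] at h
          | simp [hn _ _ dθ (by omega), hn _ _ dθ' (by omega)] at h
  have eθ : v T.θ' = v T.θ := hpair _ _ z1 fun η h => (hmem η).1 (h.trans dθ)
  have eg : v T.g' = v T.g := hpair _ _ z7 fun η h => (hmem η).2 (h.trans dg)
  have eq0 := hzero T.q dq
  have eq0' := hzero T.q' dq'
  have ht23 : ¬ 23 ∣ orderOf t := by rw [ht]; norm_num
  have ht11 : ¬ 11 ∣ orderOf t := by rw [ht]; norm_num
  obtain ⟨r1, r2⟩ := T.rel23 t ht23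
  obtain ⟨s1, s2⟩ := T.rel11 t ht11
  simp only [hvs] at r1 r2 s1 s2
  have eu' : v T.u' = v T.u := by exact_mod_cast r2
  have eu : v T.u = 1 - v T.a - 2 * v T.θ + v T.c + v T.c' + v T.c'' + 2 * v T.g := by
    have : ((v T.u : ℤ) : ℂ) = ((1 - v T.a - 2 * v T.θ + v T.c + v T.c' + v T.c'' + 2 * v T.g : ℤ) : ℂ) := by
      rw [eθ, eg, eq0, eq0'] at r1; push_cast at r1 ⊢; linear_combination r1
    exact_mod_cast this
  have ee : v T.e = 1 + 2 * v T.θ + v T.k := by
    have : ((v T.e : ℤ) : ℂ) = ((1 + 2 * v T.θ + v T.k : ℤ) : ℂ) := by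
      rw [eθ, eq0] at s1; push_cast at s1 ⊢; linear_combination s1
    exact_mod_cast this
  rw [eθ, eg, eu', eq0, eq0'] at hQ
  have n := fun χ : IrrCharacter G => mul_self_nonneg (v χ)
  have := n T.a; have := n T.θ; have := n T.e; have := n T.c; have := n T.c'; have := n T.c''; have := n T.h
  have := n T.u; have := n T.g; have := n T.k; have := n T.z
  have oa := hval _ _ da (by norm_num) (by linarith)
  have ot := hval _ _ dθ (by norm_num) (by linarith)
  have oe := hval _ _ de (by norm_num) (by linarith)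
  have oc := hval _ _ dc (by norm_num) (by linarith)
  have oc' := hval _ _ dc' (by norm_num) (by linarith)
  have oc'' := hval _ _ dc'' (by norm_num) (by linarith)
  have oh := hval _ _ dh (by norm_num) (by linarith)
  have ou := hval _ _ du (by norm_num) (by linarith)
  have og := hval _ _ dg (by norm_num) (by linarith)
  have ok := hval _ _ dk (by norm_num) (by linarith)
  have oz := hval _ _ dz (by norm_num) (by linarith)
  have q23 := T.sq23 t htt v hvs
  have q11 := T.sq11 t htt v hvs
  rw [eθ, eg, eq0, eq0'] at q23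
  rw [eθ, eq0] at q11
  have hS := CfsgLib.MTwelveUnique.sum_deg_val ht1 v hvs
  rw [T.sum_all] at hS
  simp only [deg_irrOne, da, dθ, dθ', de, dc, dc', dc'', dh, du, du', dq, dq', dg, dg', dk, dz, hv1, eθ, eg,
    eu', eq0, eq0'] at hS
  push_cast at hS
  set S := 1 + 22 * v T.a + 90 * v T.θ + 230 * v T.e + 231 * (v T.c + v T.c' + v T.c'') + 253 * v T.h +
    1540 * v T.u + 1980 * v T.g + 1035 * v T.k with hSdef
  have hz : S = -2024 * v T.z := by rw [hSdef]; linarith
  have hzd : -S / 2024 = v T.z := by omega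
  have hyes : validInvAll (v T.a) (v T.θ) (v T.e) (v T.k) (v T.g) (v T.c) (v T.c') (v T.c'') (v T.h) = true := by
    simp only [validInvAll, ← eu, ← hSdef, hzd, Bool.and_eq_true, decide_eq_true_eq]
    exact ⟨⟨ou, oz⟩, by omega, by linarith, by linarith⟩
  rw [ee] at hyes oe
  obtain ⟨a6, b3, k27, g18, c7, c7', c7'', h13⟩ := search_invol _ (mem_invList ot) _ (mem_invList ok) oe
    (by rw [← ee]; linarith) _ (mem_invList oa) _ (mem_invList og) (by linarith)
    _ (mem_invList oc) _ (mem_invList oc') _ (mem_invList oc'') (by rw [← eu]; exact ou) _ (mem_invList oh) hyes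
  have e22 : v T.e = 22 := by omega
  have u14 : v T.u = -14 := by omega
  have z8 : v T.z = 8 := by omega
  refine ⟨hC, ?_, ?_, ?_, ?_, ?_, ?_, ?_, ?_, ?_, ?_, ?_, ?_, ?_, ?_, ?_, ?_⟩ <;>
    simp [hvs, a6, b3, k27, g18, c7, c7', c7'', h13, eθ, eg, eu', e22, u14, z8, eq0, eq0']

end CfsgLib.MTwentyThreeUnique
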