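import Cfsg.Agent.Lib.MTwentyThreeUnique.Columns
import Cfsg.Agent.Lib.MTwentyTwoUnique.Seven
import Cfsg.Agent.Lib.SmallSimple.AtMost1092.Tools
import Cfsg.Agent.Lib.SylowNumbers.TwoPrimeAddOne
import Mathlib

/-!
A group of order 1344 with self-centralising element of order seven and small centralisers of elements of
order three has a normal 2-subgroup of order 8 or 64.
-/

set_option autoImplicit false
set_option linter.style.haveILetI false

noncomputable section

namespace CfsgLib.MTwentyThreeUnique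

open Subgroup CfsgLib.InvolChar Cfsg
open CfsgLib.MTwentyTwoUnique (SC exists_sc)
open scoped ComplexConjugate
attribute [local instance] Classical.propDecidable

/-- The candidates in the principal 7-block. -/
def candSmall (d : ℕ) : Bool :=
  !(decide (2 ≤ d) && decide (1344 % d = 0)) ||
    ((!decide (d % 7 ∈ [1, 6]) || decide (d ∈ [6, 8])) &&
      (!decide (d % 7 ∈ [3, 4]) || decide (d ∈ [3, 4, 24, 32])))

theorem candSmall_all : (List.range 37).all candSmall = true := by decide +kernel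

variable {Q : Type*} [Group Q] [Fintype Q]

/-- The facts used about the group. -/
structure Frame (Q : Type*) [Group Q] : Prop where
  card : Nat.card Q = 1344
  seven : ∀ x : Q, orderOf x = 7 → Nat.card (centralizer ({x} : Set Q)) = 7 ∧
    Nat.card (normalizer ((zpowers x : Subgroup Q) : Set Q)) = 21
  three : ∀ y : Q, orderOf y = 3 → ¬ 4 ∣ Nat.card (centralizer ({y} : Set Q))

set_option maxHeartbeats 800000 in
theorem not_simple (hF : Frame Q) : ¬ IsSimpleGroup Q := by
  classical
  intro hs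
  haveI := hs
  haveI : Fact (Nat.Prime 7) := ⟨by norm_num⟩
  haveI : Fact (Nat.Prime 3) := ⟨by norm_num⟩
  haveI : Fact (Nat.Prime 2) := ⟨Nat.prime_two⟩
  have hna : ¬ IsMulCommutative Q :=
    CfsgLib.SmallGroups.not_isMulCommutative_of_not_prime (by rw [hF.card]; norm_num)
  have hone : ∀ χ : IrrCharacter Q, χ ≠ CfsgLib.Char.irrOne → 2 ≤ deg χ ∧ deg χ < 37 := by
    intro χ hχ
    have h1 : deg χ ≠ 1 := fun h => hχ (CfsgLib.SmallGroups.MElevenDegrees.eq_irrOne_of_deg_one hna χ h)
    have h2 := deg_pos χ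
    have h3 := CfsgLib.MathieuBlocks.degree_sq_lt χ.2 (deg_spec χ) h1
    rw [hF.card] at h3
    refine ⟨by omega, ?_⟩
    by_contra hc
    have : 37 * 37 ≤ deg χ * deg χ := Nat.mul_le_mul (by omega) (by omega)
    omega
  have hlin : ∀ f : Q →* ℂˣ, f = 1 := by
    intro f
    ext g
    have hp : commutator Q = ⊤ := CfsgLib.SmallGroups.commutator_eq_top_of_simple hna
    have hg : g ∈ f.ker := Abelianization.commutator_subset_ker f (by rw [hp]; exact mem_top g)
    exact congrArg Units.val (MonoidHom.mem_ker.mp hg)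
  -- the principal 7-block
  obtain ⟨P⟩ : Nonempty (Sylow 7 Q) := inferInstance
  have hP : Nat.card (P : Subgroup Q) = 7 := by
    simpa using CfsgLib.SmallGroups.card_sylow_eq (show Nat.card Q = 7 ^ 1 * 192 by rw [hF.card]; norm_num)
      (by norm_num) P
  have hPz := CfsgLib.Blocks.PrimeSylow.zpowers_gen P hP
  set x := CfsgLib.Blocks.PrimeSylow.gen P hP with hxdef
  have hx : orderOf x = 7 := CfsgLib.Blocks.PrimeSylow.orderOf_gen P hP
  obtain ⟨hCx, hNx⟩ := hF.seven x hx
  have hCP : Nat.card (centralizer ((P : Subgroup Q) : Set Q)) = 7 := by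
    rw [← hPz, zpowers_eq_closure, centralizer_closure, hCx]
  have he : (centralizer ((P : Subgroup Q) : Set Q)).relIndex (normalizer ((P : Subgroup Q) : Set Q)) = 3 := by
    have h := CfsgLib.SmallGroups.Order459648.card_centralizer_mul_relIndex (P : Subgroup Q)
    have hN : Nat.card (normalizer ((P : Subgroup Q) : Set Q)) = 21 := by rw [← hPz]; exact hNx
    rw [hCP, hN] at h
    omega
  obtain ⟨B⟩ := exists_sc P hP hCP 3 he
  obtain ⟨h1X, hs1⟩ := B.one_X (by norm_num) (by norm_num) hx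
  have h1Y : CfsgLib.Char.irrOne ∉ B.Y := Finset.disjoint_left.1 B.disj h1X
  obtain ⟨a, b, hab, hP2⟩ := Finset.card_eq_two.1 (show (B.X.erase CfsgLib.Char.irrOne).card = 2 by
    rw [Finset.card_erase_of_mem h1X, B.card_X])
  have haX : a ∈ B.X.erase CfsgLib.Char.irrOne := by simp [hP2]
  have hbX : b ∈ B.X.erase CfsgLib.Char.irrOne := by simp [hP2]
  obtain ⟨θ, hθ⟩ := B.Y_ne
  have hθ1 : θ ≠ CfsgLib.Char.irrOne := fun e => h1Y (e ▸ hθ)
  have hcand : ∀ χ : IrrCharacter Q, χ ≠ CfsgLib.Char.irrOne →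
      (deg χ % 7 ∈ [1, 6] → deg χ ∈ [6, 8]) ∧ (deg χ % 7 ∈ [3, 4] → deg χ ∈ [3, 4, 24, 32]) := by
    intro χ hχ
    obtain ⟨h2, hlt⟩ := hone χ hχ
    have hn : 1344 % deg χ = 0 :=
      Nat.mod_eq_zero_of_dvd (hF.card ▸ CfsgLib.Char.degree_dvd_card χ.2 (deg_spec χ))
    have hk := List.all_eq_true.1 candSmall_all _ (List.mem_range.2 hlt)
    simp only [candSmall, Bool.or_eq_true, Bool.and_eq_true, Bool.not_eq_true', decide_eq_false_iff_not,
      decide_eq_true_eq, Bool.and_eq_false_iff] at hk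
    obtain ⟨k1, k2⟩ := hk.resolve_left (by rintro (h | h); exacts [h h2, h hn])
    exact ⟨fun h => k1.resolve_left (not_not.2 h), fun h => k2.resolve_left (not_not.2 h)⟩
  have hXd : ∀ χ ∈ B.X.erase CfsgLib.Char.irrOne, (deg χ = 6 ∧ B.s χ = -1) ∨ (deg χ = 8 ∧ B.s χ = 1) := by
    intro χ hχ
    have hχX := Finset.mem_of_mem_erase hχ
    have h1 := B.deg_X χ hχX
    have hd := (hcand χ (Finset.ne_of_mem_erase hχ)).1 (by
      simp only [List.mem_cons, List.not_mem_nil, or_false]
      rcases B.s_sq χ hχX with e | e <;> rw [e] at h1 <;> omega)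
    simp only [List.mem_cons, List.not_mem_nil, or_false] at hd
    rcases hd with e | e <;> rw [e] at h1 ⊢ <;> rcases B.s_sq χ hχX with e' | e' <;> rw [e'] at h1 ⊢ <;>
      first
      | exact Or.inl ⟨rfl, rfl⟩
      | exact Or.inr ⟨rfl, rfl⟩
      | (exfalso; omega)
  have hf : B.f ∈ [3, 4, 24, 32] := by
    rw [← B.deg_Y θ hθ]
    refine (hcand θ hθ1).2 ?_
    have h1 := B.deg_f
    rw [← B.deg_Y θ hθ] at h1
    simp only [List.mem_cons, List.not_mem_nil, or_false]
    rcases B.ε_sq with e | e <;> rw [e] at h1 <;> omega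
  have hXsum : ∀ {M : Type} [AddCommMonoid M] (F : IrrCharacter Q → M),
      ∑ χ ∈ B.X, F χ = F CfsgLib.Char.irrOne + (F a + F b) := fun F => by
    rw [← Finset.add_sum_erase _ _ h1X, hP2, Finset.sum_pair hab]
  have hrel := B.deg_rel hθ (by norm_num)
  rw [hXsum, hs1, deg_irrOne] at hrel
  -- name the degree 6 and the degree 8
  obtain ⟨p, q, hpX, hqX, hpd, hqd, hps, hqs, hsum⟩ : ∃ p q : IrrCharacter Q, p ∈ B.X ∧ q ∈ B.X ∧
      deg p = 6 ∧ deg q = 8 ∧ B.s p = -1 ∧ B.s q = 1 ∧
      ∀ {M : Type} [AddCommMonoid M] (F : IrrCharacter Q → M),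
        ∑ χ ∈ B.X, F χ = F CfsgLib.Char.irrOne + (F p + F q) := by
    simp only [List.mem_cons, List.not_mem_nil, or_false] at hf
    rcases hXd a haX with ⟨e1, e2⟩ | ⟨e1, e2⟩ <;> rcases hXd b hbX with ⟨e3, e4⟩ | ⟨e3, e4⟩ <;>
      rw [e1, e2, e3, e4] at hrel
    · exfalso; rcases B.ε_sq with e | e <;> rw [e] at hrel <;> omega
    · exact ⟨a, b, Finset.mem_of_mem_erase haX, Finset.mem_of_mem_erase hbX, e1, e3, e2, e4, hXsum⟩
    · exact ⟨b, a, Finset.mem_of_mem_erase hbX, Finset.mem_of_mem_erase haX, e3, e1, e4, e2,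
        fun F => by rw [hXsum, add_comm (F a)]⟩
    · exfalso; rcases B.ε_sq with e | e <;> rw [e] at hrel <;> omega
  have hεf : B.ε = 1 ∧ B.f = 3 := by
    have h := B.deg_rel hθ (by norm_num)
    rw [hsum, hs1, deg_irrOne, hpd, hqd, hps, hqs] at h
    simp only [List.mem_cons, List.not_mem_nil, or_false] at hf
    rcases B.ε_sq with e | e <;> rw [e] at h ⊢ <;> omega
  -- an element of order three
  obtain ⟨P3⟩ : Nonempty (Sylow 3 Q) := inferInstance
  have hP3 : Nat.card (P3 : Subgroup Q) = 3 := by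
    simpa using CfsgLib.SmallGroups.card_sylow_eq (show Nat.card Q = 3 ^ 1 * 448 by rw [hF.card]; norm_num)
      (by norm_num) P3
  have hP3z := CfsgLib.Blocks.PrimeSylow.zpowers_gen P3 hP3
  set y := CfsgLib.Blocks.PrimeSylow.gen P3 hP3 with hydef
  have hy : orderOf y = 3 := CfsgLib.Blocks.PrimeSylow.orderOf_gen P3 hP3
  set Cy := Nat.card (centralizer ({y} : Set Q)) with hCy
  have hN3 : Nat.card (normalizer ((zpowers y : Subgroup Q) : Set Q)) = Cy * 2 := by
    have hrel2 := CfsgLib.SmallGroups.Order459648.card_centralizer_mul_relIndex (P3 : Subgroup Q)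
    have hr1 : (centralizer ((P3 : Subgroup Q) : Set Q)).relIndex (normalizer ((P3 : Subgroup Q) : Set Q)) ≠ 1 :=
      fun h => CfsgLib.SmallGroups.not_normalizer_le_centralizer hna (by rw [hF.card]; norm_num) P3
        (Subgroup.relIndex_eq_one.mp h)
    have hr2 := CfsgLib.Blocks.PrimeSylow.relIndex_dvd P3 hP3
    have hr : (centralizer ((P3 : Subgroup Q) : Set Q)).relIndex (normalizer ((P3 : Subgroup Q) : Set Q)) = 2 :=
      ((Nat.dvd_prime Nat.prime_two).1 hr2).resolve_left hr1
    rw [hr] at hrel2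
    have hCeq : Nat.card (centralizer ((P3 : Subgroup Q) : Set Q)) = Cy := by
      rw [hCy, ← hP3z, zpowers_eq_closure, centralizer_closure]
    rw [hP3z, ← hrel2, hCeq]
  have hC6 : Cy = 6 := by
    have h3 : 3 ∣ Cy := hy ▸ orderOf_dvd_natCard _ (mem_centralizer_singleton_iff.2 rfl)
    have h7 : ¬ 7 ∣ Cy := fun h => by
      obtain ⟨c, hc⟩ := exists_prime_orderOf_dvd_card' (G := centralizer ({y} : Set Q)) 7 h
      have hd := Subgroup.orderOf_dvd_natCard (s := centralizer ({(c : Q)} : Set Q))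
        (mem_centralizer_singleton_iff.mpr (mem_centralizer_singleton_iff.mp c.2).symm : y ∈ _)
      rw [(hF.seven _ (by rw [Subgroup.orderOf_coe, hc])).1, hy] at hd
      norm_num at hd
    have hd : Cy ∣ 192 * 7 := by
      have := Subgroup.card_subgroup_dvd_card (centralizer ({y} : Set Q))
      rwa [hF.card] at this
    have hd' : Cy ∣ 192 :=
      (((Nat.Prime.coprime_iff_not_dvd (by norm_num : Nat.Prime 7)).mpr h7).symm).dvd_of_dvd_mul_right hd
    have h4 := hF.three y hy
    rw [← hCy] at h4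
    have key : ∀ k ∈ List.range 193, 192 % k = 0 → k % 3 = 0 → k % 4 ≠ 0 → k = 3 ∨ k = 6 := by decide +kernel
    refine (key Cy (List.mem_range.2 (Nat.lt_succ_of_le (Nat.le_of_dvd (by norm_num) hd')))
      (Nat.mod_eq_zero_of_dvd hd') (Nat.mod_eq_zero_of_dvd h3)
      (fun h => h4 (Nat.dvd_of_mod_eq_zero h))).resolve_left fun h => ?_
    have hn := CfsgLib.SmallGroups.card_sylow_mul_card_normalizer P3
    rw [← hP3z, hN3, h, hF.card] at hn
    have := CfsgLib.SmallGroups.mod_eq_one_card_sylow (p := 3) (G := Q)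
    omega
  have hconj : ∀ u ∈ zpowers y, u ≠ 1 → IsConj y u := fun u hu hu1 =>
    isConj_of_full hy hCy.symm (by rw [hN3]) hu hu1
  choose v hv hvd using fun χ => CfsgLib.SmallGroups.PrimeRational.exists_int_value hy hconj χ
  have hy7 : ¬ 7 ∣ orderOf y := by rw [hy]; norm_num
  have hv1 : v CfsgLib.Char.irrOne = 1 := by
    have h := hv CfsgLib.Char.irrOne; rw [CfsgLib.Char.irrOne_apply] at h; exact_mod_cast h.symm
  have hvθ : ∀ η ∈ B.Y, v η = 1 - v p + v q := by
    intro η hη
    have h := B.rel η hη y hy7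
    rw [hsum, hεf.1, hs1, hps, hqs] at h
    simp only [hv, hv1] at h
    have : ((v η : ℤ) : ℂ) = ((1 - v p + v q : ℤ) : ℂ) := by push_cast at h ⊢; linear_combination h
    exact_mod_cast this
  have hQsum : 1 + (v p * v p + v q * v q) + 2 * ((1 - v p + v q) * (1 - v p + v q)) ≤ 6 := by
    have h := CfsgLib.MTwelveUnique.sum_sq_val v hv
    rw [← hCy, hC6] at h
    have hle := Finset.sum_le_sum_of_subset_of_nonneg (f := fun χ => v χ * v χ)
      (Finset.subset_univ (B.X ∪ B.Y)) fun χ _ _ => mul_self_nonneg _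
    rw [Finset.sum_union B.disj, hsum, Finset.sum_congr rfl (fun η hη => by rw [hvθ η hη] :
      ∀ η ∈ B.Y, v η * v η = (1 - v p + v q) * (1 - v p + v q)), Finset.sum_const, B.card_Y, h, hv1] at hle
    simp only [nsmul_eq_mul] at hle
    norm_num at hle ⊢
    linarith
  have hp3 := hvd p
  have hq3 := hvd q
  have hθ3 := hvd θ
  rw [hpd] at hp3
  rw [hqd] at hq3
  rw [hvθ θ hθ, B.deg_Y θ hθ, hεf.2] at hθ3
  have hvals : v p = 0 ∧ v q = -1 := by
    have := mul_self_nonneg (v p)
    have := mul_self_nonneg (v q)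
    have := mul_self_nonneg (1 - v p + v q)
    have b1 : -2 ≤ v p ∧ v p ≤ 2 := ⟨by nlinarith, by nlinarith⟩
    have b2 : -2 ≤ v q ∧ v q ≤ 2 := ⟨by nlinarith, by nlinarith⟩
    have e1 : v p = 0 := by omega
    rw [e1] at hQsum hθ3
    rcases (show v q = -1 ∨ v q = 2 by omega) with e2 | e2
    · exact ⟨e1, e2⟩
    · rw [e2] at hQsum; norm_num at hQsum
  -- a central involution of a Sylow 2-subgroup
  obtain ⟨S⟩ : Nonempty (Sylow 2 Q) := inferInstance
  have hS : Nat.card (S : Subgroup Q) = 2 ^ 6 :=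
    CfsgLib.SmallGroups.card_sylow_eq (show Nat.card Q = 2 ^ 6 * 21 by rw [hF.card]; norm_num) (by norm_num) S
  haveI : Nontrivial (S : Subgroup Q) := Finite.one_lt_card_iff_nontrivial.mp (by rw [hS]; norm_num)
  haveI := S.2.center_nontrivial
  have h2 : 2 ∣ Nat.card (center (S : Subgroup Q)) := by
    obtain ⟨k, hk⟩ := IsPGroup.iff_card.mp (S.2.to_subgroup (center (S : Subgroup Q)))
    have h1 : 1 < Nat.card (center (S : Subgroup Q)) := Finite.one_lt_card
    rw [hk] at h1 ⊢
    exact dvd_pow_self 2 fun e => by rw [e, pow_zero] at h1; omega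
  obtain ⟨zz, hzz⟩ := exists_prime_orderOf_dvd_card' (G := center (S : Subgroup Q)) 2 h2
  set z : Q := ((zz : (S : Subgroup Q)) : Q) with hzdef
  have hzo : orderOf z = 2 := by rw [hzdef, Subgroup.orderOf_coe, Subgroup.orderOf_coe, hzz]
  have hz2 : z * z = 1 := by have := pow_orderOf_eq_one z; rwa [hzo, sq] at this
  have hz1 : z ≠ 1 := fun e => by rw [e, orderOf_one] at hzo; norm_num at hzo
  set Cz := Nat.card (centralizer ({z} : Set Q)) with hCz
  have hz64 : Cz = 64 := by
    have h64 : 2 ^ 6 ∣ Cz := hS ▸ card_dvd_of_le (fun s hs => mem_centralizer_singleton_iff.mpr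
      (congrArg Subtype.val (Subgroup.mem_center_iff.mp zz.2 ⟨s, hs⟩)))
    have h7 : ¬ 7 ∣ Cz := fun h => by
      obtain ⟨c, hc⟩ := exists_prime_orderOf_dvd_card' (G := centralizer ({z} : Set Q)) 7 h
      have hd := Subgroup.orderOf_dvd_natCard (s := centralizer ({(c : Q)} : Set Q))
        (mem_centralizer_singleton_iff.mpr (mem_centralizer_singleton_iff.mp c.2).symm : z ∈ _)
      rw [(hF.seven _ (by rw [Subgroup.orderOf_coe, hc])).1, hzo] at hd
      norm_num at hd
    have hd : Cz ∣ 192 * 7 := by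
      have := Subgroup.card_subgroup_dvd_card (centralizer ({z} : Set Q))
      rwa [hF.card] at this
    have hd' : Cz ∣ 192 :=
      (((Nat.Prime.coprime_iff_not_dvd (by norm_num : Nat.Prime 7)).mpr h7).symm).dvd_of_dvd_mul_right hd
    obtain ⟨k, hk⟩ := h64
    rw [hk] at hd'
    have hk3 : k ∣ 3 := Nat.dvd_of_mul_dvd_mul_left (show 0 < 2 ^ 6 by norm_num) hd'
    rcases (Nat.dvd_prime (by norm_num)).1 hk3 with e | e
    · rw [hk, e]; norm_num
    exfalso
    have hidx : (centralizer ({z} : Set Q)).index = 7 := by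
      have h := (centralizer ({z} : Set Q)).card_mul_index
      rw [← hCz, hk, e, hF.card] at h
      omega
    have := CfsgLib.SmallGroups.two_mul_card_dvd_factorial hna (centralizer ({z} : Set Q))
      (fun h => by rw [h, index_top] at hidx; omega)
    rw [hidx, hF.card] at this
    norm_num [Nat.factorial] at this
  -- a class product
  set w := intVal q hz2 with hw
  have hwd : (4 : ℤ) ∣ 8 - w := by
    have := CfsgLib.SmallGroups.PrimeRational.four_dvd_deg_sub hlin q hz2
    rwa [hqd] at this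
  have hw8 : w * w < 8 * 8 := by
    have := CfsgLib.MTwelveUnique.sq_lt_deg_sq hna q
      (fun e => by rw [e, deg_irrOne] at hqd; norm_num at hqd) hz1 (intVal_spec q hz2)
    rwa [hqd] at this
  have hcl := CfsgLib.Char.card_classProduct_eq z y x
  rw [← Finset.sum_subset (Finset.subset_univ (B.X ∪ B.Y)) (fun χ _ hχ => by
      rw [Finset.mem_union, not_or] at hχ
      rw [B.out_zero χ hχ.1 hχ.2 x hx, map_zero, mul_zero, zero_div]), Finset.sum_union B.disj, hsum,
    Finset.sum_eq_zero (s := B.Y) fun η hη => by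
      rw [hv η, hvθ η hη, hvals.1, hvals.2]; norm_num,
    B.val_X _ h1X x hx, B.val_X _ hpX x hx, B.val_X _ hqX x hx, hs1, hps, hqs, hv, hv, hv, hv1, hvals.1,
    hvals.2, intVal_spec q hz2, ← hw, CfsgLib.Char.irrOne_apply, deg_spec, deg_spec, deg_spec, deg_irrOne, hpd,
    hqd] at hcl
  have e1 := CfsgLib.Invol.card_conjugates_mul z
  rw [← hCz, hz64, hF.card] at e1
  have e2 := CfsgLib.Invol.card_conjugates_mul y
  rw [← hCy, hC6, hF.card] at e2
  set N := Nat.card {p : Q × Q // IsConj z p.1 ∧ IsConj y p.2 ∧ p.1 * p.2 = x}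
  rw [show Nat.card {u : Q // IsConj z u} = 21 by omega, show Nat.card {u : Q // IsConj y u} = 224 by omega,
    hF.card] at hcl
  have h16 : (16 * (N : ℤ) : ℤ) = 56 - 7 * w := by
    have : (((16 * (N : ℤ) : ℤ)) : ℂ) = ((56 - 7 * w : ℤ) : ℂ) := by
      push_cast
      norm_num at hcl
      linear_combination 16 * hcl
    exact_mod_cast this
  have b3 : -7 ≤ w ∧ w ≤ 7 := ⟨by nlinarith, by nlinarith⟩
  omega

/-- A normal 2-subgroup of order 8 or 64. -/
theorem exists_normal_two (hF : Frame Q) :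
    ∃ M : Subgroup Q, M.Normal ∧ (Nat.card M = 8 ∨ Nat.card M = 64) := by
  classical
  haveI : Fact (Nat.Prime 7) := ⟨by norm_num⟩
  haveI : Nontrivial Q := Finite.one_lt_card_iff_nontrivial.1 (by rw [hF.card]; norm_num)
  obtain ⟨M, hM, hbot, htop⟩ : ∃ M : Subgroup Q, M.Normal ∧ M ≠ ⊥ ∧ M ≠ ⊤ := by
    by_contra hne
    push Not at hne
    exact not_simple hF ⟨fun H hH => or_iff_not_imp_left.2 (hne H hH)⟩
  haveI := hM
  obtain ⟨x, hx⟩ := exists_prime_orderOf_dvd_card' (G := Q) 7 (by rw [hF.card]; norm_num)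
  obtain ⟨hCx, hNx⟩ := hF.seven x hx
  have hdvd : Nat.card M ∣ 192 * 7 := by
    have := Subgroup.card_subgroup_dvd_card M
    rwa [hF.card] at this
  by_cases h7 : 7 ∣ Nat.card M
  · have hidx : ¬ 7 ∣ M.index := fun h => by
      have := Nat.mul_dvd_mul h7 h
      rw [M.card_mul_index, hF.card] at this
      norm_num at this
    obtain ⟨P⟩ : Nonempty (Sylow 7 Q) := inferInstance
    have hP : Nat.card (P : Subgroup Q) = 7 := by
      simpa using CfsgLib.SmallGroups.card_sylow_eq (show Nat.card Q = 7 ^ 1 * 192 by rw [hF.card]; norm_num)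
        (by norm_num) P
    have hle := CfsgLib.SylowNumbers.sylow_le_of_normal hidx P
    have hNQ : Nat.card (normalizer ((P : Subgroup Q) : Set Q)) = 21 := by
      rw [← CfsgLib.Blocks.PrimeSylow.zpowers_gen P hP]
      exact (hF.seven _ (CfsgLib.Blocks.PrimeSylow.orderOf_gen P hP)).2
    have hn7 : Nat.card (Sylow 7 M) = 64 := by
      rw [CfsgLib.SylowNumbers.card_sylow_of_normal hidx]
      have := CfsgLib.SmallGroups.card_sylow_mul_card_normalizer P
      rw [hNQ, hF.card] at this
      omega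
    set PM : Sylow 7 M := P.subtype hle with hPM
    have hPMc : Nat.card (PM : Subgroup M) = 7 := by
      rw [hPM, Sylow.coe_subtype, Nat.card_congr (subgroupOfEquivOfLe hle).toEquiv, hP]
    have hmul := CfsgLib.SmallGroups.card_sylow_mul_card_normalizer PM
    rw [hn7] at hmul
    have h7N := card_dvd_of_le (show (PM : Subgroup M) ≤ normalizer ((PM : Subgroup M) : Set M) from le_normalizer)
    rw [hPMc] at h7N
    obtain ⟨k, hk⟩ := h7N
    have hlt : Nat.card M < 1344 := by
      refine lt_of_le_of_ne (Nat.le_of_dvd (by norm_num) hdvd) fun h => htop (eq_top_of_card_eq M ?_)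
      rw [h, hF.card]
    have hk3 : k ∣ 3 := by
      rw [← hmul, hk, show 64 * (7 * k) = 64 * 7 * k by ring, show 192 * 7 = 64 * 7 * 3 by norm_num] at hdvd
      exact Nat.dvd_of_mul_dvd_mul_left (by norm_num) hdvd
    rw [hk] at hmul
    have hk1 : k = 1 := ((Nat.dvd_prime (by norm_num)).1 hk3).resolve_right fun e => by rw [e] at hmul; omega
    rw [hk1] at hk hmul
    haveI : IsCyclic (PM : Subgroup M) := isCyclic_of_prime_card hPMc
    haveI : IsMulCommutative (PM : Subgroup M) := IsCyclic.isMulCommutative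
    have hNC : normalizer ((PM : Subgroup M) : Set M) ≤ centralizer ((PM : Subgroup M) : Set M) := by
      have : (PM : Subgroup M) = normalizer ((PM : Subgroup M) : Set M) :=
        eq_of_le_of_card_ge le_normalizer (by rw [hPMc, hk])
      rw [← this]
      exact le_centralizer _
    have hcomp := MonoidHom.ker_transferSylow_isComplement' PM hNC
    set K := (MonoidHom.transferSylow PM hNC).ker with hK
    have hKc : Nat.card K = 64 := by
      have := hcomp.card_mul
      rw [hPMc] at this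
      omega
    haveI : Fact (Nat.Prime 2) := ⟨Nat.prime_two⟩
    haveI hKn : K.Normal := MonoidHom.normal_ker _
    refine ⟨K.map M.subtype, ⟨?_⟩, Or.inr (by rw [card_map_of_injective M.subtype_injective, hKc])⟩
    rintro _ ⟨k, hk', rfl⟩ g
    refine ⟨⟨g * k * g⁻¹, hM.conj_mem _ k.2 g⟩, ?_, rfl⟩
    set u : M := ⟨g * k * g⁻¹, hM.conj_mem _ k.2 g⟩
    have hku : orderOf u = orderOf k := by
      rw [← Subgroup.orderOf_coe u, ← Subgroup.orderOf_coe k]
      exact MulEquiv.orderOf_eq (MulAut.conj g) (k : Q)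
    have hd : orderOf u ∣ 64 := by
      rw [hku]
      exact hKc ▸ Subgroup.orderOf_dvd_natCard K hk'
    -- `K` has index seven, so it contains every 2-element
    have hidxK : K.index = 7 := by
      have := K.card_mul_index
      rw [hKc] at this
      omega
    have h1 : orderOf (QuotientGroup.mk' K u) ∣ 7 := hidxK ▸ orderOf_dvd_natCard (G := M ⧸ K) _
    have h2 := (orderOf_map_dvd (QuotientGroup.mk' K) u).trans hd
    exact (QuotientGroup.eq_one_iff u).1 (orderOf_eq_one_iff.1 (Nat.eq_one_of_dvd_coprimes (by norm_num) h2 h1))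
  · refine ⟨M, hM, ?_⟩
    have hd' : Nat.card M ∣ 192 :=
      (((Nat.Prime.coprime_iff_not_dvd (by norm_num : Nat.Prime 7)).mpr h7).symm).dvd_of_dvd_mul_right hdvd
    let σ : Equiv.Perm M := ((MulAut.conjNormal (H := M) x).toEquiv)
    have hval : ∀ (n : ℕ) (u : M), ((σ ^ n) u : Q) = x ^ n * u * (x ^ n)⁻¹ := by
      intro n
      induction n with
      | zero => simp
      | succ n ih =>
        intro u
        rw [pow_succ', Equiv.Perm.mul_apply]
        show x * ((σ ^ n) u : Q) * x⁻¹ = _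
        rw [ih, pow_succ']
        group
    have hmod := CfsgLib.KnownSimple.Order7920.perm_fixed_modEq (q := 7) σ
      (Equiv.ext fun u => Subtype.ext (by
        rw [hval, show x ^ 7 = 1 from hx ▸ pow_orderOf_eq_one x]; simp))
    have hfix : Nat.card {u : M // σ u = u} = 1 := by
      rw [Nat.card_eq_one_iff_exists]
      refine ⟨⟨1, Subtype.ext (show x * ((1 : M) : Q) * x⁻¹ = ((1 : M) : Q) by simp)⟩, fun u => ?_⟩
      refine Subtype.ext (Subtype.ext ?_)
      have hc : x * (u.1 : Q) * x⁻¹ = u.1 := congrArg Subtype.val u.2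
      have hd := Subgroup.orderOf_dvd_natCard (s := centralizer ({x} : Set Q))
        (mem_centralizer_singleton_iff.2 (mul_inv_eq_iff_eq_mul.1 hc).symm)
      rw [hCx] at hd
      rcases (Nat.dvd_prime (by norm_num)).1 hd with e | e
      · exact orderOf_eq_one_iff.1 e
      · exfalso
        apply h7
        have h := Subgroup.orderOf_dvd_natCard M (u.1).2
        rwa [e] at h
    rw [hfix] at hmod
    have key : ∀ k ∈ List.range 193, 192 % k = 0 → k % 7 = 1 → k = 1 ∨ k = 8 ∨ k = 64 := by decide +kernel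
    rcases key _ (List.mem_range.2 (Nat.lt_succ_of_le (Nat.le_of_dvd (by norm_num) hd')))
      (Nat.mod_eq_zero_of_dvd hd') hmod with e | e | e
    · exact absurd (eq_bot_of_card_eq M e) hbot
    · exact Or.inl e
    · exact Or.inr e

end CfsgLib.MTwentyThreeUnique
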