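import Cfsg.Agent.Lib.MTwentyThreeUnique.Classes
import Cfsg.Agent.Lib.ThreeTransp.Spectral
import Mathlib

/-!
The relation on 253 points is strongly regular with parameters (253, 112, 36, 60).
-/

set_option autoImplicit false
set_option linter.style.haveILetI false

noncomputable section

namespace CfsgLib.MTwentyThreeUnique

open Subgroup Cfsg
attribute [local instance] Classical.propDecidable

universe w

variable {G : Type w} [Group G] [Fintype G]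

namespace Geo

variable (Γ : Geo G)

/-- The common neighbours. -/
def common (x y : Γ.R.S.Pts) : ℕ := Nat.card {z // Γ.A x z ∧ Γ.A y z}

theorem common_smul (g : G) (x y : Γ.R.S.Pts) : Γ.common (g • x) (g • y) = Γ.common x y :=
  (Nat.card_congr (Equiv.subtypeEquiv (MulAction.toPerm g) fun z => by
    rw [MulAction.toPerm_apply, Γ.A_smul, Γ.A_smul])).symm

theorem common_self (x : Γ.R.S.Pts) : Γ.common x x = 112 := by
  rw [← Γ.A_out x]
  exact Nat.card_congr (Equiv.subtypeEquivRight fun z => and_self_iff)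

theorem common_adj {x y : Γ.R.S.Pts} (h : Γ.A x y) : Γ.common x y = Γ.common Γ.R.base Γ.b := by
  obtain ⟨g, rfl, rfl⟩ := h
  exact Γ.common_smul g _ _

theorem common_nonadj {x y D : Γ.R.S.Pts} (hne : x ≠ y) (h : ¬ Γ.A x y) (hD1 : D ≠ Γ.R.base)
    (hD2 : ¬ Γ.R.Orb Γ.b D) : Γ.common x y = Γ.common Γ.R.base D := by
  obtain ⟨g, rfl⟩ := Γ.R.exists_smul x
  obtain ⟨y', rfl⟩ : ∃ y', g • y' = y := ⟨g⁻¹ • y, smul_inv_smul _ _⟩
  have h1 : y' ≠ Γ.R.base := fun e => hne (by rw [e])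
  have h2 : ¬ Γ.R.Orb Γ.b y' := fun e => h ((Γ.A_smul g _ _).2 ((Γ.A_base y').2 e))
  obtain ⟨n, hn, rfl⟩ := Γ.rest_trans D y' hD1 hD2 h1 h2
  rw [Γ.common_smul]
  conv_lhs => rw [← Γ.R.smul_base.2 hn]
  exact Γ.common_smul n _ _

theorem exists_rest : ∃ D, D ≠ Γ.R.base ∧ ¬ Γ.R.Orb Γ.b D := by
  haveI : Nonempty {x // x ≠ Γ.R.base ∧ ¬ Γ.R.Orb Γ.b x} := Finite.card_pos_iff.1 (by rw [Γ.card_rest]; norm_num)
  obtain ⟨x, hx⟩ := (inferInstance : Nonempty {x // x ≠ Γ.R.base ∧ ¬ Γ.R.Orb Γ.b x})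
  exact ⟨x, hx⟩

/-- The point of a class with a given element of `E`. -/
def pt (q : Γ.Cls) (e : Γ.R.S.E) : Γ.R.S.Pts := ((q.out : Γ.R.S.N) : G) • (e : G) • Γ.b

theorem pt_bijective :
    Function.Bijective (fun p : Γ.Cls × Γ.R.S.E => (⟨Γ.pt p.1 p.2, (Γ.A_base _).2 ⟨_, Γ.R.S.N.mul_mem p.1.out.2
      (Subgroup.le_normalizer p.2.2), mul_smul _ _ _⟩⟩ : {z // Γ.A Γ.R.base z})) := by
  refine (Nat.bijective_iff_surjective_and_card _).2 ⟨?_, ?_⟩
  · rintro ⟨z, hz⟩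
    obtain ⟨n, hn, rfl⟩ := (Γ.A_base z).1 hz
    set q : Γ.Cls := ((⟨n, hn⟩ : Γ.R.S.N) : Γ.Cls) with hq
    have hk : ((q.out : Γ.R.S.N) : G)⁻¹ * n ∈ Γ.K := by
      have h := QuotientGroup.eq.1 (show ((q.out : Γ.R.S.N) : Γ.Cls) = ((⟨n, hn⟩ : Γ.R.S.N) : Γ.Cls) from q.out_eq)
      simpa [mem_subgroupOf] using h
    obtain ⟨l, hl, e, he, hle⟩ := Γ.mem_K.1 hk
    refine ⟨(q, ⟨l * e * l⁻¹, Γ.R.normal (Γ.L_le_N hl) he⟩), Subtype.ext ?_⟩
    show ((q.out : Γ.R.S.N) : G) • (l * e * l⁻¹) • Γ.b = n • Γ.b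
    conv_lhs => rw [← hl.2]
    rw [← mul_smul, ← mul_smul, show ((q.out : Γ.R.S.N) : G) * (l * e * l⁻¹) * l = n by
      rw [mul_assoc, inv_mul_cancel_right, ← hle, mul_inv_cancel_left]]
  · rw [Nat.card_prod, Γ.card_Cls, Γ.R.S.card_E, Γ.A_out]

/-- The neighbours of a point in a class. -/
def nadj (D : Γ.R.S.Pts) (q : Γ.Cls) : ℕ := Nat.card {e : Γ.R.S.E // Γ.A D (Γ.pt q e)}

theorem common_eq_sum [Fintype Γ.Cls] (D : Γ.R.S.Pts) : Γ.common Γ.R.base D = ∑ q, Γ.nadj D q := by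
  simp only [nadj]
  rw [← Nat.card_sigma]
  refine (Nat.card_congr ?_).symm
  refine (Equiv.subtypeProdEquivSigmaSubtype (fun (q : Γ.Cls) (e : Γ.R.S.E) => Γ.A D (Γ.pt q e))).symm.trans ?_
  refine ((Equiv.ofBijective _ Γ.pt_bijective).subtypeEquiv (q := fun z => Γ.A D z.1) fun p => Iff.rfl).trans ?_
  exact Equiv.subtypeSubtypeEquivSubtypeInter _ (fun z => Γ.A D z)

theorem nadj_rep (D : Γ.R.S.Pts) (n : Γ.R.S.N) :
    Γ.nadj D (n : Γ.Cls) = Nat.card {e : Γ.R.S.E // Γ.A ((n : G)⁻¹ • D) ((e : G) • Γ.b)} := by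
  set q : Γ.Cls := (n : Γ.Cls) with hq
  have hk : (n : G)⁻¹ * (q.out : Γ.R.S.N) ∈ Γ.K := by
    have h := QuotientGroup.eq.1 (show ((n : Γ.R.S.N) : Γ.Cls) = ((q.out : Γ.R.S.N) : Γ.Cls) from q.out_eq.symm)
    simpa [mem_subgroupOf] using h
  obtain ⟨l, hl, e₀, he₀, hle⟩ := Γ.mem_K.1 hk
  have hout : ((q.out : Γ.R.S.N) : G) = (n : G) * (l * e₀) := by rw [← hle, mul_inv_cancel_left]
  have hlN := Γ.L_le_N hl
  refine Nat.card_congr (Equiv.subtypeEquiv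
    { toFun := fun e : Γ.R.S.E => ⟨l * (e₀ * e) * l⁻¹, Γ.R.normal hlN (mul_mem he₀ e.2)⟩
      invFun := fun e : Γ.R.S.E => ⟨e₀⁻¹ * (l⁻¹ * e * l), mul_mem (inv_mem he₀)
        (by simpa using Γ.R.normal (inv_mem hlN) e.2)⟩
      left_inv := fun e => Subtype.ext (by show e₀⁻¹ * (l⁻¹ * (l * (e₀ * (e : G)) * l⁻¹) * l) = e; group)
      right_inv := fun e => Subtype.ext (by show l * (e₀ * (e₀⁻¹ * (l⁻¹ * (e : G) * l))) * l⁻¹ = e; group) }
    fun e => ?_)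
  show Γ.A D (Γ.pt q e) ↔ Γ.A ((n : G)⁻¹ • D) ((l * (e₀ * (e : G)) * l⁻¹) • Γ.b)
  rw [← Γ.A_smul (n : G)⁻¹ D, pt, hout]
  conv_rhs => rw [← hl.2]
  simp only [← mul_smul, mul_assoc, inv_mul_cancel_left, inv_mul_cancel, mul_one]

theorem nadj_act (n : Γ.R.S.N) (D : Γ.R.S.Pts) (q : Γ.Cls) : Γ.nadj ((n : G) • D) (Γ.act n q) = Γ.nadj D q := by
  obtain ⟨m, rfl⟩ := QuotientGroup.mk_surjective q
  rw [Γ.act_apply, Γ.nadj_rep, Γ.nadj_rep, Subgroup.coe_mul, mul_inv_rev, mul_smul, inv_smul_smul]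

theorem nadj_q₀ (D : Γ.R.S.Pts) : Γ.nadj D Γ.q₀ = Nat.card {e : Γ.R.S.E // Γ.A D ((e : G) • Γ.b)} := by
  rw [q₀, Γ.nadj_rep, Subgroup.coe_one, inv_one, one_smul]

variable (hL : Local G)
include hL

theorem adj_class (h : ∃ e ∈ Γ.R.S.E, e ≠ 1 ∧ Γ.A Γ.b (e • Γ.b)) :
    ∀ e ∈ Γ.R.S.E, e ≠ 1 → Γ.A Γ.b (e • Γ.b) := by
  intro e' he' he'1
  obtain ⟨e, he, he1, hA⟩ := h
  obtain ⟨l, hl, rfl⟩ := Γ.L_trans_E hL he he1 he' he'1
  have := (Γ.A_smul l _ _).2 hA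
  rw [hl.2] at this
  conv => arg 3; rw [← hl.2]
  rwa [← mul_smul, inv_mul_cancel_right, mul_smul]

theorem common_mod_three : Γ.common Γ.R.base Γ.b % 3 = 0 := by
  classical
  haveI : Fintype Γ.Cls := Fintype.ofFinite _
  have h7 : Fintype.card Γ.Cls = 7 := by rw [← Nat.card_eq_fintype_card, Γ.card_Cls]
  rw [Γ.common_eq_sum, ← Finset.add_sum_erase _ _ (Finset.mem_univ Γ.q₀)]
  obtain ⟨q₁, hq₁⟩ : ∃ q, q ∈ (Finset.univ : Finset Γ.Cls).erase Γ.q₀ :=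
    Finset.card_pos.1 (by rw [Finset.card_erase_of_mem (Finset.mem_univ _), Finset.card_univ, h7]; norm_num)
  rw [Finset.sum_congr rfl (g := fun _ => Γ.nadj Γ.b q₁) fun q hq => ?_, Finset.sum_const,
    Finset.card_erase_of_mem (Finset.mem_univ _), Finset.card_univ, h7, smul_eq_mul]
  · have ha : Γ.nadj Γ.b Γ.q₀ = 0 ∨ Γ.nadj Γ.b Γ.q₀ = 15 := by
      rw [Γ.nadj_q₀]
      by_cases h : ∃ e ∈ Γ.R.S.E, e ≠ 1 ∧ Γ.A Γ.b (e • Γ.b)
      · right
        have hc : Nat.card {e : Γ.R.S.E // Γ.A Γ.b ((e : G) • Γ.b)} = Nat.card {e : Γ.R.S.E // e ≠ 1} :=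
          Nat.card_congr (Equiv.subtypeEquivRight fun e => ⟨fun hA e1 => Γ.A_irrefl Γ.b (by
            rwa [e1, Subgroup.coe_one, one_smul] at hA), fun e1 => Γ.adj_class hL h e e.2 fun e2 => e1 (Subtype.ext e2)⟩)
        rw [hc, Nat.card_eq_fintype_card, Fintype.card_subtype_compl, Fintype.card_subtype_eq,
          ← Nat.card_eq_fintype_card, Γ.R.S.card_E]
      · left
        haveI : IsEmpty {e : Γ.R.S.E // Γ.A Γ.b ((e : G) • Γ.b)} := ⟨fun e => h ⟨e.1, e.1.2, fun e1 => Γ.A_irrefl Γ.b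
          (by have := e.2; rwa [e1, one_smul] at this), e.2⟩⟩
        exact Nat.card_of_isEmpty
    omega
  · obtain ⟨g, hg, hg0, hg1⟩ := AltSeven.exists_even_move h7 (Finset.ne_of_mem_erase hq₁) (Finset.ne_of_mem_erase hq)
    obtain ⟨l, hl, rfl⟩ := Γ.exists_L hL (g := g) (by convert hg) hg0
    rw [← hg1, ← Γ.nadj_act l Γ.b q₁, hl.2]

/-- The parameters. -/
theorem srg : (∀ x y, Γ.A x y → Γ.common x y = 36) ∧ ∀ x y, x ≠ y → ¬ Γ.A x y → Γ.common x y = 60 := by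
  classical
  haveI : Fintype Γ.R.S.Pts := Fintype.ofFinite _
  obtain ⟨D, hD1, hD2⟩ := Γ.exists_rest
  set l := Γ.common Γ.R.base Γ.b with hl
  set m := Γ.common Γ.R.base D with hm
  suffices h : l = 36 ∧ m = 60 from
    ⟨fun x y hxy => (Γ.common_adj hxy).trans h.1, fun x y hne hxy => (Γ.common_nonadj hne hxy hD1 hD2).trans h.2⟩
  have h253 : Fintype.card Γ.R.S.Pts = 253 := by rw [← Nat.card_eq_fintype_card, Γ.R.card_pts]
  let Δ : SimpleGraph Γ.R.S.Pts :=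
    { Adj := Γ.A
      symm := ⟨fun x y h => Γ.A_symm h⟩
      loopless := ⟨fun x => Γ.A_irrefl x⟩ }
  have hreg : Δ.IsRegularOfDegree 112 := fun x => by
    rw [← SimpleGraph.card_neighborSet_eq_degree, ← Nat.card_eq_fintype_card]
    exact Γ.A_out x
  have hc : ∀ x y, Fintype.card (Δ.commonNeighbors x y) = Γ.common x y := fun x y => by
    rw [← Nat.card_eq_fintype_card]; rfl
  have hsrg : Δ.IsSRGWith 253 112 l m :=
    ⟨h253, hreg, fun x y h => by rw [hc]; exact Γ.common_adj h,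
      fun x y hne h => by rw [hc]; exact Γ.common_nonadj hne h hD1 hD2⟩
  have hpar := SimpleGraph.IsSRGWith.param_eq Δ hsrg (by norm_num)
  have hl112 : l < 112 := by
    have hb : Δ.Adj Γ.R.base Γ.b := (Γ.A_base Γ.b).2 (RankData.Orb.refl Γ.R Γ.b)
    have h := SimpleGraph.Adj.card_commonNeighbors_lt_degree hb
    rw [hc, hreg] at h
    exact h
  have hm112 : m ≤ 112 := by
    rw [hm, ← Γ.A_out Γ.R.base]
    exact Nat.card_le_card_of_injective (fun z => ⟨z.1, z.2.1⟩) fun a c e => Subtype.ext (congrArg Subtype.val e :)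
  have hl3 : l % 3 = 0 := Γ.common_mod_three hL
  haveI : Nonempty Γ.R.S.Pts := ⟨Γ.R.base⟩
  obtain ⟨s, hs⟩ := CfsgLib.ThreeTransp.srg_discr Γ.A (fun x y => Γ.A_symm) Γ.A_irrefl Γ.A_out
    (fun x y h => (Γ.common_adj h : _)) (fun x y hne h => (Γ.common_nonadj hne h hD1 hD2 : _)) (by
      rw [h253]; push_cast; omega)
  rw [← hl, ← hm] at hs
  have key : ∀ j ∈ List.range 23, (111 - 5 * j) % 3 = 0 → ∀ d ∈ List.range 130,
      ((d : ℤ) * d = ((111 - 5 * (j : ℤ)) - 4 * j) ^ 2 + 4 * (112 - 4 * j)) → j = 0 ∨ j = 15 := by decide +kernel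
  obtain ⟨j, hj⟩ : ∃ j, m = 4 * j := ⟨m / 4, by omega⟩
  have hlj : l + 5 * j = 111 := by omega
  have hnat : ((s.natAbs : ℤ)) * s.natAbs = s * s := Int.natAbs_mul_self' s
  have hl' : (l : ℤ) = 111 - 5 * (j : ℤ) := by omega
  have hm' : (m : ℤ) = 4 * (j : ℤ) := by omega
  have heq : ((s.natAbs : ℤ)) * s.natAbs = ((111 - 5 * (j : ℤ)) - 4 * j) ^ 2 + 4 * (112 - 4 * j) := by
    rw [hnat, ← hs, hl', hm']; norm_num
  have hs130 : s.natAbs < 130 := by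
    by_contra hc
    have h1 : (130 : ℤ) ≤ s.natAbs := by omega
    have h2 : (j : ℤ) ≤ 22 := by omega
    nlinarith
  rcases key j (List.mem_range.2 (by omega)) (by omega) s.natAbs (List.mem_range.2 hs130) heq with rfl | rfl
  swap
  · omega
  exfalso
  have hl111 : l = 111 := by omega
  have hclique : ∀ x y z, Γ.A x y → Γ.A x z → y = z ∨ Γ.A y z := by
    intro x y z hxy hxz
    by_contra hcon
    push Not at hcon
    have hsub : ({w | Γ.A x w ∧ Γ.A y w} : Set Γ.R.S.Pts) ⊆ ({w | Γ.A x w} : Set Γ.R.S.Pts) \ {y, z} := fun w hw =>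
      ⟨hw.1, fun e => by
        rcases e with e | e
        · exact Γ.A_irrefl y (e ▸ hw.2)
        · exact hcon.2 ((Set.mem_singleton_iff.1 e) ▸ hw.2)⟩
    have h1 := Set.ncard_le_ncard hsub (Set.toFinite _)
    rw [Set.ncard_sdiff (show ({y, z} : Set Γ.R.S.Pts) ⊆ {w | Γ.A x w} from fun w hw => by
        rcases hw with rfl | rfl; exacts [hxy, hxz]), Set.ncard_pair hcon.1, ← Nat.card_coe_set_eq,
      ← Nat.card_coe_set_eq] at h1
    have h2 : Nat.card ({w | Γ.A x w ∧ Γ.A y w} : Set Γ.R.S.Pts) = 111 := (Γ.common_adj hxy).trans hl111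
    have h3 : Nat.card ({w | Γ.A x w} : Set Γ.R.S.Pts) = 112 := Γ.A_out x
    omega
  let st : Setoid Γ.R.S.Pts :=
    { r := fun x y => x = y ∨ Γ.A x y
      iseqv := ⟨fun x => Or.inl rfl, fun h => h.elim (fun e => Or.inl e.symm) fun e => Or.inr (Γ.A_symm e),
        fun h h' => by
          rcases h with rfl | h
          · exact h'
          rcases h' with rfl | h'
          · exact Or.inr h
          exact hclique _ _ _ (Γ.A_symm h) h'⟩ }
  have hfib : ∀ o : Quotient st, Nat.card {x // Quotient.mk st x = o} = 113 := by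
    intro o
    obtain ⟨x₀, rfl⟩ := Quotient.exists_rep o
    rw [Nat.card_congr (Equiv.subtypeEquivRight (q := fun x => x ∈ insert x₀ ({w | Γ.A x₀ w} : Set Γ.R.S.Pts)) fun x =>
      Quotient.eq.trans (show (x = x₀ ∨ Γ.A x x₀) ↔ (x = x₀ ∨ Γ.A x₀ x) from
        ⟨fun h => h.elim Or.inl fun e => Or.inr (Γ.A_symm e),
          fun h => h.elim Or.inl fun e => Or.inr (Γ.A_symm e)⟩))]
    rw [show Nat.card {x // x ∈ insert x₀ ({w | Γ.A x₀ w} : Set Γ.R.S.Pts)} =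
        (insert x₀ ({w | Γ.A x₀ w} : Set Γ.R.S.Pts)).ncard from Nat.card_coe_set_eq _,
      Set.ncard_insert_of_notMem (show x₀ ∉ ({w | Γ.A x₀ w} : Set Γ.R.S.Pts) from Γ.A_irrefl x₀),
      ← Nat.card_coe_set_eq]
    exact congrArg (· + 1) (Γ.A_out x₀)
  haveI : Fintype (Quotient st) := Fintype.ofFinite _
  have h := Nat.card_congr (Equiv.sigmaFiberEquiv (Quotient.mk st)).symm
  rw [Nat.card_sigma, Finset.sum_congr rfl fun o _ => hfib o, Finset.sum_const, smul_eq_mul, Γ.R.card_pts] at h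
  omega

end Geo

end CfsgLib.MTwentyThreeUnique
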