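import Cfsg.Agent.Lib.MTwentyThreeUnique.Fusion
import Cfsg.Agent.Lib.SmallGroups.PermSubdegree
import Mathlib

/-!
The action on the 253 cosets of the normalizer of the group of order sixteen has rank three with subdegrees
1, 112 and 140.
-/

set_option autoImplicit false
set_option linter.style.haveILetI false

noncomputable section

namespace CfsgLib.MTwentyThreeUnique

open Subgroup CfsgLib.InvolChar Cfsg
open scoped ComplexConjugate
attribute [local instance] Classical.propDecidable

universe w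

variable {G : Type w} [Group G] [Fintype G]

/-- The point stabiliser. -/
abbrev Sixteen.N (S : Sixteen G) : Subgroup G := normalizer (S.E : Set G)

/-- The points. -/
abbrev Sixteen.Pts (S : Sixteen G) : Type w := G ⧸ S.N

/-- Fixed points and the number of suborbits. -/
structure RankData (G : Type w) [Group G] [Fintype G] where
  /-- the subgroup of order sixteen -/
  S : Sixteen G
  card_N : Nat.card S.N = 40320
  card_pts : Nat.card S.Pts = 253
  fix_invol : ∀ e ∈ S.E, e ≠ 1 → Nat.card (MulAction.fixedBy S.Pts e) = 29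
  fix_five : ∀ x : G, orderOf x = 5 → Nat.card (MulAction.fixedBy S.Pts x) = 3
  fix_seven : ∀ x : G, orderOf x = 7 → Nat.card (MulAction.fixedBy S.Pts x) = 1
  rank : Nat.card (MulAction.orbitRel.Quotient S.N S.Pts) = 3
  simple : IsSimpleGroup G

variable (hL : Local G)
include hL

/-- A value of two characters next to the trivial one. -/
theorem fix_bound {x : G} {c : ℕ} (hc : Nat.card (centralizer ({x} : Set G)) = c) {α β : IrrCharacter G}
    (hα : α ≠ CfsgLib.Char.irrOne) (hβ : β ≠ CfsgLib.Char.irrOne) (hαβ : α ≠ β) {n : ℕ}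
    (hn : (n : ℂ) = 1 + (α : G → ℂ) x + (β : G → ℂ) x) :
    ((n : ℤ) - 1) * ((n : ℤ) - 1) ≤ 2 * ((c : ℤ) - 1) := by
  classical
  have hsum : ∑ χ : IrrCharacter G, Complex.normSq ((χ : G → ℂ) x) = (c : ℝ) := by
    have h := CfsgLib.Char.second_orthogonality x x
    rw [if_pos (IsConj.refl x), hc] at h
    simp only [Complex.mul_conj] at h
    exact_mod_cast h
  have hle : 1 + (Complex.normSq ((α : G → ℂ) x) + Complex.normSq ((β : G → ℂ) x)) ≤ (c : ℝ) := by
    rw [← hsum]
    have h : ∑ χ ∈ ({CfsgLib.Char.irrOne, α, β} : Finset (IrrCharacter G)), Complex.normSq ((χ : G → ℂ) x) ≤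
        ∑ χ : IrrCharacter G, Complex.normSq ((χ : G → ℂ) x) :=
      Finset.sum_le_sum_of_subset_of_nonneg (Finset.subset_univ _) fun χ _ _ => Complex.normSq_nonneg _
    rw [Finset.sum_insert (by simp [hα.symm, hβ.symm]), Finset.sum_pair hαβ, CfsgLib.Char.irrOne_apply,
      Complex.normSq_one] at h
    exact h
  have hsq : Complex.normSq ((α : G → ℂ) x + (β : G → ℂ) x) ≤
      2 * (Complex.normSq ((α : G → ℂ) x) + Complex.normSq ((β : G → ℂ) x)) := by
    have := Complex.normSq_nonneg ((α : G → ℂ) x - (β : G → ℂ) x)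
    simp only [Complex.normSq_apply, Complex.add_re, Complex.add_im, Complex.sub_re, Complex.sub_im] at *
    nlinarith
  have e : (α : G → ℂ) x + (β : G → ℂ) x = (((n : ℝ) - 1 : ℝ) : ℂ) := by
    push_cast
    rw [hn]; ring
  rw [e, Complex.normSq_ofReal] at hsq
  have h : ((n : ℝ) - 1) * ((n : ℝ) - 1) ≤ 2 * ((c : ℝ) - 1) := by linarith
  exact_mod_cast h

/-- The rank data exist. -/
theorem exists_rankData : Nonempty (RankData G) := by
  obtain ⟨S⟩ := exists_sixteen hL
  obtain ⟨hNc, -⟩ := normalizer_card hL S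
  obtain ⟨T⟩ := exists_table hL
  obtain ⟨da, dθ, dθ', de, dc, dc', dc'', dh, du, du', dq, dq', dg, dg', dk, dz⟩ := T.deg_all
  have hΩ : Nat.card S.Pts = 253 := by
    have h := S.N.card_mul_index
    rw [hNc, hL.card] at h
    show S.N.index = 253
    omega
  haveI : Fintype S.Pts := Fintype.ofFinite _
  set a₀ : S.Pts := ((1 : G) : G ⧸ S.N) with ha₀
  obtain ⟨m, d, hm1, hmi, hd, hsum, hsq⟩ :=
    CfsgLib.SmallGroups.PermOrbital.exists_multiplicities (G := G) (Ω := S.Pts) a₀
  have hdd : ∀ χ, d χ = deg χ := fun χ => by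
    have h := (hd χ).1
    rw [deg_spec] at h
    exact_mod_cast h.symm
  rw [← Nat.card_eq_fintype_card, hΩ, T.sum_all] at hsum
  simp only [hdd, hm1, deg_irrOne, da, dθ, dθ', de, dc, dc', dc'', dh, du, du', dq, dq', dg, dg', dk, dz] at hsum
  rw [T.sum_all] at hsq
  simp only [hm1, one_pow] at hsq
  obtain ⟨mh, mu, mu', mq, mq', mg, mg', mk, mz⟩ : m T.h = 0 ∧ m T.u = 0 ∧ m T.u' = 0 ∧ m T.q = 0 ∧
      m T.q' = 0 ∧ m T.g = 0 ∧ m T.g' = 0 ∧ m T.k = 0 ∧ m T.z = 0 :=
    ⟨by omega, by omega, by omega, by omega, by omega, by omega, by omega, by omega, by omega⟩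
  obtain ⟨ma, mθ, mθ', me, mc, mc', mc''⟩ : m T.a = 1 ∧ m T.θ = 0 ∧ m T.θ' = 0 ∧ m T.e = 1 ∧ m T.c = 0 ∧
      m T.c' = 0 ∧ m T.c'' = 0 := by
    have hc : m T.c + m T.c' + m T.c'' ≤ 1 := by omega
    have he : m T.e ≤ 1 := by omega
    have ha : m T.a ≤ 11 := by omega
    interval_cases hA : m T.a <;> omega
  have hfun : ∀ g : G, (Nat.card (MulAction.fixedBy S.Pts g) : ℂ) = 1 + (T.a : G → ℂ) g + (T.e : G → ℂ) g := by
    intro g
    obtain ⟨m', hm', hmi'⟩ := CfsgLib.Char.char_decomp (CfsgLib.Char.isCharacter_permChar (G := G) (X := S.Pts))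
    have hmm : ∀ χ, m' χ = m χ := fun χ => by
      have := (hmi' χ).symm.trans (hmi χ)
      exact_mod_cast this
    have h := congrFun hm' g
    simp only [Finset.sum_apply, Pi.smul_apply, smul_eq_mul, hmm] at h
    rw [h, T.sum_all]
    simp only [hm1, ma, mθ, mθ', me, mc, mc', mc'', mh, mu, mu', mq, mq', mg, mg', mk, mz,
      CfsgLib.Char.irrOne_apply]
    push_cast
    ring
  have hbound : ∀ (x : G) (c : ℕ), Nat.card (centralizer ({x} : Set G)) = c →
      ((Nat.card (MulAction.fixedBy S.Pts x) : ℤ) - 1) * ((Nat.card (MulAction.fixedBy S.Pts x) : ℤ) - 1) ≤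
        2 * ((c : ℤ) - 1) := by
    intro x c hc
    have n1 : deg (CfsgLib.Char.irrOne (G := G)) = 1 := deg_irrOne
    exact fix_bound hL hc (fun e => by rw [e, n1] at da; norm_num at da)
      (fun e => by rw [e, n1] at de; norm_num at de) (fun e => by rw [e, de] at da; norm_num at da) (hfun x)
  have hmod : ∀ (x : G) (p : ℕ), p.Prime → orderOf x = p → Nat.card (MulAction.fixedBy S.Pts x) % p = 253 % p := by
    intro x p hp hx
    haveI := Fact.mk hp
    have h := CfsgLib.KnownSimple.Order7920.perm_fixed_modEq (q := p) (MulAction.toPerm (α := G) (β := S.Pts) x) (by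
      ext v
      have hxp : x ^ p = 1 := hx ▸ pow_orderOf_eq_one x
      simp [← MulAction.toPermHom_apply, ← map_pow, hxp])
    rw [hΩ, Nat.ModEq] at h
    exact h.symm
  refine ⟨{ S := S, card_N := hNc, card_pts := hΩ, simple := hL.simple
            fix_invol := fun e he he1 => ?_, fix_five := fun x hx => ?_, fix_seven := fun x hx => ?_,
            rank := ?_ }⟩
  · have V := invol_vals hL T (orderOf_eq_prime (by rw [sq]; exact S.sq_E e he) he1)
    have h := hfun e
    rw [V.va, V.ve] at h
    norm_num [-Nat.card_eq_fintype_card] at h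
    exact_mod_cast h
  · have h1 := hbound x 15 (hL.five x hx).1
    have h2 := hmod x 5 (by norm_num) hx
    have h3 : (Nat.card (MulAction.fixedBy S.Pts x) : ℤ) ≤ 6 := by
      by_contra hc
      push Not at hc
      push_cast at h1
      nlinarith
    omega
  · have h1 := hbound x 14 (hL.seven x hx).1
    have h2 := hmod x 7 (by norm_num) hx
    have h3 : (Nat.card (MulAction.fixedBy S.Pts x) : ℤ) ≤ 7 := by
      by_contra hc
      push Not at hc
      push_cast at h1
      nlinarith
    omega
  · have hst : MulAction.stabilizer G a₀ = S.N := MulAction.stabilizer_quotient S.N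
    have e : Nat.card (MulAction.orbitRel.Quotient (MulAction.stabilizer G a₀) S.Pts) =
        Nat.card (MulAction.orbitRel.Quotient S.N S.Pts) := by rw [hst]
    refine e.symm.trans (hsq.symm.trans ?_)
    simp [ma, mθ, mθ', me, mc, mc', mc'', mh, mu, mu', mq, mq', mg, mg', mk, mz]

end CfsgLib.MTwentyThreeUnique
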