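import Cfsg.Agent.Lib.MTwentyThreeUnique.Index
import Mathlib

/-!
The Steiner system S(4, 7, 23) on the cosets of the subgroup of index 23.
-/

set_option autoImplicit false
set_option linter.style.haveILetI false

noncomputable section

namespace CfsgLib.MTwentyThreeUnique

open Subgroup CfsgLib.InvolChar Cfsg
attribute [local instance] Classical.propDecidable

universe w

variable {G : Type w} [Group G] [Fintype G] (hL : Local G)
include hL

/-- An involution fixes seven points in an action on 23 points. -/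
theorem fix_twentyThree (H : Subgroup G) (hH : H.index = 23) {t : G} (ht : orderOf t = 2) :
    Nat.card (MulAction.fixedBy (G ⧸ H) t) = 7 := by
  classical
  obtain ⟨T⟩ := exists_table hL
  obtain ⟨da, dθ, dθ', de, dc, dc', dc'', dh, du, du', dq, dq', dg, dg', dk, dz⟩ := T.deg_all
  haveI : Fintype (G ⧸ H) := Fintype.ofFinite _
  obtain ⟨m, d, hm1, hmi, hd, hsum, hsq⟩ :=
    CfsgLib.SmallGroups.PermOrbital.exists_multiplicities (G := G) (Ω := G ⧸ H) ((1 : G) : G ⧸ H)
  have hdd : ∀ χ, d χ = deg χ := fun χ => by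
    have h := (hd χ).1
    rw [deg_spec] at h
    exact_mod_cast h.symm
  rw [← Nat.card_eq_fintype_card, ← Subgroup.index, hH] at hsum
  have hz : ∀ χ, 23 < deg χ → m χ = 0 := fun χ h => by
    have h1 := Finset.single_le_sum (f := fun χ => m χ * d χ) (fun _ _ => Nat.zero_le _) (Finset.mem_univ χ)
    rw [hsum] at h1
    rw [hdd] at h1
    by_contra hne
    have : 1 * deg χ ≤ m χ * deg χ := Nat.mul_le_mul_right _ (Nat.one_le_iff_ne_zero.2 hne)
    omega
  have mθ := hz T.θ (by omega)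
  have mθ' := hz T.θ' (by omega)
  have me := hz T.e (by omega)
  have mc := hz T.c (by omega)
  have mc' := hz T.c' (by omega)
  have mc'' := hz T.c'' (by omega)
  have mh := hz T.h (by omega)
  have mu := hz T.u (by omega)
  have mu' := hz T.u' (by omega)
  have mq := hz T.q (by omega)
  have mq' := hz T.q' (by omega)
  have mg := hz T.g (by omega)
  have mg' := hz T.g' (by omega)
  have mk := hz T.k (by omega)
  have mz := hz T.z (by omega)
  rw [T.sum_all] at hsum
  simp only [hdd, hm1, deg_irrOne, da, mθ, mθ', me, mc, mc', mc'', mh, mu, mu', mq, mq', mg, mg', mk, mz,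
    zero_mul, add_zero] at hsum
  have ma : m T.a = 1 := by omega
  obtain ⟨m', hm', hmi'⟩ := CfsgLib.Char.char_decomp (CfsgLib.Char.isCharacter_permChar (G := G) (X := G ⧸ H))
  have hmm : ∀ χ, m' χ = m χ := fun χ => by
    have := (hmi' χ).symm.trans (hmi χ)
    exact_mod_cast this
  have h := congrFun hm' t
  simp only [Finset.sum_apply, Pi.smul_apply, smul_eq_mul, hmm] at h
  rw [T.sum_all] at h
  simp only [hm1, ma, mθ, mθ', me, mc, mc', mc'', mh, mu, mu', mq, mq', mg, mg', mk, mz,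
    CfsgLib.Char.irrOne_apply, (invol_vals hL T ht).va] at h
  norm_num [-Nat.card_eq_fintype_card] at h
  exact_mod_cast h

namespace Geo

variable (Γ : Geo G)

set_option maxHeartbeats 800000 in
/-- The blocks. -/
theorem exists_steiner [Fintype Γ.R.S.Pts] [Fintype (G ⧸ Γ.H)] :
    ∃ bl : Γ.R.S.Pts → Finset (G ⧸ Γ.H), Fintype.card (G ⧸ Γ.H) = 23 ∧
      Cfsg.IsSteinerSystem 4 7 (Set.range bl) ∧ ∀ (g : G) x, (bl x).image (g • ·) = bl (g • x) := by
  classical
  obtain ⟨h23, hinf⟩ := Γ.index_H hL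
  have hP : Fintype.card (G ⧸ Γ.H) = 23 := by rw [← Nat.card_eq_fintype_card, ← Subgroup.index, h23]
  set p₀ : G ⧸ Γ.H := ((1 : G) : G ⧸ Γ.H) with hp₀
  have hp₀fix : ∀ g : G, g • p₀ = p₀ ↔ g ∈ Γ.H := fun g => by
    have h : g ∈ MulAction.stabilizer G p₀ ↔ g ∈ Γ.H := by rw [hp₀, MulAction.stabilizer_quotient]
    exact MulAction.mem_stabilizer_iff.symm.trans h
  set B₀ := Finset.univ.filter fun p : G ⧸ Γ.H => ∀ e ∈ Γ.R.S.E, e • p = p with hB₀
  have hN0 : ∀ n ∈ Γ.R.S.N, ∀ p ∈ B₀, n • p ∈ B₀ := by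
    intro n hn p hp
    rw [hB₀, Finset.mem_filter] at hp ⊢
    refine ⟨Finset.mem_univ _, fun e he => ?_⟩
    have h1 := hp.2 _ (Γ.R.normal (inv_mem hn) he)
    rw [inv_inv, mul_smul, mul_smul, inv_smul_eq_iff] at h1
    exact h1
  have hEH : Γ.R.S.E ≤ Γ.H := fun e he => (hinf.ge (Γ.E_le_K he)).1
  have hp0B : p₀ ∈ B₀ := Finset.mem_filter.2 ⟨Finset.mem_univ _, fun e he => (hp₀fix e).2 (hEH he)⟩
  have hB7 : B₀.card = 7 := by
    obtain ⟨t, ht, hto⟩ : ∃ t ∈ Γ.R.S.E, orderOf t = 2 := ⟨Γ.R.S.t, Γ.R.S.t_mem, Γ.R.S.order_t⟩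
    have hle : B₀.card ≤ 7 := by
      rw [← fix_twentyThree hL Γ.H h23 hto, Nat.card_coe_set_eq, ← Set.ncard_coe_finset]
      refine Set.ncard_le_ncard (fun p hp => ?_) (Set.toFinite _)
      exact (Finset.mem_filter.1 (Finset.mem_coe.1 hp)).2 t ht
    have h7 : (MulAction.orbit Γ.R.S.N p₀).ncard = 7 := by
      have h1 := (MulAction.stabilizer Γ.R.S.N p₀).card_mul_index
      rw [MulAction.index_stabilizer, Γ.R.card_N] at h1
      have h2 : Nat.card (MulAction.stabilizer Γ.R.S.N p₀) = 5760 := by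
        rw [← Γ.card_K, ← hinf]
        exact Nat.card_congr
          { toFun := fun g => ⟨((g : Γ.R.S.N) : G), (hp₀fix _).1 g.2, (g : Γ.R.S.N).2⟩
            invFun := fun g => ⟨⟨g, g.2.2⟩, (hp₀fix _).2 g.2.1⟩
            left_inv := fun _ => rfl
            right_inv := fun _ => rfl }
      rw [h2] at h1
      omega
    refine le_antisymm hle ?_
    rw [← h7, ← Set.ncard_coe_finset]
    refine Set.ncard_le_ncard ?_ (Set.toFinite _)
    rintro _ ⟨n, rfl⟩
    exact hN0 _ n.2 _ hp0B
  choose gx hgx using Γ.R.exists_smul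
  let bl : Γ.R.S.Pts → Finset (G ⧸ Γ.H) := fun x => B₀.image (gx x • ·)
  have hbl : ∀ g : G, bl (g • Γ.R.base) = B₀.image (g • ·) := by
    intro g
    set g' := gx (g • Γ.R.base) with hg'
    have hn : g⁻¹ * g' ∈ Γ.R.S.N := Γ.R.smul_base.1 (by rw [mul_smul, hgx, inv_smul_smul])
    refine Finset.eq_of_subset_of_card_le (fun p hp => ?_) ?_
    · obtain ⟨q, hq, rfl⟩ := Finset.mem_image.1 hp
      exact Finset.mem_image.2 ⟨(g⁻¹ * g') • q, hN0 _ hn q hq, by rw [smul_smul, mul_inv_cancel_left]⟩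
    · rw [Finset.card_image_of_injective _ (MulAction.injective g), Finset.card_image_of_injective _ (MulAction.injective _)]
  have himg : ∀ (g : G) x, (bl x).image (g • ·) = bl (g • x) := by
    intro g x
    obtain ⟨k, rfl⟩ := Γ.R.exists_smul x
    rw [hbl, ← mul_smul, hbl, Finset.image_image]
    exact Finset.image_congr fun p _ => (mul_smul g k p).symm
  have hcard : ∀ x, (bl x).card = 7 := fun x => by
    rw [Finset.card_image_of_injective _ (MulAction.injective _), hB7]
  -- the meets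
  let I : Γ.R.S.Pts → Γ.R.S.Pts → ℕ := fun x y => (bl x ∩ bl y).card
  have hI : ∀ (g : G) x y, I (g • x) (g • y) = I x y := fun g x y => by
    show (bl (g • x) ∩ bl (g • y)).card = _
    rw [← himg, ← himg, ← Finset.image_inter _ _ (MulAction.injective g),
      Finset.card_image_of_injective _ (MulAction.injective g)]
  have hbase : bl Γ.R.base = B₀ := by
    have h := hbl 1
    rw [one_smul] at h
    rw [h]
    simp
  obtain ⟨D, hD1, hD2⟩ := Γ.exists_rest
  have hsum : ∑ y, I Γ.R.base y = 539 := by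
    let r : G ⧸ Γ.H → ℕ := fun p => (Finset.univ.filter fun y => p ∈ bl y).card
    have hr : ∀ p, r p = r p₀ := by
      intro p
      obtain ⟨g, rfl⟩ := MulAction.exists_smul_eq G p₀ p
      refine (Finset.card_bij (fun y _ => g • y) (fun y hy => ?_) (fun a _ c _ e => smul_left_cancel g e)
        fun y hy => ⟨g⁻¹ • y, ?_, smul_inv_smul g y⟩).symm
      · simp only [Finset.mem_filter, Finset.mem_univ, true_and] at hy ⊢
        rw [← himg]
        exact Finset.mem_image_of_mem _ hy
      · simp only [Finset.mem_filter, Finset.mem_univ, true_and] at hy ⊢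
        rw [← himg]
        exact Finset.mem_image.2 ⟨_, hy, inv_smul_smul g p₀⟩
    have htot : ∑ p, r p = 253 * 7 := by
      simp only [r, Finset.card_filter]
      rw [Finset.sum_comm, Finset.sum_congr rfl (g := fun _ => 7) fun y _ => ?_, Finset.sum_const,
        Finset.card_univ, ← Nat.card_eq_fintype_card, Γ.R.card_pts, smul_eq_mul]
      rw [← Finset.card_filter, Finset.filter_mem_eq_inter, Finset.univ_inter, hcard]
    rw [Finset.sum_congr rfl fun p _ => hr p, Finset.sum_const, Finset.card_univ, hP, smul_eq_mul] at htot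
    have h77 : r p₀ = 77 := by omega
    calc ∑ y, I Γ.R.base y = ∑ y, ∑ p ∈ B₀, if p ∈ bl y then 1 else 0 := by
          refine Finset.sum_congr rfl fun y _ => ?_
          show (bl Γ.R.base ∩ bl y).card = _
          rw [hbase, ← Finset.card_filter, Finset.filter_mem_eq_inter]
      _ = ∑ p ∈ B₀, r p := by rw [Finset.sum_comm]; simp only [r, Finset.card_filter]
      _ = 539 := by
          rw [Finset.sum_congr rfl fun p _ => hr p, Finset.sum_const, hB7, h77, smul_eq_mul]
  have hI1 : ∀ y, Γ.A Γ.R.base y → I Γ.R.base y = I Γ.R.base Γ.b := by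
    intro y hy
    obtain ⟨n, hn, rfl⟩ := (Γ.A_base y).1 hy
    conv_lhs => arg 1; rw [← Γ.R.smul_base.2 hn]
    exact hI n _ _
  have hI2 : ∀ y, y ≠ Γ.R.base → ¬ Γ.A Γ.R.base y → I Γ.R.base y = I Γ.R.base D := by
    intro y hy hA
    obtain ⟨n, hn, rfl⟩ := Γ.rest_trans D y hD1 hD2 hy fun h => hA ((Γ.A_base y).2 h)
    conv_lhs => arg 1; rw [← Γ.R.smul_base.2 hn]
    exact hI n _ _
  obtain ⟨h, hb, hc⟩ := Γ.exists_swap
  have hpos : 1 ≤ I Γ.R.base Γ.b := by
    refine Finset.card_pos.2 ⟨p₀, Finset.mem_inter.2 ⟨hbase.symm ▸ hp0B, ?_⟩⟩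
    rw [← hb, hbl]
    exact Finset.mem_image.2 ⟨p₀, hp0B, (hp₀fix h).2 (Γ.mem_H_swap hL hb hc)⟩
  have hval : I Γ.R.base Γ.b = 1 ∧ I Γ.R.base D = 3 := by
    have hle : ∀ y, I Γ.R.base y ≤ 7 := fun y => (Finset.card_le_card Finset.inter_subset_left).trans (hcard _).le
    have h1 : ∀ y, I Γ.R.base y = (if Γ.R.base = y then 7 else 0) + (if Γ.A Γ.R.base y then I Γ.R.base Γ.b else 0) +
        (if y ≠ Γ.R.base ∧ ¬ Γ.R.Orb Γ.b y then I Γ.R.base D else 0) := by
      intro y
      by_cases e : Γ.R.base = y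
      · subst e
        rw [if_pos rfl, if_neg (Γ.A_irrefl _), if_neg (fun h => h.1 rfl)]
        show (bl Γ.R.base ∩ bl Γ.R.base).card = _
        rw [Finset.inter_self, hcard]
      · by_cases hA : Γ.A Γ.R.base y
        · rw [if_neg e, if_pos hA, if_neg (fun h => h.2 ((Γ.A_base y).1 hA)), hI1 y hA, zero_add, add_zero]
        · rw [if_neg e, if_neg hA, if_pos ⟨Ne.symm e, fun h => hA ((Γ.A_base y).2 h)⟩, hI2 y (Ne.symm e) hA,
            zero_add, zero_add]
    rw [Finset.sum_congr rfl fun y _ => h1 y, Finset.sum_add_distrib, Finset.sum_add_distrib, Finset.sum_ite_eq,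
      if_pos (Finset.mem_univ _), ← Finset.sum_filter, ← Finset.sum_filter, Finset.sum_const, Finset.sum_const,
      ← Fintype.card_subtype, ← Fintype.card_subtype, ← Nat.card_eq_fintype_card, ← Nat.card_eq_fintype_card,
      Γ.A_out, Γ.card_rest, smul_eq_mul, smul_eq_mul] at hsum
    have := hle Γ.b
    have := hle D
    omega
  have hle3 : ∀ x y, x ≠ y → (bl x ∩ bl y).card ≤ 3 := by
    intro x y hne
    obtain ⟨g, rfl⟩ := Γ.R.exists_smul x
    obtain ⟨y', rfl⟩ : ∃ y', g • y' = y := ⟨g⁻¹ • y, smul_inv_smul _ _⟩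
    show I (g • Γ.R.base) (g • y') ≤ 3
    rw [hI]
    have hy : y' ≠ Γ.R.base := fun e => hne (by rw [e])
    by_cases hA : Γ.A Γ.R.base y'
    · rw [hI1 y' hA]; omega
    · rw [hI2 y' hy hA]; omega
  refine ⟨bl, hP, ⟨?_, fun s hs => ?_⟩, himg⟩
  · rintro _ ⟨x, rfl⟩
    exact hcard x
  set T := (Finset.univ : Finset Γ.R.S.Pts).biUnion fun x => (bl x).powersetCard 4 with hT
  have hTcard : T.card = 8855 := by
    rw [hT, Finset.card_biUnion ?_,
      Finset.sum_congr rfl fun x _ => (Finset.card_powersetCard 4 (bl x)).trans (by rw [hcard]),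
      Finset.sum_const, Finset.card_univ, ← Nat.card_eq_fintype_card, Γ.R.card_pts]
    · decide
    · intro x _ y _ hne
      refine Finset.disjoint_left.2 fun u hu hu' => ?_
      rw [Finset.mem_powersetCard] at hu hu'
      have := Finset.card_le_card (Finset.subset_inter hu.1 hu'.1)
      have := hle3 x y hne
      omega
  have hTall : T = (Finset.univ : Finset (G ⧸ Γ.H)).powersetCard 4 := by
    refine Finset.eq_of_subset_of_card_le (fun u hu => ?_) ?_
    · obtain ⟨x, -, hx⟩ := Finset.mem_biUnion.1 hu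
      exact Finset.mem_powersetCard.2 ⟨Finset.subset_univ _, (Finset.mem_powersetCard.1 hx).2⟩
    · rw [hTcard, Finset.card_powersetCard, Finset.card_univ, hP]
      decide +kernel
  obtain ⟨x, -, hx⟩ := Finset.mem_biUnion.1 (hTall.ge (Finset.mem_powersetCard.2 ⟨Finset.subset_univ s, hs⟩))
  refine ⟨bl x, ⟨⟨x, rfl⟩, (Finset.mem_powersetCard.1 hx).1⟩, ?_⟩
  rintro _ ⟨⟨y, rfl⟩, hy⟩
  by_contra hne
  have := Finset.card_le_card (Finset.subset_inter (Finset.mem_powersetCard.1 hx).1 hy)
  have := hle3 x y fun e => hne (e ▸ rfl)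
  omega

end Geo

end CfsgLib.MTwentyThreeUnique
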