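import Cfsg.Agent.Lib.MTwentyThreeUnique.RankThree
import Mathlib

/-!
The suborbits of lengths 112 and 140, and the relation of lying in the shorter one.
-/

set_option autoImplicit false
set_option linter.style.haveILetI false

noncomputable section

namespace CfsgLib.MTwentyThreeUnique

open Subgroup Cfsg
attribute [local instance] Classical.propDecidable

universe w

/-- The numerical possibilities for the suborbits. -/
theorem subdegree_search : ∀ d ∈ List.range 253, ∀ s ∈ [1, 2, 4, 8, 16], ∀ t ∈ [1, 2, 4, 8, 16],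
    d * s + (252 - d) * t = 672 → d % 7 = 0 → d % 5 + (252 - d) % 5 = 2 → d ≠ 0 → 252 - d ≠ 0 → 40320 % d = 0 →
      40320 % (252 - d) = 0 → (d = 112 ∧ s = 1 ∧ t = 4) ∨ (d = 140 ∧ s = 4 ∧ t = 1) := by decide +kernel

variable {G : Type w} [Group G] [Fintype G]

namespace RankData

variable (R : RankData G)

/-- The base point. -/
def base : R.S.Pts := ((1 : G) : G ⧸ R.S.N)

theorem smul_base {g : G} : g • R.base = R.base ↔ g ∈ R.S.N := by
  have h : g ∈ MulAction.stabilizer G (((1 : G) : G ⧸ R.S.N)) ↔ g ∈ R.S.N := by rw [MulAction.stabilizer_quotient]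
  exact MulAction.mem_stabilizer_iff.symm.trans h

theorem exists_smul (x : R.S.Pts) : ∃ g : G, g • R.base = x := MulAction.exists_smul_eq G R.base x

theorem normal {n : G} (hn : n ∈ R.S.N) {e : G} (he : e ∈ R.S.E) : n * e * n⁻¹ ∈ R.S.E := (hn e).1 he

/-- The number of elements of `E` fixing a point. -/
def fixE (x : R.S.Pts) : ℕ := Nat.card {e : R.S.E // (e : G) • x = x}

theorem fixE_smul {n : G} (hn : n ∈ R.S.N) (x : R.S.Pts) : R.fixE (n • x) = R.fixE x := by
  refine Nat.card_congr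
    { toFun := fun e => ⟨⟨n⁻¹ * (e.1 : G) * n, by
        simpa using R.normal (R.S.N.inv_mem hn) e.1.2⟩, by
          show (n⁻¹ * (e.1 : G) * n) • x = x
          rw [mul_smul, mul_smul, e.2, inv_smul_smul]⟩
      invFun := fun e => ⟨⟨n * (e.1 : G) * n⁻¹, R.normal hn e.1.2⟩, by
          show (n * (e.1 : G) * n⁻¹) • n • x = n • x
          rw [mul_smul, mul_smul, inv_smul_smul, e.2]⟩
      left_inv := fun e => Subtype.ext (Subtype.ext (by show n * (n⁻¹ * (e.1 : G) * n) * n⁻¹ = e.1; group))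
      right_inv := fun e => Subtype.ext (Subtype.ext (by show n⁻¹ * (n * (e.1 : G) * n⁻¹) * n = e.1; group)) }

theorem fixE_mem (x : R.S.Pts) : R.fixE x ∈ [1, 2, 4, 8, 16] := by
  let H : Subgroup R.S.E := (MulAction.stabilizer G x).subgroupOf R.S.E
  have hH : Nat.card H = R.fixE x := Nat.card_congr
    (Equiv.subtypeEquivRight fun e => by
      show (e : G) ∈ MulAction.stabilizer G x ↔ _
      exact MulAction.mem_stabilizer_iff)
  have hd : R.fixE x ∣ 16 := hH ▸ R.S.card_E ▸ Subgroup.card_subgroup_dvd_card H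
  have key : ∀ k ∈ Nat.divisors 16, k ∈ [1, 2, 4, 8, 16] := by decide
  exact key _ (Nat.mem_divisors.2 ⟨hd, by norm_num⟩)

/-- The orbit of the point stabiliser through a point. -/
def Orb (b x : R.S.Pts) : Prop := ∃ n ∈ R.S.N, n • b = x

theorem Orb.refl (b : R.S.Pts) : R.Orb b b := ⟨1, R.S.N.one_mem, one_smul _ _⟩

variable {R} in
theorem Orb.smul {b x : R.S.Pts} (h : R.Orb b x) {n : G} (hn : n ∈ R.S.N) : R.Orb b (n • x) := by
  obtain ⟨m, hm, rfl⟩ := h
  exact ⟨n * m, R.S.N.mul_mem hn hm, mul_smul _ _ _⟩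

variable {R} in
theorem Orb.symm {b x : R.S.Pts} (h : R.Orb b x) : R.Orb x b := by
  obtain ⟨m, hm, rfl⟩ := h
  exact ⟨m⁻¹, R.S.N.inv_mem hm, inv_smul_smul _ _⟩

theorem orb_card_dvd (b : R.S.Pts) : Nat.card {x // R.Orb b x} ∣ 40320 := by
  haveI : Fintype R.S.Pts := Fintype.ofFinite _
  have h := MulAction.card_orbit_mul_card_stabilizer_eq_card_group R.S.N b
  simp only [← Nat.card_eq_fintype_card] at h
  refine Dvd.intro (Nat.card (MulAction.stabilizer R.S.N b)) ?_
  rw [← R.card_N, ← h]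
  congr 1
  exact Nat.card_congr (Equiv.subtypeEquivRight fun x =>
    ⟨fun ⟨n, hn, e⟩ => ⟨⟨n, hn⟩, e⟩, fun ⟨n, e⟩ => ⟨n, n.2, e⟩⟩)

set_option maxHeartbeats 800000 in
/-- The suborbits. -/
theorem exists_suborbit : ∃ b, b ≠ R.base ∧ Nat.card {x // R.Orb b x} = 112 ∧
    Nat.card {x // x ≠ R.base ∧ ¬ R.Orb b x} = 140 ∧ R.fixE b = 1 ∧
    (∀ x, x ≠ R.base → ¬ R.Orb b x → R.fixE x = 4) ∧
    ∀ x y, x ≠ R.base → ¬ R.Orb b x → y ≠ R.base → ¬ R.Orb b y → R.Orb x y := by
  classical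
  haveI : Fact (Nat.Prime 5) := ⟨by norm_num⟩
  haveI : Fintype R.S.Pts := Fintype.ofFinite _
  haveI : Finite (MulAction.orbitRel.Quotient R.S.N R.S.Pts) := Quotient.finite _
  let q : R.S.Pts → MulAction.orbitRel.Quotient R.S.N R.S.Pts := fun x => Quotient.mk'' x
  have hq : ∀ x y, q x = q y ↔ R.Orb y x := fun x y =>
    Quotient.eq''.trans (MulAction.orbitRel_apply.trans ⟨fun ⟨n, e⟩ => ⟨n, n.2, e⟩, fun ⟨n, hn, e⟩ => ⟨⟨n, hn⟩, e⟩⟩)
  have hbase : ∀ x, R.Orb R.base x → x = R.base := fun x ⟨n, hn, e⟩ => e ▸ R.smul_base.2 hn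
  haveI : Fintype (MulAction.orbitRel.Quotient R.S.N R.S.Pts) := Fintype.ofFinite _
  obtain ⟨u, v, w, huv, huw, hvw, hall⟩ := Finset.card_eq_three.1
    (show (Finset.univ : Finset (MulAction.orbitRel.Quotient R.S.N R.S.Pts)).card = 3 by
      rw [Finset.card_univ, ← Nat.card_eq_fintype_card, R.rank])
  have hsur : ∀ o, ∃ x, q x = o := fun o => Quotient.exists_rep o
  -- arrange that the first class is the base point
  obtain ⟨b, c, hbc, hb, hc, hcov⟩ : ∃ b c, ¬ R.Orb b c ∧ b ≠ R.base ∧ c ≠ R.base ∧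
      ∀ x, x = R.base ∨ R.Orb b x ∨ R.Orb c x := by
    have h3 : ∀ o, o = u ∨ o = v ∨ o = w := fun o => by simpa using hall.subset (Finset.mem_univ o)
    have pick : ∀ o₁ o₂, o₁ ≠ o₂ → o₁ ≠ q R.base → o₂ ≠ q R.base →
        (∀ o, o = q R.base ∨ o = o₁ ∨ o = o₂) → ∃ b c, ¬ R.Orb b c ∧ b ≠ R.base ∧ c ≠ R.base ∧
        ∀ x, x = R.base ∨ R.Orb b x ∨ R.Orb c x := by
      intro o₁ o₂ h12 h1 h2 h
      obtain ⟨b, rfl⟩ := hsur o₁
      obtain ⟨c, rfl⟩ := hsur o₂
      refine ⟨b, c, fun hh => h12 ((hq c b).2 hh).symm, fun e => h1 (by rw [e]), fun e => h2 (by rw [e]), fun x => ?_⟩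
      rcases h (q x) with e | e | e
      · exact Or.inl (hbase x ((hq _ _).1 e))
      · exact Or.inr (Or.inl ((hq _ _).1 e))
      · exact Or.inr (Or.inr ((hq _ _).1 e))
    rcases h3 (q R.base) with e | e | e
    · exact pick v w hvw (e ▸ huv.symm) (e ▸ huw.symm) fun o => by rcases h3 o with h | h | h <;> simp [h, e]
    · exact pick u w huw (e ▸ huv) (e ▸ hvw.symm) fun o => by rcases h3 o with h | h | h <;> simp [h, e]
    · exact pick u v huv (e ▸ huw) (e ▸ hvw) fun o => by rcases h3 o with h | h | h <;> simp [h, e]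
  have hdisj : ∀ x, R.Orb b x → ¬ R.Orb c x := fun x h1 h2 => hbc (by
    obtain ⟨n, hn, e⟩ := h2.symm
    exact e ▸ h1.smul hn)
  have hnb : ¬ R.Orb b R.base := fun h => hb (hbase b h.symm)
  have hnc : ¬ R.Orb c R.base := fun h => hc (hbase c h.symm)
  set B := Finset.univ.filter fun x => R.Orb b x with hB
  set C := Finset.univ.filter fun x => R.Orb c x with hC
  have hsplit : ∀ (F : R.S.Pts → ℕ), ∑ x, F x = F R.base + (∑ x ∈ B, F x + ∑ x ∈ C, F x) := fun F => by
    have hu : (Finset.univ : Finset R.S.Pts) = insert R.base (B ∪ C) := by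
      ext x
      simpa [hB, hC] using hcov x
    rw [hu, Finset.sum_insert (by simp [hB, hC, hnb, hnc]),
      Finset.sum_union (Finset.disjoint_left.2 fun x h1 h2 =>
        hdisj x (by simpa [hB] using h1) (by simpa [hC] using h2))]
  have hconst : ∀ z, ∀ x ∈ Finset.univ.filter (fun x => R.Orb z x), R.fixE x = R.fixE z := fun z x hx => by
    obtain ⟨n, hn, rfl⟩ := (Finset.mem_filter.1 hx).2
    exact R.fixE_smul hn z
  -- the counts
  have h76 := hsplit fun _ => 1
  simp only [Finset.sum_const, smul_eq_mul, mul_one, Finset.card_univ, ← Nat.card_eq_fintype_card, R.card_pts] at h76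
  have hE : ∑ x, R.fixE x = 688 := by
    have h1 : ∀ x, R.fixE x = ∑ e : R.S.E, if (e : G) • x = x then 1 else 0 := fun x => by
      rw [fixE, Nat.card_eq_fintype_card, Fintype.card_subtype, Finset.card_filter]
    simp only [h1]
    rw [Finset.sum_comm, Finset.sum_congr rfl (g := fun e : R.S.E => if e = 1 then 253 else 29) fun e _ => ?_,
      ← Finset.add_sum_erase _ _ (Finset.mem_univ (1 : R.S.E)), if_pos rfl,
      Finset.sum_congr rfl (g := fun _ => 29) fun e he => if_neg (Finset.ne_of_mem_erase he),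
      Finset.sum_const, Finset.card_erase_of_mem (Finset.mem_univ _), Finset.card_univ, ← Nat.card_eq_fintype_card,
      R.S.card_E]
    · rfl
    rw [← Finset.card_filter]
    by_cases he : e = 1
    · subst he
      rw [if_pos rfl, ← R.card_pts, Nat.card_eq_fintype_card, Finset.filter_true_of_mem (by simp), Finset.card_univ]
    · rw [if_neg he, ← R.fix_invol e e.2 (fun h => he (Subtype.ext h)), Nat.card_eq_fintype_card,
        ← Fintype.card_subtype]
      exact Fintype.card_congr (Equiv.subtypeEquivRight fun x => Iff.rfl)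
  rw [hsplit, Finset.sum_congr rfl (hconst b), Finset.sum_congr rfl (hconst c), Finset.sum_const, Finset.sum_const,
    smul_eq_mul, smul_eq_mul, ← hB, ← hC] at hE
  have hfb : R.fixE R.base = 16 := by
    rw [fixE, ← R.S.card_E]
    exact Nat.card_congr (Equiv.subtypeUnivEquiv fun e => R.smul_base.2 (Subgroup.le_normalizer e.2))
  rw [hfb] at hE
  -- an element of order five
  obtain ⟨x5, hx5⟩ := exists_prime_orderOf_dvd_card' (G := R.S.N) 5 (by rw [R.card_N]; norm_num)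
  have hf := R.fix_five (x5 : G) (by rw [Subgroup.orderOf_coe, hx5])
  have hpow : (x5 : G) ^ 5 = 1 := by rw [← hx5, ← Subgroup.orderOf_coe]; exact pow_orderOf_eq_one _
  have hfive : ∀ z, Nat.card {x // R.Orb z x} % 5 = Nat.card {x // R.Orb z x ∧ (x5 : G) • x = x} % 5 := by
    intro z
    let σ : Equiv.Perm {x // R.Orb z x} := (MulAction.toPerm (x5 : G)).subtypePerm fun x =>
      ⟨fun h => by simpa using h.smul (R.S.N.inv_mem x5.2), fun h => h.smul x5.2⟩
    have hs : σ ^ 5 = 1 := by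
      rw [Equiv.Perm.subtypePerm_pow]
      ext x
      simp [← MulAction.toPermHom_apply, ← map_pow, hpow]
    have h := CfsgLib.KnownSimple.Order7920.perm_fixed_modEq σ hs
    rw [Nat.ModEq] at h
    rw [h]
    congr 1
    exact Nat.card_congr
      { toFun := fun x => ⟨x.1.1, x.1.2, congrArg Subtype.val x.2⟩
        invFun := fun x => ⟨⟨x.1, x.2.1⟩, Subtype.ext x.2.2⟩
        left_inv := fun _ => rfl
        right_inv := fun _ => rfl }
  have hcard : ∀ (p : R.S.Pts → Prop), Nat.card {x // p x} = (Finset.univ.filter p).card := fun p => by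
    rw [Nat.card_eq_fintype_card, Fintype.card_subtype]
  have hfB := hfive b
  have hfC := hfive c
  rw [hcard, hcard, ← hB] at hfB
  rw [hcard, hcard, ← hC] at hfC
  have hfsum : (Finset.univ.filter fun x => R.Orb b x ∧ (x5 : G) • x = x).card +
      (Finset.univ.filter fun x => R.Orb c x ∧ (x5 : G) • x = x).card = 2 := by
    have h := hsplit fun x => if (x5 : G) • x = x then 1 else 0
    rw [if_pos (R.smul_base.2 x5.2), ← Finset.card_filter, ← Finset.card_filter, ← Finset.card_filter,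
      hB, hC, Finset.filter_filter, Finset.filter_filter] at h
    have h2 : (Finset.univ.filter fun x : R.S.Pts => (x5 : G) • x = x).card = 3 := by
      rw [← hf]
      rw [← Fintype.card_subtype, ← Nat.card_eq_fintype_card]
      exact Nat.card_congr (Equiv.subtypeEquivRight fun x => Iff.rfl)
    omega
  have hBd := R.orb_card_dvd b
  have hCd := R.orb_card_dvd c
  rw [hcard, ← hB] at hBd
  rw [hcard, ← hC] at hCd
  have hB0 : B.card ≠ 0 := fun h => by
    have := Finset.card_eq_zero.1 h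
    exact Finset.notMem_empty b (this ▸ Finset.mem_filter.2 ⟨Finset.mem_univ _, Orb.refl R b⟩)
  have hC0 : C.card ≠ 0 := fun h => by
    have := Finset.card_eq_zero.1 h
    exact Finset.notMem_empty c (this ▸ Finset.mem_filter.2 ⟨Finset.mem_univ _, Orb.refl R c⟩)
  have hCe : C.card = 252 - B.card := by omega
  have hmod5 : B.card % 5 + C.card % 5 = 2 := by
    have gen : ∀ p q : ℕ, p + q = 2 → p % 5 + q % 5 = 2 := by omega
    rw [hfB, hfC]
    refine gen _ _ ?_
    convert hfsum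
  -- an element of order seven
  have hseven : ∀ z, z ≠ R.base → Nat.card {x // R.Orb z x} % 7 = 0 := by
    haveI : Fact (Nat.Prime 7) := ⟨by norm_num⟩
    obtain ⟨x7, hx7⟩ := exists_prime_orderOf_dvd_card' (G := R.S.N) 7 (by rw [R.card_N]; norm_num)
    have h7 := R.fix_seven (x7 : G) (by rw [Subgroup.orderOf_coe, hx7])
    haveI := (Nat.card_eq_one_iff_unique.1 h7).1
    intro z hz
    let σ : Equiv.Perm {x // R.Orb z x} := (MulAction.toPerm (x7 : G)).subtypePerm fun x =>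
      ⟨fun h => by simpa using h.smul (R.S.N.inv_mem x7.2), fun h => h.smul x7.2⟩
    have hp : (x7 : G) ^ 7 = 1 := by rw [← hx7, ← Subgroup.orderOf_coe]; exact pow_orderOf_eq_one _
    have hs : σ ^ 7 = 1 := by
      rw [Equiv.Perm.subtypePerm_pow]
      ext x
      simp [← MulAction.toPermHom_apply, ← map_pow, hp]
    have h := CfsgLib.KnownSimple.Order7920.perm_fixed_modEq σ hs
    rw [Nat.ModEq] at h
    rw [h]
    haveI : IsEmpty {x // σ x = x} := ⟨fun x => by
      have e : (⟨x.1.1, congrArg Subtype.val x.2⟩ : MulAction.fixedBy R.S.Pts (x7 : G)) =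
          ⟨R.base, R.smul_base.2 x7.2⟩ := Subsingleton.elim _ _
      have e' : (x.1.1 : R.S.Pts) = R.base := congrArg Subtype.val e
      have h' : R.Orb z x.1.1 := x.1.2
      rw [e'] at h'
      exact hz (hbase z h'.symm)⟩
    rw [Nat.card_of_isEmpty]
  have hB7 := hseven b hb
  rw [hcard, ← hB] at hB7
  have hres := subdegree_search B.card (List.mem_range.2 (by omega)) _ (R.fixE_mem b) _ (R.fixE_mem c)
    (by rw [← hCe]; omega) hB7 (by rw [← hCe]; exact hmod5) hB0 (by omega) (Nat.mod_eq_zero_of_dvd hBd)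
    (by rw [← hCe]; exact Nat.mod_eq_zero_of_dvd hCd)
  have fin : ∀ b c : R.S.Pts, b ≠ R.base → (∀ x, x = R.base ∨ R.Orb b x ∨ R.Orb c x) →
      (∀ x, R.Orb b x → ¬ R.Orb c x) → c ≠ R.base → Nat.card {x // R.Orb b x} = 112 →
      Nat.card {x // R.Orb c x} = 140 → R.fixE b = 1 → R.fixE c = 4 →
      ∃ b, b ≠ R.base ∧ Nat.card {x // R.Orb b x} = 112 ∧
      Nat.card {x // x ≠ R.base ∧ ¬ R.Orb b x} = 140 ∧ R.fixE b = 1 ∧
      (∀ x, x ≠ R.base → ¬ R.Orb b x → R.fixE x = 4) ∧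
      ∀ x y, x ≠ R.base → ¬ R.Orb b x → y ≠ R.base → ¬ R.Orb b y → R.Orb x y := by
    intro b c hb hcov hdisj hc h16 h60 hfb hfc
    refine ⟨b, hb, h16, ?_, hfb, fun x hx1 hx2 => ?_, fun x y hx1 hx2 hy1 hy2 => ?_⟩
    · rw [← h60]
      refine Nat.card_congr (Equiv.subtypeEquivRight fun x => ⟨fun h => ((hcov x).resolve_left h.1).resolve_left h.2,
        fun h => ⟨fun e => hc (hbase c (e ▸ h).symm), fun hh => hdisj x hh h⟩⟩)
    · obtain ⟨n, hn, rfl⟩ := ((hcov x).resolve_left hx1).resolve_left hx2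
      rw [R.fixE_smul hn, hfc]
    · obtain ⟨n, hn, e⟩ := (((hcov x).resolve_left hx1).resolve_left hx2).symm
      obtain ⟨m, hm, e'⟩ := ((hcov y).resolve_left hy1).resolve_left hy2
      exact ⟨m * n, R.S.N.mul_mem hm hn, by rw [mul_smul, e, e']⟩
  rcases hres with ⟨h, h1, h4⟩ | ⟨h, h4, h1⟩
  · exact fin b c hb hcov hdisj hc (by rw [hcard, ← hB]; exact h) (by rw [hcard, ← hC]; omega) h1 h4
  · refine fin c b hc (fun x => ?_) (fun x h1 h2 => hdisj x h2 h1) hb (by rw [hcard, ← hC]; omega)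
      (by rw [hcard, ← hB]; exact h) h1 h4
    rcases hcov x with e | e | e
    exacts [Or.inl e, Or.inr (Or.inr e), Or.inr (Or.inl e)]

end RankData

/-- The rank data with the suborbit of length 112. -/
structure Geo (G : Type w) [Group G] [Fintype G] where
  /-- the rank data -/
  R : RankData G
  /-- a point in the suborbit of length 112 -/
  b : R.S.Pts
  b_ne : b ≠ R.base
  card_orb : Nat.card {x // R.Orb b x} = 112
  card_rest : Nat.card {x // x ≠ R.base ∧ ¬ R.Orb b x} = 140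
  fix_b : R.fixE b = 1
  fix_rest : ∀ x, x ≠ R.base → ¬ R.Orb b x → R.fixE x = 4
  rest_trans : ∀ x y, x ≠ R.base → ¬ R.Orb b x → y ≠ R.base → ¬ R.Orb b y → R.Orb x y

theorem exists_geo (hL : Local G) : Nonempty (Geo G) := by
  obtain ⟨R⟩ := exists_rankData hL
  obtain ⟨b, h1, h2, h3, h4, h5, h6⟩ := R.exists_suborbit
  exact ⟨⟨R, b, h1, h2, h3, h4, h5, h6⟩⟩

namespace Geo

variable (Γ : Geo G)

/-- Lying in the suborbit of length 112. -/
def A (x y : Γ.R.S.Pts) : Prop := ∃ g : G, g • Γ.R.base = x ∧ g • Γ.b = y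

theorem A_smul (g : G) (x y : Γ.R.S.Pts) : Γ.A (g • x) (g • y) ↔ Γ.A x y := by
  refine ⟨?_, ?_⟩
  · rintro ⟨k, e1, e2⟩
    exact ⟨g⁻¹ * k, by rw [mul_smul, e1, inv_smul_smul], by rw [mul_smul, e2, inv_smul_smul]⟩
  · rintro ⟨k, rfl, rfl⟩
    exact ⟨g * k, mul_smul _ _ _, mul_smul _ _ _⟩

theorem A_base (y : Γ.R.S.Pts) : Γ.A Γ.R.base y ↔ Γ.R.Orb Γ.b y :=
  ⟨fun ⟨g, e1, e2⟩ => ⟨g, Γ.R.smul_base.1 e1, e2⟩, fun ⟨n, hn, e⟩ => ⟨n, Γ.R.smul_base.2 hn, e⟩⟩

theorem A_irrefl (x : Γ.R.S.Pts) : ¬ Γ.A x x := by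
  rintro ⟨g, e1, e2⟩
  exact Γ.b_ne (smul_left_cancel g (e2.trans e1.symm))

theorem A_out (x : Γ.R.S.Pts) : Nat.card {y // Γ.A x y} = 112 := by
  obtain ⟨g, rfl⟩ := Γ.R.exists_smul x
  rw [← Γ.card_orb]
  refine (Nat.card_congr (Equiv.subtypeEquiv (MulAction.toPerm g) fun y => ?_)).symm
  rw [MulAction.toPerm_apply, Γ.A_smul, Γ.A_base]

theorem A_symm {x y : Γ.R.S.Pts} (h : Γ.A x y) : Γ.A y x := by
  classical
  haveI : Fintype Γ.R.S.Pts := Fintype.ofFinite _
  have hin : Nat.card {x // Γ.A x Γ.R.base} = 112 := by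
    have hc : ∀ y, Nat.card {x // Γ.A x y} = Nat.card {x // Γ.A x Γ.R.base} := fun y => by
      obtain ⟨g, rfl⟩ := Γ.R.exists_smul y
      refine (Nat.card_congr (Equiv.subtypeEquiv (MulAction.toPerm g) fun x => ?_)).symm
      rw [MulAction.toPerm_apply, Γ.A_smul]
    have e : (Σ x, {y // Γ.A x y}) ≃ Σ y, {x // Γ.A x y} :=
      { toFun := fun p => ⟨p.2.1, p.1, p.2.2⟩
        invFun := fun p => ⟨p.2.1, p.1, p.2.2⟩
        left_inv := fun _ => rfl
        right_inv := fun _ => rfl }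
    have h := Nat.card_congr e
    rw [Nat.card_sigma, Nat.card_sigma, Finset.sum_congr rfl (fun x _ => Γ.A_out x),
      Finset.sum_congr rfl (fun y _ => hc y), Finset.sum_const, Finset.sum_const, smul_eq_mul, smul_eq_mul,
      Finset.card_univ, ← Nat.card_eq_fintype_card, Γ.R.card_pts] at h
    omega
  obtain ⟨g, e1, e2⟩ := id h
  subst e1
  subst e2
  rw [Γ.A_smul]
  by_contra hcon
  obtain ⟨k, hk⟩ := Γ.R.exists_smul Γ.b
  have hz : Γ.A (k⁻¹ • Γ.R.base) Γ.R.base := by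
    have h' : Γ.A Γ.R.base Γ.b := (Γ.A_base Γ.b).2 (RankData.Orb.refl Γ.R Γ.b)
    have := (Γ.A_smul k⁻¹ Γ.R.base Γ.b).2 h'
    rwa [← hk, inv_smul_smul] at this
  have hz1 : k⁻¹ • Γ.R.base ≠ Γ.R.base := fun e => by rw [e] at hz; exact Γ.A_irrefl _ hz
  have hz2 : ¬ Γ.R.Orb Γ.b (k⁻¹ • Γ.R.base) := fun e => hcon (by
    obtain ⟨n, hn, en⟩ := e
    have h1 : Γ.A (n⁻¹ • k⁻¹ • Γ.R.base) (n⁻¹ • Γ.R.base) := (Γ.A_smul n⁻¹ _ _).2 hz
    rwa [← en, inv_smul_smul, Γ.R.smul_base.2 (Γ.R.S.N.inv_mem hn)] at h1)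
  have hle : Nat.card {x // x ≠ Γ.R.base ∧ ¬ Γ.R.Orb Γ.b x} ≤ Nat.card {x // Γ.A x Γ.R.base} := by
    refine Nat.card_le_card_of_injective (fun x => ⟨x.1, ?_⟩) fun x y e => Subtype.ext (congrArg Subtype.val e :)
    obtain ⟨n, hn, en⟩ := Γ.rest_trans _ _ hz1 hz2 x.2.1 x.2.2
    have := (Γ.A_smul n _ _).2 hz
    rwa [en, Γ.R.smul_base.2 hn] at this
  have := Γ.card_rest
  omega

end Geo

end CfsgLib.MTwentyThreeUnique
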