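import Cfsg.Agent.Lib.MTwentyThreeUnique.Degrees
import Cfsg.Agent.Lib.MTwentyTwoUnique.Seven
import Mathlib

/-!
The seventeen irreducible characters and the relations from the two blocks.
-/

set_option autoImplicit false
set_option linter.style.haveILetI false

noncomputable section

namespace CfsgLib.MTwentyThreeUnique

open Subgroup CfsgLib.InvolChar Cfsg
open CfsgLib.MTwentyTwoUnique (SC not_isConj_inv_of_odd)
open CfsgLib.MTwelveUnique (nu nu_eq_zero)
open scoped ComplexConjugate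
attribute [local instance] Classical.propDecidable

variable {G : Type*} [Group G] [Fintype G]

/-- The irreducible characters of the group. -/
structure Table (G : Type*) [Group G] [Fintype G] where
  /-- 22 -/
  a : IrrCharacter G
  /-- 45 -/
  θ : IrrCharacter G
  /-- 45 -/
  θ' : IrrCharacter G
  /-- 230 -/
  e : IrrCharacter G
  /-- 231 -/
  c : IrrCharacter G
  /-- 231 -/
  c' : IrrCharacter G
  /-- 231 -/
  c'' : IrrCharacter G
  /-- 253 -/
  h : IrrCharacter G
  /-- 770 -/
  u : IrrCharacter G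
  /-- 770 -/
  u' : IrrCharacter G
  /-- 896 -/
  q : IrrCharacter G
  /-- 896 -/
  q' : IrrCharacter G
  /-- 990 -/
  g : IrrCharacter G
  /-- 990 -/
  g' : IrrCharacter G
  /-- 1035 -/
  k : IrrCharacter G
  /-- 2024 -/
  z : IrrCharacter G
  deg_all : deg a = 22 ∧ deg θ = 45 ∧ deg θ' = 45 ∧ deg e = 230 ∧ deg c = 231 ∧ deg c' = 231 ∧ deg c'' = 231 ∧
    deg h = 253 ∧ deg u = 770 ∧ deg u' = 770 ∧ deg q = 896 ∧ deg q' = 896 ∧ deg g = 990 ∧ deg g' = 990 ∧
    deg k = 1035 ∧ deg z = 2024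
  sum_all : ∀ {M : Type} [AddCommMonoid M] (F : IrrCharacter G → M), ∑ χ, F χ = F CfsgLib.Char.irrOne + F a +
    F θ + F θ' + F e + F c + F c' + F c'' + F h + F u + F u' + F q + F q' + F g + F g' + F k + F z
  rel23 : ∀ x : G, ¬ 23 ∣ orderOf x → (u : G → ℂ) x = 1 - (a : G → ℂ) x - (θ : G → ℂ) x - (θ' : G → ℂ) x +
    (c : G → ℂ) x + (c' : G → ℂ) x + (c'' : G → ℂ) x - (q : G → ℂ) x - (q' : G → ℂ) x + (g : G → ℂ) x +
      (g' : G → ℂ) x ∧ (u' : G → ℂ) x = (u : G → ℂ) x
  rel11 : ∀ x : G, ¬ 11 ∣ orderOf x → (q : G → ℂ) x = 1 + (θ : G → ℂ) x + (θ' : G → ℂ) x - (e : G → ℂ) x +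
    (k : G → ℂ) x ∧ (q' : G → ℂ) x = (q : G → ℂ) x
  nu_zero : nu θ = 0 ∧ nu θ' = 0 ∧ nu u = 0 ∧ nu u' = 0 ∧ nu q = 0 ∧ nu q' = 0 ∧ nu g = 0 ∧ nu g' = 0
  sq23 : ∀ y : G, y * y = 1 → ∀ v : IrrCharacter G → ℤ,
    (∀ χ : IrrCharacter G, (χ : G → ℂ) y = (v χ : ℂ)) →
      443520 - 20160 * v a * v a - 9856 * (v θ * v θ + v θ' * v θ') + 1920 * (v c * v c + v c' * v c' +
        v c'' * v c'') - 495 * (v q * v q + v q' * v q') + 448 * (v g * v g + v g' * v g') - 576 * v u * v u = 0
  sq11 : ∀ y : G, y * y = 1 → ∀ v : IrrCharacter G → ℤ,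
    (∀ χ : IrrCharacter G, (χ : G → ℂ) y = (v χ : ℂ)) →
      927360 + 20608 * (v θ * v θ + v θ' * v θ') - 4032 * v e * v e + 896 * v k * v k -
        1035 * v q * v q = 0

/-- The exceptional characters are not real. -/
theorem nu_of_two {p e : ℕ} [Fact p.Prime] (B : SC G p e) (he : ¬ p ∣ e) (hY : B.Y.card = 2)
    {x : G} (hx : orderOf x = p) (hinv : ¬ IsConj x x⁻¹) :
    ∀ θ ∈ B.Y, nu θ = 0 := by
  classical
  obtain ⟨θ, θ', hne, hYe⟩ := Finset.card_eq_two.mp hY
  by_contra hc
  push Not at hc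
  obtain ⟨η, hη, hnu⟩ := hc
  have hreal : conj ((η : G → ℂ) x) = (η : G → ℂ) x := by
    by_contra h
    exact hnu (nu_eq_zero h)
  have hsum := B.sum_Y he hx
  rw [hYe, Finset.sum_pair hne] at hsum
  have hboth : conj ((θ : G → ℂ) x) = (θ : G → ℂ) x ∧ conj ((θ' : G → ℂ) x) = (θ' : G → ℂ) x := by
    have hc := congrArg conj hsum
    rw [map_add, map_neg, map_intCast] at hc
    rw [hYe, Finset.mem_insert, Finset.mem_singleton] at hη
    rcases hη with rfl | rfl
    · exact ⟨hreal, by linear_combination hc - hsum - hreal⟩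
    · exact ⟨by linear_combination hc - hsum - hreal, hreal⟩
  refine hinv ((CfsgLib.Char.isConj_iff_forall_irr x x⁻¹).mpr fun χ => ?_)
  rw [CfsgLib.Char.char_inv (CfsgLib.Char.isCharacter_of_isIrr χ.2)]
  by_cases hX : χ ∈ B.X
  · rw [B.val_X χ hX x hx, map_intCast]
  by_cases hY' : χ ∈ B.Y
  · rw [hYe, Finset.mem_insert, Finset.mem_singleton] at hY'
    rcases hY' with rfl | rfl
    · exact hboth.1.symm
    · exact hboth.2.symm
  · rw [B.out_zero χ hX hY' x hx, map_zero]

theorem not_conj_inv_of {x : G} {p : ℕ} (hx : orderOf x = p) (hp : 3 ≤ p) {N : ℕ}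
    (hN : Nat.card (normalizer ((zpowers x : Subgroup G) : Set G)) = N) (hodd : N % 2 = 1) :
    ¬ IsConj x x⁻¹ := by
  refine not_isConj_inv_of_odd hN hodd fun h => ?_
  have := orderOf_dvd_of_pow_eq_one (x := x) (n := 2) (by rw [sq]; exact h)
  rw [hx] at this
  have := Nat.le_of_dvd (by norm_num) this
  omega

variable (hL : Local G)
include hL

theorem card_fibre (d : ℕ) :
    (Finset.univ.filter fun χ : IrrCharacter G => deg χ = d).card = degrees.count d := by
  rw [← Multiset.coe_count, ← degrees_eq hL, Multiset.count_map]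
  simp only [eq_comm (a := d)]
  rfl

/-- The weights at an element of order seven are attained. -/
theorem seven_norms {x : G} (hx : orderOf x = 7) (χ : IrrCharacter G) :
    (χ : G → ℂ) x * conj ((χ : G → ℂ) x) = (wSeven (deg χ) : ℂ) := by
  choose g N hg hN h1 h2 using fun χ => seven_value hL hx χ
  have h0 : ∀ χ, 0 ≤ N χ := fun χ => by
    have := congrArg Complex.re (hN χ)
    rw [Complex.mul_conj] at this
    simp only [Complex.ofReal_re, Complex.intCast_re] at this
    exact_mod_cast (this ▸ Complex.normSq_nonneg _ : (0 : ℝ) ≤ (N χ : ℝ))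
  have hs : ∑ χ, N χ = 14 := by
    have h := CfsgLib.Char.second_orthogonality x x
    rw [if_pos (IsConj.refl x), (hL.seven x hx).1] at h
    simp only [hN] at h
    exact_mod_cast h
  have hw : ∑ η : IrrCharacter G, wSeven (deg η) = 14 := by
    rw [show ∑ η : IrrCharacter G, wSeven (deg η) =
      (((Finset.univ : Finset (IrrCharacter G)).val.map deg).map wSeven).sum by
        rw [Multiset.map_map]; rfl, degrees_eq hL, Multiset.map_coe, Multiset.sum_coe]
    rfl
  have hw' : ∑ η : IrrCharacter G, (wSeven (deg η) : ℤ) = ∑ η, N η := by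
    rw [hs, ← Nat.cast_sum, hw]; rfl
  have := (Finset.sum_eq_sum_iff_of_le fun η _ => wSeven_le (h0 η) (h2 η)).1 hw' χ (Finset.mem_univ χ)
  rw [hN, ← this, Int.cast_natCast]

/-- A weight two at an element of order seven makes the character non-real. -/
theorem nu_of_weight_two {χ : IrrCharacter G} (h : wSeven (deg χ) = 2) : nu χ = 0 := by
  obtain ⟨x, hx⟩ := exists_prime_orderOf_dvd_card' (G := G) 7 (hp := ⟨by norm_num⟩) (by rw [hL.card]; norm_num)
  refine nu_eq_zero (g := x) fun hreal => ?_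
  obtain ⟨g, N, hg, hN, -, -⟩ := seven_value hL hx χ
  have h2 := seven_norms hL hx χ
  rw [h] at h2
  rw [hreal] at hg h2
  set w := (χ : G → ℂ) x with hw
  have hgg : ((g * g : ℤ) : ℂ) = ((8 : ℤ) : ℂ) := by
    push_cast at h2 ⊢
    rw [← hg]
    linear_combination 4 * h2
  have hgg' : g * g = 8 := by exact_mod_cast hgg
  have : -3 ≤ g ∧ g ≤ 3 := ⟨by nlinarith, by nlinarith⟩
  obtain ⟨l1, l2⟩ := this
  interval_cases g <;> omega

set_option maxHeartbeats 1000000 in
/-- The seventeen characters. -/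
theorem exists_table : Nonempty (Table G) := by
  classical
  haveI : Fact (Nat.Prime 23) := ⟨by norm_num⟩
  haveI : Fact (Nat.Prime 11) := ⟨by norm_num⟩
  obtain ⟨A⟩ := exists_blk23 hL
  obtain ⟨B⟩ := exists_blk11 hL
  obtain ⟨x23, hx23⟩ := exists_prime_orderOf_dvd_card' (G := G) 23 (by rw [hL.card]; norm_num)
  obtain ⟨x11, hx11⟩ := exists_prime_orderOf_dvd_card' (G := G) 11 (by rw [hL.card]; norm_num)
  have hone : (Finset.univ.filter fun χ : IrrCharacter G => deg χ = 1) = {CfsgLib.Char.irrOne} := by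
    obtain ⟨o, ho⟩ := Finset.card_eq_one.1 (card_fibre hL 1)
    rw [ho]
    have : CfsgLib.Char.irrOne ∈ ({o} : Finset (IrrCharacter G)) := ho ▸ by simp [deg_irrOne]
    rw [Finset.mem_singleton.1 this]
  obtain ⟨a, ha⟩ := Finset.card_eq_one.1 (card_fibre hL 22)
  obtain ⟨θ, θ', hθ, hθs⟩ := Finset.card_eq_two.1 (card_fibre hL 45)
  obtain ⟨e, he⟩ := Finset.card_eq_one.1 (card_fibre hL 230)
  obtain ⟨c, c', c'', hc1, hc2, hc3, hcs⟩ := Finset.card_eq_three.1 (card_fibre hL 231)
  obtain ⟨h, hh⟩ := Finset.card_eq_one.1 (card_fibre hL 253)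
  obtain ⟨u, u', hu, hus⟩ := Finset.card_eq_two.1 (card_fibre hL 770)
  obtain ⟨q, q', hq, hqs⟩ := Finset.card_eq_two.1 (card_fibre hL 896)
  obtain ⟨g, g', hg, hgs⟩ := Finset.card_eq_two.1 (card_fibre hL 990)
  obtain ⟨k, hk⟩ := Finset.card_eq_one.1 (card_fibre hL 1035)
  obtain ⟨z, hz⟩ := Finset.card_eq_one.1 (card_fibre hL 2024)
  have hd : ∀ {d : ℕ} {s : Finset (IrrCharacter G)}, (Finset.univ.filter fun χ : IrrCharacter G => deg χ = d) = s →
      ∀ {χ}, χ ∈ s → deg χ = d := by
    intro d s e χ h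
    rw [← e] at h
    exact (Finset.mem_filter.1 h).2
  have da := hd ha (Finset.mem_singleton_self a)
  have de := hd he (Finset.mem_singleton_self e)
  have dh := hd hh (Finset.mem_singleton_self h)
  have dk := hd hk (Finset.mem_singleton_self k)
  have dz := hd hz (Finset.mem_singleton_self z)
  have dθ := hd hθs (Finset.mem_insert_self θ _)
  have dθ' : deg θ' = 45 := hd hθs (by simp)
  have dc := hd hcs (Finset.mem_insert_self c _)
  have dc' : deg c' = 231 := hd hcs (by simp)
  have dc'' : deg c'' = 231 := hd hcs (by simp)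
  have du := hd hus (Finset.mem_insert_self u _)
  have du' : deg u' = 770 := hd hus (by simp)
  have dq := hd hqs (Finset.mem_insert_self q _)
  have dq' : deg q' = 896 := hd hqs (by simp)
  have dg := hd hgs (Finset.mem_insert_self g _)
  have dg' : deg g' = 990 := hd hgs (by simp)
  have hmem : ∀ χ : IrrCharacter G, deg χ ∈ ({1, 22, 45, 230, 231, 253, 770, 896, 990, 1035, 2024} : Finset ℕ) := by
    intro χ
    have : deg χ ∈ (degrees : Multiset ℕ) := degrees_eq hL ▸ Multiset.mem_map_of_mem deg (Finset.mem_univ χ)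
    simp [degrees] at this ⊢
    tauto
  have hall : ∀ {M : Type} [AddCommMonoid M] (F : IrrCharacter G → M), ∑ χ, F χ = F CfsgLib.Char.irrOne + F a +
      F θ + F θ' + F e + F c + F c' + F c'' + F h + F u + F u' + F q + F q' + F g + F g' + F k + F z := by
    intro M _ F
    rw [← Finset.sum_fiberwise_of_maps_to (fun χ _ => hmem χ) F]
    simp only [Finset.mem_insert, Finset.mem_singleton, Nat.reduceEqDiff, or_self, not_false_eq_true,
      Finset.sum_insert, Finset.sum_singleton, hone, ha, he, hh, hk, hz, hθs, hcs, hus, hqs, hgs, hθ, hc1, hc2,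
      hc3, hu, hq, hg]
    abel
  -- the two blocks by degree
  have hA : ∀ χ : IrrCharacter G, (χ ∈ A.X ↔ deg χ ∈ [1, 22, 45, 231, 896, 990]) ∧ (χ ∈ A.Y ↔ deg χ = 770) ∧
      (χ ∈ A.X → A.s χ = if deg χ % 23 = 1 then 1 else -1) := by
    intro χ
    have hX := (res_mem A (by norm_num) (by norm_num) (χ := χ)).1
    have hY := (res_mem A (by norm_num) (by norm_num) (χ := χ)).2
    have hin : ¬ 23 ∣ deg χ → χ ∈ A.X ∨ χ ∈ A.Y := fun h => Finset.mem_union.1 (A.mem_of_not_dvd h)
    have hd := hmem χ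
    simp only [Finset.mem_insert, Finset.mem_singleton] at hd
    have hXr : χ ∈ A.X → deg χ % 23 = 1 ∨ deg χ % 23 = 22 := fun h => by simpa using (hX h).1
    have hYr : χ ∈ A.Y → deg χ % 23 = 11 ∨ deg χ % 23 = 12 := fun h => by
      obtain ⟨e1, e2⟩ := hY h
      rw [e1]; split_ifs at e2 <;> omega
    refine ⟨⟨fun h => ?_, fun h => ?_⟩, ⟨fun h => ?_, fun h => ?_⟩, fun h => ?_⟩
    · have := hXr h
      rcases hd with e | e | e | e | e | e | e | e | e | e | e <;> rw [e] at this ⊢ <;> simp at this ⊢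
    · simp only [List.mem_cons, List.not_mem_nil, or_false] at h
      refine (hin (by omega)).resolve_right fun h' => ?_
      have := hYr h'
      omega
    · have := hYr h
      omega
    · refine (hin (by omega)).resolve_left fun h' => ?_
      have := hXr h'
      omega
    · have := (hX h).2
      have hpos := deg_pos χ
      rcases A.s_sq χ h with e1 | e1 <;> rw [e1] at this ⊢ <;> simp only [sgd] at this <;>
        split_ifs at this ⊢ <;> omega
  have hB : ∀ χ : IrrCharacter G, (χ ∈ B.X ↔ deg χ ∈ [1, 45, 230, 1035]) ∧ (χ ∈ B.Y ↔ deg χ = 896) ∧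
      (χ ∈ B.X → B.s χ = if deg χ % 11 = 1 then 1 else -1) := by
    intro χ
    have hX := (res_mem B (by norm_num) (by norm_num) (χ := χ)).1
    have hY := (res_mem B (by norm_num) (by norm_num) (χ := χ)).2
    have hin : ¬ 11 ∣ deg χ → χ ∈ B.X ∨ χ ∈ B.Y := fun h => Finset.mem_union.1 (B.mem_of_not_dvd h)
    have hd := hmem χ
    simp only [Finset.mem_insert, Finset.mem_singleton] at hd
    have hXr : χ ∈ B.X → deg χ % 11 = 1 ∨ deg χ % 11 = 10 := fun h => by simpa using (hX h).1
    have hYr : χ ∈ B.Y → deg χ % 11 = 5 ∨ deg χ % 11 = 6 := fun h => by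
      obtain ⟨e1, e2⟩ := hY h
      rw [e1]; split_ifs at e2 <;> omega
    refine ⟨⟨fun h => ?_, fun h => ?_⟩, ⟨fun h => ?_, fun h => ?_⟩, fun h => ?_⟩
    · have := hXr h
      rcases hd with e | e | e | e | e | e | e | e | e | e | e <;> rw [e] at this ⊢ <;> simp at this ⊢
    · simp only [List.mem_cons, List.not_mem_nil, or_false] at h
      refine (hin (by omega)).resolve_right fun h' => ?_
      have := hYr h'
      omega
    · have := hYr h
      omega
    · refine (hin (by omega)).resolve_left fun h' => ?_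
      have := hXr h'
      omega
    · have := (hX h).2
      have hpos := deg_pos χ
      rcases B.s_sq χ h with e1 | e1 <;> rw [e1] at this ⊢ <;> simp only [sgd] at this <;>
        split_ifs at this ⊢ <;> omega
  have hAX : ∀ {M : Type} [AddCommMonoid M] (F : IrrCharacter G → M), ∑ χ ∈ A.X, F χ =
      F CfsgLib.Char.irrOne + F a + F θ + F θ' + F c + F c' + F c'' + F q + F q' + F g + F g' := by
    intro M _ F
    rw [show A.X = Finset.univ.filter (fun χ : IrrCharacter G => deg χ ∈ [1, 22, 45, 231, 896, 990]) from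
      Finset.ext fun χ => by rw [(hA χ).1]; simp, Finset.sum_filter, hall]
    simp [deg_irrOne, da, dθ, dθ', de, dc, dc', dc'', dh, du, du', dq, dq', dg, dg', dk, dz]
  have hBX : ∀ {M : Type} [AddCommMonoid M] (F : IrrCharacter G → M), ∑ χ ∈ B.X, F χ =
      F CfsgLib.Char.irrOne + F θ + F θ' + F e + F k := by
    intro M _ F
    rw [show B.X = Finset.univ.filter (fun χ : IrrCharacter G => deg χ ∈ [1, 45, 230, 1035]) from
      Finset.ext fun χ => by rw [(hB χ).1]; simp, Finset.sum_filter, hall]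
    simp [deg_irrOne, da, dθ, dθ', de, dc, dc', dc'', dh, du, du', dq, dq', dg, dg', dk, dz]
  have huA : u ∈ A.Y ∧ u' ∈ A.Y := ⟨(hA u).2.1.2 du, (hA u').2.1.2 du'⟩
  have hqB : q ∈ B.Y ∧ q' ∈ B.Y := ⟨(hB q).2.1.2 dq, (hB q').2.1.2 dq'⟩
  have hAY : A.Y = {u, u'} := (Finset.eq_of_subset_of_card_le
    (by intro χ hχ; rcases Finset.mem_insert.1 hχ with rfl | h'
        · exact huA.1
        · rw [Finset.mem_singleton.1 h']; exact huA.2)
    (by rw [A.card_Y, Finset.card_pair hu])).symm
  have hBY : B.Y = {q, q'} := (Finset.eq_of_subset_of_card_le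
    (by intro χ hχ; rcases Finset.mem_insert.1 hχ with rfl | h'
        · exact hqB.1
        · rw [Finset.mem_singleton.1 h']; exact hqB.2)
    (by rw [B.card_Y, Finset.card_pair hq])).symm
  have sA : ∀ (χ : IrrCharacter G) (d : ℕ), deg χ = d → d ∈ [1, 22, 45, 231, 896, 990] →
      A.s χ = if d % 23 = 1 then 1 else -1 := fun χ d h1 h2 => h1 ▸ (hA χ).2.2 ((hA χ).1.2 (h1 ▸ h2))
  have sB : ∀ (χ : IrrCharacter G) (d : ℕ), deg χ = d → d ∈ [1, 45, 230, 1035] →
      B.s χ = if d % 11 = 1 then 1 else -1 := fun χ d h1 h2 => h1 ▸ (hB χ).2.2 ((hB χ).1.2 (h1 ▸ h2))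
  have sA1 := sA _ _ deg_irrOne (by simp)
  have sAa := sA a _ da (by simp); have sAt := sA θ _ dθ (by simp); have sAt' := sA θ' _ dθ' (by simp)
  have sAc := sA c _ dc (by simp); have sAc' := sA c' _ dc' (by simp); have sAc'' := sA c'' _ dc'' (by simp)
  have sAq := sA q _ dq (by simp); have sAq' := sA q' _ dq' (by simp)
  have sAg := sA g _ dg (by simp); have sAg' := sA g' _ dg' (by simp)
  have sB1 := sB _ _ deg_irrOne (by simp)
  have sBt := sB θ _ dθ (by simp); have sBt' := sB θ' _ dθ' (by simp)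
  have sBe := sB e _ de (by simp); have sBk := sB k _ dk (by simp)
  norm_num at sA1 sAa sAt sAt' sAc sAc' sAc'' sAq sAq' sAg sAg' sB1 sBt sBt' sBe sBk
  have hεA : A.ε = 1 := by
    have h := A.deg_rel huA.1 (by norm_num)
    rw [hAX, ← A.deg_Y u huA.1] at h
    simp only [deg_irrOne, da, dθ, dθ', dc, dc', dc'', dq, dq', dg, dg', du, sA1, sAa, sAt, sAt', sAc, sAc',
      sAc'', sAq, sAq', sAg, sAg'] at h
    rcases A.ε_sq with e1 | e1
    · exact e1
    · rw [e1] at h; norm_num at h
  have hεB : B.ε = 1 := by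
    have h := B.deg_rel hqB.1 (by norm_num)
    rw [hBX, ← B.deg_Y q hqB.1] at h
    simp only [deg_irrOne, dθ, dθ', de, dk, dq, sB1, sBt, sBt', sBe, sBk] at h
    rcases B.ε_sq with e1 | e1
    · exact e1
    · rw [e1] at h; norm_num at h
  have hinv23 := not_conj_inv_of hx23 (by norm_num) (hL.twentyThree x23 hx23).2 (by norm_num)
  have hinv11 := not_conj_inv_of hx11 (by norm_num) (hL.eleven x11 hx11).2 (by norm_num)
  have nA := nu_of_two A (by norm_num) (by rw [A.card_Y]) hx23 hinv23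
  have nB := nu_of_two B (by norm_num) (by rw [B.card_Y]) hx11 hinv11
  refine ⟨{
    a := a, θ := θ, θ' := θ', e := e, c := c, c' := c', c'' := c'', h := h, u := u, u' := u', q := q,
    q' := q', g := g, g' := g', k := k, z := z
    deg_all := ⟨da, dθ, dθ', de, dc, dc', dc'', dh, du, du', dq, dq', dg, dg', dk, dz⟩
    sum_all := hall
    rel23 := fun x hx => ⟨?_, A.Y_eq u' huA.2 u huA.1 x hx⟩
    rel11 := fun x hx => ⟨?_, B.Y_eq q' hqB.2 q hqB.1 x hx⟩
    nu_zero := ⟨nu_of_weight_two hL (by rw [dθ]; rfl), nu_of_weight_two hL (by rw [dθ']; rfl), nA u huA.1,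
      nA u' huA.2, nB q hqB.1, nB q' hqB.2, nu_of_weight_two hL (by rw [dg]; rfl),
      nu_of_weight_two hL (by rw [dg']; rfl)⟩
    sq23 := fun y hy v hv => ?_
    sq11 := fun y hy v hv => ?_ }⟩
  · have h := A.rel u huA.1 x hx
    rw [hAX, hεA, CfsgLib.Char.irrOne_apply] at h
    simp only [sA1, sAa, sAt, sAt', sAc, sAc', sAc'', sAq, sAq', sAg, sAg', Int.cast_one, Int.cast_neg] at h
    linear_combination h
  · have h := B.rel q hqB.1 x hx
    rw [hBX, hεB, CfsgLib.Char.irrOne_apply] at h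
    simp only [sB1, sBt, sBt', sBe, sBk, Int.cast_one, Int.cast_neg] at h
    linear_combination h
  · have hy23 : ¬ 23 ∣ orderOf y := fun h => by
      have := Nat.le_of_dvd (by norm_num) (h.trans (orderOf_dvd_of_pow_eq_one (n := 2) (by rw [sq]; exact hy)))
      omega
    have hvY : ∀ η ∈ A.Y, v η = v u := fun η hη => by
      have h := A.Y_eq η hη u huA.1 y hy23
      rw [hv, hv] at h
      exact_mod_cast h
    have h := A.square_rel (by norm_num) hx23 hinv23 hy v hv (v u) hvY
    have h1 : v CfsgLib.Char.irrOne = 1 := by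
      have := hv CfsgLib.Char.irrOne
      rw [CfsgLib.Char.irrOne_apply] at this
      exact_mod_cast this.symm
    rw [hAX, hεA, ← A.deg_Y u huA.1] at h
    simp only [deg_irrOne, da, dθ, dθ', dc, dc', dc'', dq, dq', dg, dg', du, sA1, sAa, sAt, sAt', sAc, sAc',
      sAc'', sAq, sAq', sAg, sAg', h1] at h
    push_cast at h
    have : (((443520 - 20160 * v a * v a - 9856 * (v θ * v θ + v θ' * v θ') + 1920 * (v c * v c + v c' * v c' +
        v c'' * v c'') - 495 * (v q * v q + v q' * v q') + 448 * (v g * v g + v g' * v g') - 576 * v u * v u : ℤ)) : ℚ)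
        = 0 := by
      push_cast; linear_combination 443520 * h
    exact_mod_cast this
  · have hy11 : ¬ 11 ∣ orderOf y := fun h => by
      have := Nat.le_of_dvd (by norm_num) (h.trans (orderOf_dvd_of_pow_eq_one (n := 2) (by rw [sq]; exact hy)))
      omega
    have hvY : ∀ η ∈ B.Y, v η = v q := fun η hη => by
      have h := B.Y_eq η hη q hqB.1 y hy11
      rw [hv, hv] at h
      exact_mod_cast h
    have h := B.square_rel (by norm_num) hx11 hinv11 hy v hv (v q) hvY
    have h1 : v CfsgLib.Char.irrOne = 1 := by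
      have := hv CfsgLib.Char.irrOne
      rw [CfsgLib.Char.irrOne_apply] at this
      exact_mod_cast this.symm
    rw [hBX, hεB, ← B.deg_Y q hqB.1] at h
    simp only [deg_irrOne, dθ, dθ', de, dk, dq, sB1, sBt, sBt', sBe, sBk, h1] at h
    push_cast at h
    have : (((927360 + 20608 * (v θ * v θ + v θ' * v θ') - 4032 * v e * v e + 896 * v k * v k -
        1035 * v q * v q : ℤ)) : ℚ) = 0 := by
      push_cast; linear_combination 927360 * h
    exact_mod_cast this

end CfsgLib.MTwentyThreeUnique
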