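import Cfsg.Agent.Lib.MTwentyThreeUnique.Gram
import Mathlib

/-!
A point of the long suborbit has four neighbours in three classes and twelve in the other four.
-/

set_option autoImplicit false
set_option linter.style.haveILetI false

noncomputable section

namespace CfsgLib.MTwentyThreeUnique

open Subgroup Cfsg
attribute [local instance] Classical.propDecidable

universe w

variable {G : Type w} [Group G] [Fintype G]

namespace Geo

variable (Γ : Geo G)

theorem E_inv {e : G} (he : e ∈ Γ.R.S.E) : e⁻¹ = e := inv_eq_of_mul_eq_one_right (Γ.R.S.sq_E e he)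

theorem rest_smul {n : G} (hn : n ∈ Γ.R.S.N) {D : Γ.R.S.Pts} (h1 : D ≠ Γ.R.base) (h2 : ¬ Γ.R.Orb Γ.b D) :
    n • D ≠ Γ.R.base ∧ ¬ Γ.R.Orb Γ.b (n • D) :=
  ⟨fun e => h1 (by rw [← inv_smul_smul n D, e, Γ.R.smul_base.2 (inv_mem hn)]),
    fun e => h2 (by simpa using e.smul (inv_mem hn))⟩

theorem pos_A {D : Γ.R.S.Pts} (h1 : D ≠ Γ.R.base) (h2 : ¬ Γ.R.Orb Γ.b D) : ¬ Γ.A Γ.R.base D :=
  fun h => h2 ((Γ.A_base D).1 h)

theorem nadj_four_dvd {D : Γ.R.S.Pts} (h1 : D ≠ Γ.R.base) (h2 : ¬ Γ.R.Orb Γ.b D) (q : Γ.Cls) :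
    4 ∣ Γ.nadj D q ∧ Γ.nadj D q ≤ 16 := by
  classical
  refine ⟨?_, ?_⟩
  · obtain ⟨n, rfl⟩ := QuotientGroup.mk_surjective q
    rw [Γ.nadj_rep]
    obtain ⟨d1, d2⟩ := Γ.rest_smul (inv_mem n.2) h1 h2
    set D' := (n : G)⁻¹ • D with hD'
    set W : Subgroup Γ.R.S.E := (MulAction.stabilizer G D').subgroupOf Γ.R.S.E with hW
    have hWc : Nat.card W = 4 := by
      rw [← Γ.fix_rest D' d1 d2]
      exact Nat.card_congr (Equiv.subtypeEquivRight fun e => by
        show (e : G) ∈ MulAction.stabilizer G D' ↔ _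
        exact MulAction.mem_stabilizer_iff)
    set S : Set Γ.R.S.E := {e | Γ.A D' ((e : G) • Γ.b)} with hS
    have hpre : (QuotientGroup.mk : Γ.R.S.E → Γ.R.S.E ⧸ W) ⁻¹' (QuotientGroup.mk '' S) = S := by
      refine Set.Subset.antisymm ?_ (Set.subset_preimage_image _ _)
      rintro e ⟨f, hf, hfe⟩
      have hw := QuotientGroup.eq.1 hfe
      set w := f⁻¹ * e with hwdef
      have hwD : (w : G) • D' = D' := MulAction.mem_stabilizer_iff.1 hw
      have hcomm : (e : G) = (w : G) * (f : G) := by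
        rw [← (Γ.R.S.comm_E _ f.2 _ w.2).eq]
        simp [hwdef]
      show Γ.A D' ((e : G) • Γ.b)
      rw [hcomm, mul_smul]
      conv => arg 2; rw [← hwD]
      exact (Γ.A_smul _ _ _).2 hf
    have h := QuotientGroup.card_preimage_mk W (QuotientGroup.mk '' S)
    rw [hpre, hWc] at h
    exact ⟨_, (show Nat.card {e : Γ.R.S.E // Γ.A D' ((e : G) • Γ.b)} = Nat.card S from rfl).trans h⟩
  · rw [nadj, ← Γ.R.S.card_E]
    exact Nat.card_le_card_of_injective _ Subtype.val_injective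

variable (hL : Local G)
include hL

theorem no_adj_class {e : G} (he : e ∈ Γ.R.S.E) (he1 : e ≠ 1) : ¬ Γ.A Γ.b (e • Γ.b) := by
  classical
  haveI : Fintype Γ.R.S.Pts := Fintype.ofFinite _
  intro hA
  have hall := Γ.adj_class hL ⟨e, he, he1, hA⟩
  have h := (Γ.quad hL (fun f : Γ.R.S.E => (f : G) • Γ.b) fun _ => 1).1
  have hrow : ∀ f : Γ.R.S.E, ∑ f' : Γ.R.S.E, (1 : ℤ) * 1 * Γ.F ((f : G) • Γ.b) ((f' : G) • Γ.b) = -139 := by
    intro f
    rw [← Finset.add_sum_erase _ _ (Finset.mem_univ f), F_self,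
      Finset.sum_congr rfl (g := fun _ => (-13 : ℤ)) fun f' hf' => ?_, Finset.sum_const,
      Finset.card_erase_of_mem (Finset.mem_univ _), Finset.card_univ, ← Nat.card_eq_fintype_card, Γ.R.S.card_E]
    · norm_num
    have hne : (f' : G) * f ≠ 1 := fun e => Finset.ne_of_mem_erase hf' (Subtype.ext (by
      rw [mul_eq_one_iff_eq_inv.1 e, Γ.E_inv f.2]))
    have h' := hall _ (mul_mem f'.2 f.2) hne
    rw [one_mul, one_mul, F_adj]
    rw [(Γ.R.S.comm_E _ f'.2 _ f.2).eq] at h'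
    have := (Γ.A_smul (f : G) _ _).2 h'
    rwa [← mul_smul, ← mul_assoc, Γ.R.S.sq_E _ f.2, one_mul] at this
  rw [Finset.sum_congr rfl fun f _ => hrow f, Finset.sum_const, Finset.card_univ, ← Nat.card_eq_fintype_card,
    Γ.R.S.card_E] at h
  norm_num at h

set_option maxHeartbeats 800000 in
theorem nadj_values {D : Γ.R.S.Pts} (h1 : D ≠ Γ.R.base) (h2 : ¬ Γ.R.Orb Γ.b D) :
    Nat.card {q // Γ.nadj D q = 4} = 3 ∧ ∀ q, Γ.nadj D q = 4 ∨ Γ.nadj D q = 12 := by
  classical
  haveI : Fintype Γ.Cls := Fintype.ofFinite _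
  have h7 : Fintype.card Γ.Cls = 7 := by rw [← Nat.card_eq_fintype_card, Γ.card_Cls]
  set J : Subgroup Γ.R.S.N := MulAction.stabilizer Γ.R.S.N D with hJ
  have hJc : Nat.card J = 288 := by
    haveI : Fintype Γ.R.S.Pts := Fintype.ofFinite _
    have h := J.card_mul_index
    rw [hJ, MulAction.index_stabilizer, Γ.R.card_N, ← hJ] at h
    have horb : (MulAction.orbit Γ.R.S.N D).ncard = 140 := by
      rw [← Nat.card_coe_set_eq, ← Γ.card_rest]
      refine Nat.card_congr (Equiv.subtypeEquivRight fun x => ⟨?_, fun hx => ?_⟩)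
      · rintro ⟨n, rfl⟩
        exact Γ.rest_smul n.2 h1 h2
      · obtain ⟨n, hn, e⟩ := Γ.rest_trans D x h1 h2 hx.1 hx.2
        exact ⟨⟨n, hn⟩, e⟩
    rw [horb] at h
    omega
  set φ := Γ.act.comp J.subtype with hφ
  have hker : Nat.card φ.ker = 4 := by
    rw [← Γ.fix_rest D h1 h2]
    refine Nat.card_congr
      { toFun := fun n => ⟨⟨((n : J) : Γ.R.S.N), ?_⟩, (n : J).2⟩
        invFun := fun e => ⟨⟨⟨(e.1 : G), Subgroup.le_normalizer e.1.2⟩, e.2⟩, Γ.E_le_ker (show (e.1 : G) ∈ Γ.R.S.E from e.1.2)⟩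
        left_inv := fun _ => rfl
        right_inv := fun _ => rfl }
    have : ((n : J) : Γ.R.S.N) ∈ Γ.act.ker := n.2
    rw [Γ.ker_act hL, mem_subgroupOf] at this
    exact this
  have hH : Nat.card φ.range = 72 := by
    have h := φ.ker.card_mul_index
    rw [Subgroup.index_ker, hker, hJc] at h
    omega
  have hHle : φ.range ≤ alternatingGroup Γ.Cls := by
    rintro _ ⟨n, rfl⟩
    have : Γ.act (n : Γ.R.S.N) ∈ Γ.act.range := ⟨_, rfl⟩
    rw [Γ.range_act hL] at this
    show Γ.act (n : Γ.R.S.N) ∈ _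
    convert this
  have hlev : ∀ v, (Finset.univ.filter fun q => Γ.nadj D q = v).card = 0 ∨
      (Finset.univ.filter fun q => Γ.nadj D q = v).card = 3 ∨ (Finset.univ.filter fun q => Γ.nadj D q = v).card = 4 ∨
      (Finset.univ.filter fun q => Γ.nadj D q = v).card = 7 := fun v =>
    AltSeven.card_invariant h7 hHle hH _ (by
      rintro _ ⟨n, rfl⟩ q hq
      simp only [Finset.mem_filter, Finset.mem_univ, true_and] at hq ⊢
      have e := Γ.nadj_act (n : Γ.R.S.N) D q
      rw [show ((n : Γ.R.S.N) : G) • D = D from n.2] at e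
      exact e.trans hq)
  have hsum : ∑ q, Γ.nadj D q = 60 := by
    rw [← Γ.common_eq_sum]
    exact (Γ.srg hL).2 _ _ h1.symm (Γ.pos_A h1 h2)
  have hpos : ∀ q, 0 < (Finset.univ.filter fun p => Γ.nadj D p = Γ.nadj D q).card := fun q =>
    Finset.card_pos.2 ⟨q, by simp⟩
  have hdj : ∀ u v : ℕ, u ≠ v → Disjoint (Finset.univ.filter fun p => Γ.nadj D p = u)
      (Finset.univ.filter fun p => Γ.nadj D p = v) := fun u v huv => by
    rw [Finset.disjoint_left]
    intro p hp hp'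
    simp only [Finset.mem_filter, Finset.mem_univ, true_and] at hp hp'
    exact huv (hp ▸ hp')
  obtain ⟨q⟩ : Nonempty Γ.Cls := ⟨Γ.q₀⟩
  set u := Γ.nadj D q with hu
  set U := Finset.univ.filter fun p => Γ.nadj D p = u with hU
  have hU7 : U.card ≠ 7 := fun e => by
    have hall : ∀ p, Γ.nadj D p = u := fun p => by
      have := (Finset.card_eq_iff_eq_univ U).1 (e.trans h7.symm)
      have hp := this ▸ Finset.mem_univ p
      simpa [hU] using hp
    rw [Finset.sum_congr rfl fun p _ => hall p, Finset.sum_const, Finset.card_univ, h7, smul_eq_mul] at hsum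
    omega
  obtain ⟨r, hr⟩ : ∃ r, r ∉ U := by
    by_contra hne
    push Not at hne
    exact hU7 (by rw [Finset.eq_univ_iff_forall.2 hne, Finset.card_univ, h7])
  set v := Γ.nadj D r with hv
  have huv : u ≠ v := fun e => hr (by simp [hU, e, hv])
  set V := Finset.univ.filter fun p => Γ.nadj D p = v with hV
  have hUV : (U ∪ V).card = U.card + V.card := Finset.card_union_of_disjoint (hdj u v huv)
  have hle : (U ∪ V).card ≤ 7 := h7 ▸ (U ∪ V).card_le_univ
  have a1 := hlev u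
  have a2 := hlev v
  have b1 := hpos q
  have b2 := hpos r
  rw [← hU] at a1
  rw [← hV] at a2
  rw [← hu, ← hU] at b1
  rw [← hv, ← hV] at b2
  have hall : ∀ p, Γ.nadj D p = u ∨ Γ.nadj D p = v := by
    intro p
    by_contra hne
    push Not at hne
    have a3 := hlev (Γ.nadj D p)
    have b3 := hpos p
    have h3 : ((U ∪ V) ∪ Finset.univ.filter fun s => Γ.nadj D s = Γ.nadj D p).card =
        (U ∪ V).card + (Finset.univ.filter fun s => Γ.nadj D s = Γ.nadj D p).card := by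
      rw [Finset.card_union_of_disjoint]
      rw [Finset.disjoint_union_left]
      exact ⟨hdj u _ hne.1.symm, hdj v _ hne.2.symm⟩
    have h4 : ((U ∪ V) ∪ Finset.univ.filter fun s => Γ.nadj D s = Γ.nadj D p).card ≤ 7 :=
      h7 ▸ Finset.card_le_univ _
    omega
  have htot : U.card + V.card = 7 := by
    rw [← hUV, show U ∪ V = Finset.univ from Finset.eq_univ_iff_forall.2 fun p => by
      rcases hall p with e | e
      · exact Finset.mem_union_left _ (by simp [hU, e])
      · exact Finset.mem_union_right _ (by simp [hV, e]), Finset.card_univ, h7]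
  have hs : U.card * u + V.card * v = 60 := by
    rw [← hsum, ← Finset.sum_filter_add_sum_filter_not Finset.univ (fun p => Γ.nadj D p = u) (fun p => Γ.nadj D p),
      ← hU, Finset.sum_congr rfl (g := fun _ => u) (fun p hp => (Finset.mem_filter.1 hp).2)]
    have e : Finset.univ.filter (fun p => ¬ Γ.nadj D p = u) = V := by
      ext p
      simp only [hV, Finset.mem_filter, Finset.mem_univ, true_and]
      exact ⟨fun h => (hall p).resolve_left h, fun h h' => huv (h'.symm.trans h)⟩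
    rw [e, Finset.sum_congr rfl (g := fun _ => v) (fun p hp => (Finset.mem_filter.1 hp).2), Finset.sum_const,
      Finset.sum_const, smul_eq_mul, smul_eq_mul]
  obtain ⟨⟨i, hi⟩, hu16⟩ := Γ.nadj_four_dvd h1 h2 q
  obtain ⟨⟨j, hj⟩, hv16⟩ := Γ.nadj_four_dvd h1 h2 r
  rw [← hu] at hi hu16
  rw [← hv] at hj hv16
  have hcard4 : Nat.card {q // Γ.nadj D q = 4} = (Finset.univ.filter fun p => Γ.nadj D p = 4).card := by
    rw [Nat.card_eq_fintype_card, Fintype.card_subtype]
  rcases (show U.card = 3 ∧ V.card = 4 ∨ U.card = 4 ∧ V.card = 3 by omega) with ⟨e1, e2⟩ | ⟨e1, e2⟩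
  · rw [e1, e2] at hs
    obtain ⟨e3, e4⟩ : u = 4 ∧ v = 12 := by omega
    refine ⟨?_, fun p => by rcases hall p with e | e <;> omega⟩
    rw [hcard4, ← e3]
    exact e1
  · rw [e1, e2] at hs
    obtain ⟨e3, e4⟩ : v = 4 ∧ u = 12 := by omega
    refine ⟨?_, fun p => by rcases hall p with e | e <;> omega⟩
    rw [hcard4, ← e3]
    exact e2

omit hL in
/-- An element exchanging the base and its neighbour. -/
theorem exists_swap : ∃ h : G, h • Γ.R.base = Γ.b ∧ h • Γ.b = Γ.R.base :=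
  Γ.A_symm ((Γ.A_base Γ.b).2 (RankData.Orb.refl Γ.R Γ.b))

set_option maxHeartbeats 800000 in
/-- The points exchanged into the long suborbit have exactly four neighbours in the base class. -/
theorem nadj_swap {h : G} (hb : h • Γ.R.base = Γ.b) (hc : h • Γ.b = Γ.R.base) {e : G} (he : e ∈ Γ.R.S.E)
    (he1 : e ≠ 1) :
    h • e • Γ.b ≠ Γ.R.base ∧ ¬ Γ.R.Orb Γ.b (h • e • Γ.b) ∧ Γ.nadj (h • e • Γ.b) Γ.q₀ = 4 := by
  classical
  haveI : Fintype Γ.Cls := Fintype.ofFinite _
  have h7 : Fintype.card Γ.Cls = 7 := by rw [← Nat.card_eq_fintype_card, Γ.card_Cls]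
  have rest : ∀ e ∈ Γ.R.S.E, e ≠ 1 → h • e • Γ.b ≠ Γ.R.base ∧ ¬ Γ.R.Orb Γ.b (h • e • Γ.b) := by
    intro e he he1
    refine ⟨fun e' => he1 (Γ.free_b he (smul_left_cancel h (e'.trans hc.symm))), fun ho => ?_⟩
    have hA := (Γ.A_base _).2 ho
    rw [← hc, Γ.A_smul] at hA
    exact Γ.no_adj_class hL he he1 hA
  refine ⟨(rest e he he1).1, (rest e he he1).2, ?_⟩
  by_contra hne
  set d := h • e • Γ.b with hd
  let T : Γ.R.S.Pts → Finset Γ.Cls := fun D => Finset.univ.filter fun q => Γ.nadj D q = 4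
  have hTc : ∀ D, D ≠ Γ.R.base → ¬ Γ.R.Orb Γ.b D → (T D).card = 3 := fun D a c => by
    have := (Γ.nadj_values hL a c).1
    rw [Nat.card_eq_fintype_card, Fintype.card_subtype] at this
    exact this
  have hq : Γ.q₀ ∉ T d := fun hm => hne (Finset.mem_filter.1 hm).2
  set Z := (Finset.univ : Finset Γ.R.S.E).erase 1 with hZ
  have hsub : ((Finset.univ : Finset Γ.Cls).erase Γ.q₀).powersetCard 3 ⊆
      Z.image (fun f : Γ.R.S.E => T (h • (f : G) • Γ.b)) := by
    intro S hS
    rw [Finset.mem_powersetCard] at hS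
    have hqS : Γ.q₀ ∉ S := fun hm => Finset.ne_of_mem_erase (hS.1 hm) rfl
    obtain ⟨g, hg, hg0, hgS⟩ := AltSeven.exists_even_map (hTc d (rest e he he1).1 (rest e he he1).2) hS.2 hq hqS
    obtain ⟨l, hl, rfl⟩ := Γ.exists_L hL (g := g) (by convert hg) hg0
    have hl' : h⁻¹ * (l : G) * h ∈ Γ.L := by
      refine Γ.mem_L.2 ⟨Γ.R.smul_base.1 ?_, ?_⟩
      · rw [mul_smul, mul_smul, hb, hl.2, inv_smul_eq_iff, hb]
      · rw [mul_smul, mul_smul, hc, Γ.R.smul_base.2 l.2, inv_smul_eq_iff, hc]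
    set l' := h⁻¹ * (l : G) * h with hl'def
    refine Finset.mem_image.2 ⟨⟨l' * e * l'⁻¹, Γ.R.normal (Γ.L_le_N hl') he⟩, ?_, ?_⟩
    · exact Finset.mem_erase.2 ⟨fun e' => he1 (conj_eq_one_iff.1 (congrArg Subtype.val e')), Finset.mem_univ _⟩
    · rw [← hgS]
      have hmove : h • (l' * e * l'⁻¹) • Γ.b = (l : G) • d := by
        rw [hd]
        conv_lhs => rw [← hl'.2]
        rw [← mul_smul, ← mul_smul, mul_assoc h, inv_mul_cancel_right, ← mul_smul, ← mul_smul]
        congr 1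
        rw [hl'def]; group
      show T (h • (l' * e * l'⁻¹) • Γ.b) = _
      rw [hmove]
      ext q
      obtain ⟨p, rfl⟩ := (Γ.act l).surjective q
      simp [T, Γ.nadj_act]
  have h20 := (Finset.card_le_card hsub).trans Finset.card_image_le
  rw [Finset.card_powersetCard, Finset.card_erase_of_mem (Finset.mem_univ _), Finset.card_univ, h7, hZ,
    Finset.card_erase_of_mem (Finset.mem_univ _), Finset.card_univ, ← Nat.card_eq_fintype_card,
    Γ.R.S.card_E] at h20
  have : Nat.choose (7 - 1) 3 = 20 := by decide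
  omega

end Geo

end CfsgLib.MTwentyThreeUnique
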